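import Cfsg.Agent.Lib.Characters.Order7920.Eleven
import Cfsg.Agent.Lib.Design.Unique11
import Cfsg.Agent.Lib.Design.SharpTrans

/-!
# The invariant Steiner system S(4,5,11) of a simple group of order 7920
-/

namespace Cfsg.Agent.Lib.Characters.Order7920

open scoped ComplexConjugate Pointwise
open Cfsg Cfsg.Agent.Lib.Characters Cfsg.Agent.Lib.SylowCounting

universe u v

variable {G : Type u} [Group G] [Finite G] {X : Type u} [MulAction G X] [Finite X]
  [MulAction.IsPretransitive G X]

theorem perm_eleven [IsSimpleGroup G] (hG : Nat.card G = 7920) (hX : Nat.card X = 11) {x y z : G}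
    {f : Fin 10 → IrrCharacter G} (hf : Function.Bijective f) (f0 : f 0 = trivIrr G)
    (hd : ∀ i, deg (f i) = degs i) (hfz : ∀ i, (f i : G → ℂ) z = zcol i) :
    ∀ g : G, (Nat.card (MulAction.fixedBy X g) : ℂ) = 1 + (f 1 : G → ℂ) g := by
  classical
  haveI := Fintype.ofFinite G
  haveI := Fintype.ofFinite (IrrCharacter G)
  obtain ⟨m, hm, hmi⟩ := IsCharacter.exists_nat_decomp (isCharacter_permChar (G := G) (X := X))
  have hev : ∀ g : G, (Nat.card (MulAction.fixedBy X g) : ℂ) =
      ∑ χ : IrrCharacter G, (m χ : ℂ) * (χ : G → ℂ) g := fun g => by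
    have h := congrFun hm g
    simpa [Finset.sum_apply] using h
  haveI : Nonempty X := (Nat.card_pos_iff.1 (by rw [hX]; norm_num)).1
  have hm0 : m (f 0) = 1 := by
    have h := hmi (trivIrr G)
    rw [show ((trivIrr G : IrrCharacter G) : G → ℂ) = fun _ => 1 from rfl,
      classInner_permChar_one] at h
    haveI : Subsingleton (Quotient (MulAction.orbitRel G X)) :=
      (MulAction.pretransitive_iff_subsingleton_quotient G X).1 inferInstance
    haveI : Nonempty (Quotient (MulAction.orbitRel G X)) := ⟨Quotient.mk _ (Classical.arbitrary X)⟩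
    rw [Nat.card_unique] at h
    rw [f0]; exact_mod_cast h.symm
  have e1 : 1 + 10 * (m (f 1) + m (f 2) + m (f 3)) + 45 * m (f 4) + 16 * (m (f 5) + m (f 6)) +
      11 * m (f 7) + 44 * m (f 8) + 55 * m (f 9) = 11 := by
    have h := hev 1
    rw [show MulAction.fixedBy X (1 : G) = Set.univ by ext; simp,
      Nat.card_congr (Equiv.Set.univ _), hX, sum_table hf] at h
    simp only [deg_eq, hd, hm0] at h
    simp [degs] at h
    have h' : ((11 : ℕ) : ℂ) = ((1 + 10 * (m (f 1) + m (f 2) + m (f 3)) + 45 * m (f 4) +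
        16 * (m (f 5) + m (f 6)) + 11 * m (f 7) + 44 * m (f 8) + 55 * m (f 9) : ℕ) : ℂ) := by
      push_cast; linear_combination h
    exact_mod_cast h'.symm
  have h4 : m (f 4) = 0 := by omega
  have h5 : m (f 5) = 0 := by omega
  have h6 : m (f 6) = 0 := by omega
  have h7 : m (f 7) = 0 := by omega
  have h8 : m (f 8) = 0 := by omega
  have h9 : m (f 9) = 0 := by omega
  have hz : (Nat.card (MulAction.fixedBy X z) : ℤ) =
      1 + 2 * m (f 1) - 2 * m (f 2) - 2 * m (f 3) := by
    have h := hev z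
    rw [sum_table hf] at h
    simp only [hfz, hm0, h4, h5, h6, h7, h8, h9] at h
    simp [zcol, -Nat.card_eq_fintype_card, -Nat.card_coe_set_eq] at h
    have h' : ((Nat.card (MulAction.fixedBy X z) : ℤ) : ℂ) =
        ((1 + 2 * m (f 1) - 2 * m (f 2) - 2 * m (f 3) : ℤ) : ℂ) := by
      push_cast; linear_combination h
    exact Int.cast_injective h'
  intro g
  have h1 : m (f 1) = 1 := by omega
  have h2 : m (f 2) = 0 := by omega
  have h3 : m (f 3) = 0 := by omega
  rw [hev, sum_table hf, hm0, h1, h2, h3, h4, h5, h6, h7, h8, h9, f0]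
  simp [trivIrr]

theorem fixed_counts [IsSimpleGroup G] (hG : Nat.card G = 7920) (hX : Nat.card X = 11) :
    (∀ g : G, orderOf g = 2 → Nat.card (MulAction.fixedBy X g) = 3) ∧
      (∀ g : G, orderOf g = 3 → Nat.card (MulAction.fixedBy X g) = 2) ∧
      (∀ g : G, orderOf g = 5 → Nat.card (MulAction.fixedBy X g) = 1) ∧
      ∀ g : G, orderOf g = 11 → Nat.card (MulAction.fixedBy X g) = 0 := by
  haveI : Fact (Nat.Prime 11) := ⟨by norm_num⟩
  haveI : Fact (Nat.Prime 5) := ⟨by norm_num⟩
  haveI : Fact (Nat.Prime 2) := ⟨by norm_num⟩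
  obtain ⟨x, hx⟩ := exists_prime_orderOf_dvd_card' 11 (G := G) (by rw [hG]; norm_num)
  obtain ⟨y, hy⟩ := exists_prime_orderOf_dvd_card' 5 (G := G) (by rw [hG]; norm_num)
  obtain ⟨z, hz⟩ := exists_prime_orderOf_dvd_card' 2 (G := G) (by rw [hG]; norm_num)
  refine ⟨fun g hg => ?_, fun g hg => ?_, fun g hg => ?_, fun g hg => ?_⟩
  · obtain ⟨f, hf, f0, hd, -, -, hfz, -⟩ := exists_table_involution hG hx hy hg
    have h := perm_eleven (x := x) (y := y) hG hX hf f0 hd hfz g
    rw [hfz] at h
    simp [zcol, -Nat.card_eq_fintype_card, -Nat.card_coe_set_eq] at h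
    have h' : (Nat.card (MulAction.fixedBy X g) : ℂ) = ((3 : ℕ) : ℂ) := by rw [h]; norm_num
    exact_mod_cast h'
  · obtain ⟨f, hf, f0, hd, hfx, hfy, hfz, -⟩ := exists_table_involution hG hx hy hz
    have h := perm_eleven (x := x) (y := y) hG hX hf f0 hd hfz g
    rw [(three_column hG hx hy hz hg hf f0 hd hfx hfy hfz).1] at h
    simp [vcol, -Nat.card_eq_fintype_card, -Nat.card_coe_set_eq] at h
    have h' : (Nat.card (MulAction.fixedBy X g) : ℂ) = ((2 : ℕ) : ℂ) := by rw [h]; norm_num
    exact_mod_cast h'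
  · obtain ⟨f, hf, f0, hd, -, hfy, hfz, -⟩ := exists_table_involution hG hx hg hz
    have h := perm_eleven (x := x) (y := g) hG hX hf f0 hd hfz g
    rw [hfy] at h
    simp [ycol, -Nat.card_eq_fintype_card, -Nat.card_coe_set_eq] at h
    exact_mod_cast h
  · obtain ⟨f, hf, f0, hd, hfx, -, hfz, -⟩ := exists_table_involution hG hg hy hz
    have h := perm_eleven (x := g) (y := y) hG hX hf f0 hd hfz g
    rw [hfx] at h
    simp [xcol, -Nat.card_eq_fintype_card, -Nat.card_coe_set_eq] at h
    exact_mod_cast h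

theorem sharp [IsSimpleGroup G] (hG : Nat.card G = 7920) (hX : Nat.card X = 11) {t : Fin 4 → X}
    (ht : Function.Injective t) {g : G} (hg : ∀ j, g • t j = t j) : g = 1 := by
  by_contra h
  obtain ⟨c2, c3, c5, c11⟩ := fixed_counts hG hX
  have h1 : orderOf g ≠ 1 := fun e => h (orderOf_eq_one_iff.1 e)
  set p := (orderOf g).minFac with hp
  have hpp : p.Prime := Nat.minFac_prime h1
  have hdvd : p ∣ orderOf g := Nat.minFac_dvd _
  set k := g ^ (orderOf g / p) with hk
  have hko : orderOf k = p := by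
    rw [hk, orderOf_pow, Nat.gcd_eq_right (Nat.div_dvd_of_dvd hdvd),
      Nat.div_div_self hdvd (orderOf_pos g).ne']
  have h4 : 4 ≤ Nat.card (MulAction.fixedBy X k) := by
    have hfix : ∀ j, k • t j = t j := fun j => by
      have : k ∈ MulAction.stabilizer G (t j) := Subgroup.pow_mem _ (hg j) _
      exact this
    refine le_trans (by simp) (Nat.card_le_card_of_injective
      (fun j : Fin 4 => (⟨t j, hfix j⟩ : MulAction.fixedBy X k))
      fun a b h => ht (congrArg Subtype.val h))
  have hp7920 : p ∣ 2 ^ 4 * 3 ^ 2 * 5 * 11 := by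
    have h := hdvd.trans (orderOf_dvd_natCard g)
    rw [hG] at h
    exact h
  rcases (Nat.Prime.dvd_mul hpp).1 hp7920 with h' | h'
  rcases (Nat.Prime.dvd_mul hpp).1 h' with h' | h'
  rcases (Nat.Prime.dvd_mul hpp).1 h' with h' | h'
  · rw [(Nat.prime_dvd_prime_iff_eq hpp (by norm_num)).1 (hpp.dvd_of_dvd_pow h')] at hko
    rw [c2 k hko] at h4; omega
  · rw [(Nat.prime_dvd_prime_iff_eq hpp (by norm_num)).1 (hpp.dvd_of_dvd_pow h')] at hko
    rw [c3 k hko] at h4; omega
  · rw [(Nat.prime_dvd_prime_iff_eq hpp (by norm_num)).1 h'] at hko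
    rw [c5 k hko] at h4; omega
  · rw [(Nat.prime_dvd_prime_iff_eq hpp (by norm_num)).1 h'] at hko
    rw [c11 k hko] at h4; omega

theorem sharp_eq [IsSimpleGroup G] (hG : Nat.card G = 7920) (hX : Nat.card X = 11) {t : Fin 4 → X}
    (ht : Function.Injective t) {g h : G} (hgh : ∀ j, g • t j = h • t j) : g = h := by
  have := sharp hG hX ht (g := h⁻¹ * g) fun j => by rw [mul_smul, hgh, inv_smul_smul]
  exact (inv_mul_eq_one.1 this).symm

theorem exists_map [IsSimpleGroup G] (hG : Nat.card G = 7920) (hX : Nat.card X = 11)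
    {t t' : Fin 4 → X} (ht : Function.Injective t) (ht' : Function.Injective t') :
    ∃ g : G, ∀ j, g • t j = t' j := by
  classical
  haveI := Fintype.ofFinite X
  have h11 : Fintype.card X = 11 := by rw [← Nat.card_eq_fintype_card, hX]
  let F : G → (Fin 4 ↪ X) := fun g =>
    ⟨fun j => g • t j, fun a b h => ht (smul_left_cancel g h)⟩
  have hF : Function.Injective F := fun g h e =>
    sharp_eq hG hX ht fun j => congrArg (fun φ : Fin 4 ↪ X => φ j) e
  have hle : Nat.card (Fin 4 ↪ X) ≤ Nat.card G := by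
    rw [Nat.card_eq_fintype_card, Fintype.card_embedding_eq, h11, Fintype.card_fin, hG]
    decide
  obtain ⟨g, hg⟩ := (hF.bijective_of_nat_card_le hle).2 ⟨t', ht'⟩
  exact ⟨g, fun j => congrArg (fun φ : Fin 4 ↪ X => φ j) hg⟩

theorem involutions_conj [IsSimpleGroup G] (hG : Nat.card G = 7920) (hX : Nat.card X = 11)
    {z z' : G} (hz : orderOf z = 2) (hz' : orderOf z' = 2) : IsConj z z' := by
  haveI : Fact (Nat.Prime 11) := ⟨by norm_num⟩
  haveI : Fact (Nat.Prime 5) := ⟨by norm_num⟩
  obtain ⟨x, hx⟩ := exists_prime_orderOf_dvd_card' 11 (G := G) (by rw [hG]; norm_num)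
  obtain ⟨y, hy⟩ := exists_prime_orderOf_dvd_card' 5 (G := G) (by rw [hG]; norm_num)
  obtain ⟨f, hf, f0, hd, -, -, hfz, -⟩ := exists_table_involution hG hx hy hz
  obtain ⟨g, hg, g0, hd', -, -, hgz, -⟩ := exists_table_involution hG hx hy hz'
  have h1 : f 1 = g 1 := by
    apply Subtype.ext
    funext a
    have ha := perm_eleven (x := x) (y := y) (X := X) hG hX hf f0 hd hfz a
    have hb := perm_eleven (x := x) (y := y) (X := X) hG hX hg g0 hd' hgz a
    rw [ha] at hb
    exact add_left_cancel hb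
  rw [isConj_iff_forall_irr]
  intro χ
  obtain ⟨i, rfl⟩ := hf.2 χ
  obtain ⟨j, hj⟩ := hg.2 (f i)
  rw [hfz, ← hj, hgz]
  congr 1
  have hdij : degs j = degs i := by rw [← hd', hj, hd]
  have h1iff : j = 1 ↔ i = 1 := by
    constructor
    · rintro rfl
      exact hf.1 (hj.symm.trans h1.symm)
    · rintro rfl
      exact hg.1 (hj.trans h1)
  revert hdij h1iff
  fin_cases i <;> fin_cases j <;> simp [degs, zcol]

theorem injective_four {Y : Type*} {a b c d : Y} (h1 : a ≠ b) (h2 : a ≠ c) (h3 : a ≠ d)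
    (h4 : b ≠ c) (h5 : b ≠ d) (h6 : c ≠ d) : Function.Injective ![a, b, c, d] := by
  intro i j e
  fin_cases i <;> fin_cases j <;> first
    | rfl
    | exact absurd e h1 | exact absurd e.symm h1 | exact absurd e h2 | exact absurd e.symm h2
    | exact absurd e h3 | exact absurd e.symm h3 | exact absurd e h4 | exact absurd e.symm h4
    | exact absurd e h5 | exact absurd e.symm h5 | exact absurd e h6 | exact absurd e.symm h6

theorem exists_fix_triple [IsSimpleGroup G] (hG : Nat.card G = 7920) (hX : Nat.card X = 11)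
    {z z' : G} (hz : orderOf z = 2) (hz' : orderOf z' = 2)
    (h : MulAction.fixedBy X z = MulAction.fixedBy X z') : z = z' := by
  classical
  haveI := Fintype.ofFinite X
  haveI := Fintype.ofFinite G
  haveI : Fact (Nat.Prime 11) := ⟨by norm_num⟩
  haveI : Fact (Nat.Prime 5) := ⟨by norm_num⟩
  have h11 : Fintype.card X = 11 := by rw [← Nat.card_eq_fintype_card, hX]
  let T3 : {g : G // orderOf g = 2} → {T : Finset X // T.card = 3} := fun g =>
    ⟨(MulAction.fixedBy X (g : G)).toFinset, by
      rw [Set.toFinset_card, ← Nat.card_eq_fintype_card, (fixed_counts hG hX).1 g g.2]⟩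
  have hsurj : Function.Surjective T3 := by
    rintro ⟨T, hT⟩
    obtain ⟨a, b, c, hab, hac, hbc, rfl⟩ := Finset.card_eq_three.1 hT
    obtain ⟨d, hd⟩ : ∃ d, d ∉ ({a, b, c} : Finset X) := by
      by_contra hcon
      push Not at hcon
      have := Finset.card_le_card (show (Finset.univ : Finset X) ⊆ {a, b, c} from fun w _ => hcon w)
      rw [Finset.card_univ, h11, hT] at this
      omega
    obtain ⟨a', b', c', ha'b', ha'c', hb'c', hT0⟩ := Finset.card_eq_three.1 (T3 ⟨z, hz⟩).2
    obtain ⟨d', hd'⟩ : ∃ d, d ∉ ({a', b', c'} : Finset X) := by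
      by_contra hcon
      push Not at hcon
      have := Finset.card_le_card (show (Finset.univ : Finset X) ⊆ {a', b', c'} from fun w _ => hcon w)
      rw [Finset.card_univ, h11, ← hT0, (T3 ⟨z, hz⟩).2] at this
      omega
    simp only [Finset.mem_insert, Finset.mem_singleton, not_or] at hd hd'
    obtain ⟨hda, hdb, hdc⟩ := hd
    obtain ⟨hda', hdb', hdc'⟩ := hd'
    obtain ⟨k, hk⟩ := exists_map hG hX (t := ![a', b', c', d']) (t' := ![a, b, c, d])
      (injective_four ha'b' ha'c' (Ne.symm hda') hb'c' (Ne.symm hdb') (Ne.symm hdc'))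
      (injective_four hab hac (Ne.symm hda) hbc (Ne.symm hdb) (Ne.symm hdc))
    refine ⟨⟨k * z * k⁻¹, by
      rw [show k * z * k⁻¹ = MulAut.conj k z from (MulAut.conj_apply k z).symm, MulEquiv.orderOf_eq,
        hz]⟩, ?_⟩
    apply Subtype.ext
    refine (Finset.eq_of_subset_of_card_le ?_ (le_of_eq ?_)).symm
    · intro w hw
      show w ∈ (MulAction.fixedBy X (k * z * k⁻¹)).toFinset
      rw [Set.mem_toFinset, MulAction.mem_fixedBy]
      have hfix : ∀ u ∈ ({a', b', c'} : Finset X), z • u = u := fun u hu => by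
        rw [← hT0] at hu
        simpa [T3] using hu
      have k0 : k • a' = a := hk 0
      have k1 : k • b' = b := hk 1
      have k2 : k • c' = c := hk 2
      simp only [Finset.mem_insert, Finset.mem_singleton] at hw
      rcases hw with rfl | rfl | rfl
      · rw [← k0, mul_smul, mul_smul, inv_smul_smul, hfix a' (by simp)]
      · rw [← k1, mul_smul, mul_smul, inv_smul_smul, hfix b' (by simp)]
      · rw [← k2, mul_smul, mul_smul, inv_smul_smul, hfix c' (by simp)]
    · rw [(T3 _).2, hT]
  have hcard : Nat.card {g : G // orderOf g = 2} ≤ Nat.card {T : Finset X // T.card = 3} := by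
    obtain ⟨x, hx⟩ := exists_prime_orderOf_dvd_card' 11 (G := G) (by rw [hG]; norm_num)
    obtain ⟨y, hy⟩ := exists_prime_orderOf_dvd_card' 5 (G := G) (by rw [hG]; norm_num)
    obtain ⟨f, -, -, -, -, -, -, hC⟩ := exists_table_involution hG hx hy hz
    have h' := card_conj_mul_card_centralizer z
    rw [hC, hG] at h'
    rw [Nat.card_congr (Equiv.subtypeEquivRight fun g =>
      (⟨fun hg => involutions_conj (X := X) hG hX hz hg, fun hc => ?_⟩ : orderOf g = 2 ↔ IsConj z g))]
    · rw [Nat.card_eq_fintype_card (α := {T : Finset X // T.card = 3}), Fintype.card_finset_len,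
        h11, show Nat.choose 11 3 = 165 from rfl]
      omega
    · by_contra hne
      exact not_isConj_of_orderOf_ne (by rw [hz]; exact fun e => hne e.symm) hc
  have hinj : Function.Injective T3 := (hsurj.bijective_of_nat_card_le hcard).1
  exact congrArg Subtype.val
    (hinj (a₁ := ⟨z, hz⟩) (a₂ := ⟨z', hz'⟩) (Subtype.ext (Finset.ext fun w => by simp [T3, h])))

variable (G) in
/-- The partner of a four point set: an outside point fixed by the involutions acting on the set
without fixed points. -/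
def Partner (T : Finset X) (a : X) : Prop :=
  a ∉ T ∧ ∀ g : G, orderOf g = 2 → (∀ t ∈ T, g • t ∈ T ∧ g • t ≠ t) → g • a = a

theorem double_transpositions : ∀ σ : Fin 4 → Fin 4, (∀ j, σ (σ j) = j) → (∀ j, σ j ≠ j) →
    σ = ![1, 0, 3, 2] ∨ σ = ![2, 3, 0, 1] ∨ σ = ![3, 2, 1, 0] := by
  decide +kernel

theorem exists_tuple {T : Finset X} (hT : T.card = 4) :
    ∃ t : Fin 4 → X, Function.Injective t ∧ ∀ w, w ∈ T ↔ ∃ j, t j = w := by
  refine ⟨fun j => ((T.equivFinOfCardEq hT).symm j : X),
    fun a b h => (T.equivFinOfCardEq hT).symm.injective (Subtype.ext h), fun w => ⟨fun hw => ?_, ?_⟩⟩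
  · exact ⟨T.equivFinOfCardEq hT ⟨w, hw⟩, by simp⟩
  · rintro ⟨j, rfl⟩
    exact ((T.equivFinOfCardEq hT).symm j).2

theorem existsUnique_partner [IsSimpleGroup G] (hG : Nat.card G = 7920) (hX : Nat.card X = 11)
    {T : Finset X} (hT : T.card = 4) : ∃! a, Partner G T a := by
  classical
  haveI := Fintype.ofFinite X
  obtain ⟨t, ht, hmem⟩ := exists_tuple hT
  have hex : ∀ σ : Fin 4 → Fin 4, Function.Injective σ → ∃ g : G, ∀ j, g • t j = t (σ j) :=
    fun σ hσ => exists_map hG hX ht (ht.comp hσ)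
  obtain ⟨g1, h1⟩ := hex ![1, 0, 3, 2] (by decide)
  obtain ⟨g2, h2⟩ := hex ![2, 3, 0, 1] (by decide)
  have ho : ∀ (g : G) (σ : Fin 4 → Fin 4), (∀ j, g • t j = t (σ j)) → (∀ j, σ (σ j) = j) →
      (∀ j, σ j ≠ j) → orderOf g = 2 ∧ ∀ w ∈ T, g • w ∈ T ∧ g • w ≠ w := by
    intro g σ hg hσ hne
    refine ⟨orderOf_eq_prime ?_ ?_, fun w hw => ?_⟩
    · refine sharp hG hX ht fun j => ?_
      rw [sq, mul_smul, hg, hg, hσ]
    · intro e
      have := hg 0
      rw [e, one_smul] at this
      exact hne 0 (ht this).symm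
    · obtain ⟨j, rfl⟩ := (hmem w).1 hw
      rw [hg]
      exact ⟨(hmem _).2 ⟨_, rfl⟩, fun e => hne j (ht e)⟩
  obtain ⟨o1, w1⟩ := ho g1 _ h1 (by decide) (by decide)
  obtain ⟨o2, w2⟩ := ho g2 _ h2 (by decide) (by decide)
  have hcomm : g1 * g2 = g2 * g1 := sharp_eq hG hX ht fun j => by
    rw [mul_smul, mul_smul, h2, h1, h1, h2]
    fin_cases j <;> rfl
  have hg3 : ∀ j, (g1 * g2) • t j = t (![3, 2, 1, 0] j) := fun j => by
    rw [mul_smul, h2, h1]
    fin_cases j <;> rfl
  have hne12 : g1 ≠ g2 := by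
    rintro rfl
    have := (h1 0).symm.trans (h2 0)
    exact absurd (ht this) (by decide)
  obtain ⟨a, b, c, hab, hac, hbc, hF⟩ := Finset.card_eq_three.1
    (show (MulAction.fixedBy X g1).toFinset.card = 3 by
      rw [Set.toFinset_card, ← Nat.card_eq_fintype_card, (fixed_counts hG hX).1 g1 o1])
  have hin : ∀ w : X, g1 • w = w ↔ w = a ∨ w = b ∨ w = c := fun w => by
    have := Finset.ext_iff.1 hF w
    simpa using this
  have hpres : ∀ w : X, g1 • w = w → g1 • (g2 • w) = g2 • w := fun w hw => by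
    rw [← mul_smul, hcomm, mul_smul, hw]
  have h22 : ∀ w : X, g2 • (g2 • w) = w := fun w => by
    rw [← mul_smul, ← sq, ← o2, pow_orderOf_eq_one, one_smul]
  obtain ⟨p, hp1, hp2⟩ : ∃ p, g1 • p = p ∧ g2 • p = p := by
    by_contra hcon
    push Not at hcon
    have fa := hcon a ((hin a).2 (Or.inl rfl))
    have fb := hcon b ((hin b).2 (Or.inr (Or.inl rfl)))
    have fc := hcon c ((hin c).2 (Or.inr (Or.inr rfl)))
    have ia := (hin _).1 (hpres a ((hin a).2 (Or.inl rfl)))
    have ib := (hin _).1 (hpres b ((hin b).2 (Or.inr (Or.inl rfl))))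
    have ic := (hin _).1 (hpres c ((hin c).2 (Or.inr (Or.inr rfl))))
    have xa := h22 a
    have xb := h22 b
    have xc := h22 c
    rcases ia with e | e | e
    · exact fa e
    · rw [e] at xa
      rcases ic with e' | e' | e'
      · rw [e', e] at xc; exact hbc xc
      · rw [e', xa] at xc; exact hac xc
      · exact fc e'
    · rw [e] at xa
      rcases ib with e' | e' | e'
      · rw [e', e] at xb; exact hbc xb.symm
      · exact fb e'
      · rw [e', xa] at xb; exact hab xb
  have huniq : ∀ q : X, g1 • q = q → g2 • q = q → q = p := by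
    intro q hq1 hq2
    by_contra hqp
    refine hne12 (exists_fix_triple (X := X) hG hX o1 o2 ?_)
    have hsub : MulAction.fixedBy X g1 ⊆ MulAction.fixedBy X g2 := by
      intro w hw
      rw [MulAction.mem_fixedBy] at hw ⊢
      by_cases e1 : w = p
      · rw [e1, hp2]
      by_cases e2 : w = q
      · rw [e2, hq2]
      have hcard : ({p, q, w} : Finset X) = {a, b, c} := by
        refine Finset.eq_of_subset_of_card_le (fun u hu => ?_) ?_
        · simp only [Finset.mem_insert, Finset.mem_singleton] at hu ⊢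
          rcases hu with rfl | rfl | rfl
          · exact (hin _).1 hp1
          · exact (hin _).1 hq1
          · exact (hin _).1 hw
        · rw [Finset.card_eq_three.2 ⟨p, q, w, Ne.symm hqp, Ne.symm e1, Ne.symm e2, rfl⟩,
            Finset.card_eq_three.2 ⟨a, b, c, hab, hac, hbc, rfl⟩]
      have hm : g2 • w ∈ ({p, q, w} : Finset X) := by
        rw [hcard]
        simpa using (hin _).1 (hpres w hw)
      simp only [Finset.mem_insert, Finset.mem_singleton] at hm
      rcases hm with e | e | e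
      · exact absurd (by rw [← h22 w, e, hp2]) e1
      · exact absurd (by rw [← h22 w, e, hq2]) e2
      · exact e
    refine Set.eq_of_subset_of_ncard_le hsub ?_
    rw [← Nat.card_coe_set_eq, ← Nat.card_coe_set_eq, (fixed_counts hG hX).1 g1 o1,
      (fixed_counts hG hX).1 g2 o2]
  refine ⟨p, ⟨fun hp => (w1 p hp).2 hp1, fun g hg hgT => ?_⟩, fun q hq => ?_⟩
  · have hσ : ∀ j, ∃ i, t i = g • t j := fun j => (hmem _).1 (hgT _ ((hmem _).2 ⟨j, rfl⟩)).1
    choose σ hσ using hσ
    have hσ2 : ∀ j, σ (σ j) = j := fun j => ht (by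
      rw [hσ, hσ, ← mul_smul, ← sq, ← hg, pow_orderOf_eq_one, one_smul])
    have hσne : ∀ j, σ j ≠ j := fun j e => (hgT _ ((hmem _).2 ⟨j, rfl⟩)).2 (by rw [← hσ, e])
    rcases double_transpositions σ hσ2 hσne with e | e | e
    · rw [sharp_eq hG hX ht (g := g) (h := g1) fun j => by rw [← hσ, h1, e]]; exact hp1
    · rw [sharp_eq hG hX ht (g := g) (h := g2) fun j => by rw [← hσ, h2, e]]; exact hp2
    · rw [sharp_eq hG hX ht (g := g) (h := g1 * g2) fun j => by rw [← hσ, hg3, e], mul_smul, hp2,
        hp1]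
  · exact huniq q (hq.2 g1 o1 w1) (hq.2 g2 o2 w2)

theorem partner_smul [DecidableEq X] {T : Finset X} {a : X} (g : G) (h : Partner G T a) :
    Partner G (g • T) (g • a) := by
  refine ⟨fun hc => h.1 (Finset.smul_mem_smul_finset_iff g |>.1 hc), fun k hk hkT => ?_⟩
  have h' := h.2 (g⁻¹ * k * g) (by
    have e : MulAut.conj g⁻¹ k = g⁻¹ * k * g := by simp
    rw [← e, MulEquiv.orderOf_eq, hk]) fun t ht => by
      obtain ⟨hk1, hk2⟩ := hkT (g • t) (Finset.smul_mem_smul_finset ht)
      obtain ⟨u, hu, hu'⟩ := Finset.mem_smul_finset.1 hk1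
      refine ⟨?_, fun e => hk2 ?_⟩
      · rwa [mul_smul, mul_smul, ← hu', inv_smul_smul]
      · rwa [mul_smul, mul_smul, inv_smul_eq_iff] at e
  rwa [mul_smul, mul_smul, inv_smul_eq_iff] at h'

theorem partner_exchange [IsSimpleGroup G] (hG : Nat.card G = 7920) (hX : Nat.card X = 11)
    [DecidableEq X] {T : Finset X} {a : X} (hT : T.card = 4) (ha : Partner G T a) {w : X}
    (hw : w ∈ T) : Partner G (insert a (T.erase w)) w := by
  classical
  haveI := Fintype.ofFinite X
  obtain ⟨p, q, r, hpq, hpr, hqr, h3⟩ := Finset.card_eq_three.1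
    (show (T.erase w).card = 3 by rw [Finset.card_erase_of_mem hw, hT])
  have hm : ∀ u, (u ≠ w ∧ u ∈ T) ↔ u = p ∨ u = q ∨ u = r := fun u => by
    simpa using Finset.ext_iff.1 h3 u
  have hpw := ((hm p).2 (Or.inl rfl)).1
  have hqw := ((hm q).2 (Or.inr (Or.inl rfl))).1
  have hrw := ((hm r).2 (Or.inr (Or.inr rfl))).1
  have hinj : Function.Injective ![w, p, q, r] :=
    injective_four hpw.symm hqw.symm hrw.symm hpq hpr hqr
  obtain ⟨k, hk⟩ := exists_map hG hX (G := G) hinj
    (hinj.comp (show Function.Injective (![0, 2, 3, 1] : Fin 4 → Fin 4) by decide))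
  have kw : k • w = w := hk 0
  have kp : k • p = q := hk 1
  have kq : k • q = r := hk 2
  have kr : k • r = p := hk 3
  have hk3 : orderOf k = 3 := by
    haveI : Fact (Nat.Prime 3) := ⟨by norm_num⟩
    refine orderOf_eq_prime ?_ fun e => hpq (by rw [← kp, e, one_smul])
    refine sharp hG hX hinj fun j => ?_
    rw [pow_succ, pow_succ, pow_one, mul_smul, mul_smul]
    fin_cases j
    · show k • k • k • w = w; rw [kw, kw, kw]
    · show k • k • k • p = p; rw [kp, kq, kr]
    · show k • k • k • q = q; rw [kq, kr, kp]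
    · show k • k • k • r = r; rw [kr, kp, kq]
  have hkT : k • T = T := by
    refine Finset.eq_of_subset_of_card_le (fun u hu => ?_) (by rw [Finset.card_smul_finset])
    obtain ⟨v, hv, rfl⟩ := Finset.mem_smul_finset.1 hu
    by_cases e : v = w
    · rw [e, kw]; exact hw
    · rcases (hm v).1 ⟨e, hv⟩ with rfl | rfl | rfl
      · rw [kp]; exact ((hm q).2 (Or.inr (Or.inl rfl))).2
      · rw [kq]; exact ((hm r).2 (Or.inr (Or.inr rfl))).2
      · rw [kr]; exact ((hm p).2 (Or.inl rfl)).2
  have hka : k • a = a := by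
    have h := partner_smul k ha
    rw [hkT] at h
    exact (existsUnique_partner hG hX hT).unique h ha
  have hT' : (insert a (T.erase w)).card = 4 := by
    rw [Finset.card_insert_of_notMem (fun h => ha.1 (Finset.mem_of_mem_erase h)),
      Finset.card_erase_of_mem hw, hT]
  obtain ⟨b, hb, hbu⟩ := existsUnique_partner (G := G) hG hX hT'
  have hkT' : k • insert a (T.erase w) = insert a (T.erase w) := by
    refine Finset.eq_of_subset_of_card_le (fun u hu => ?_) (by rw [Finset.card_smul_finset])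
    obtain ⟨v, hv, rfl⟩ := Finset.mem_smul_finset.1 hu
    rw [Finset.mem_insert] at hv ⊢
    rcases hv with rfl | hv
    · exact Or.inl hka
    · refine Or.inr ?_
      rw [Finset.mem_erase] at hv ⊢
      refine ⟨fun e => hv.1 (smul_left_cancel k (e.trans kw.symm)), ?_⟩
      rw [← hkT]
      exact Finset.smul_mem_smul_finset hv.2
  have hkb : k • b = b := by
    have h := partner_smul k hb
    rw [hkT'] at h
    exact hbu _ h
  have h2 := (fixed_counts (X := X) hG hX).2.1 k hk3
  rw [Nat.card_eq_fintype_card, ← Set.toFinset_card] at h2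
  have hwa : w ≠ a := fun e => ha.1 (e ▸ hw)
  have heq : ({w, a} : Finset X) = (MulAction.fixedBy X k).toFinset := by
    refine Finset.eq_of_subset_of_card_le (fun u hu => ?_) (by rw [h2, Finset.card_pair hwa])
    simp only [Finset.mem_insert, Finset.mem_singleton] at hu
    rcases hu with rfl | rfl <;> simp [kw, hka]
  have hbm : b ∈ ({w, a} : Finset X) := by rw [heq]; simp [hkb]
  simp only [Finset.mem_insert, Finset.mem_singleton] at hbm
  rcases hbm with rfl | rfl
  · exact hb
  · exact absurd (Finset.mem_insert_self _ _) hb.1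

/-- A simple group of order 7920 is the automorphism group of some S(4,5,11). -/
theorem exists_steiner (G : Type u) [Group G] [Finite G] [IsSimpleGroup G]
    (hG : Nat.card G = 7920) :
    ∃ B : Set (Finset (Fin 11)), Cfsg.IsSteinerSystem 4 5 B ∧
      Nonempty (G ≃* Cfsg.setSystemAut B) := by
  classical
  obtain ⟨H, hH⟩ := exists_index_eleven hG
  haveI := Fintype.ofFinite (G ⧸ H)
  have hX : Nat.card (G ⧸ H) = 11 := hH
  have h11 : Fintype.card (G ⧸ H) = 11 := by rw [← Nat.card_eq_fintype_card, hX]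
  set B : Set (Finset (G ⧸ H)) :=
    {b | ∃ T a, T.card = 4 ∧ Partner G T a ∧ b = insert a T} with hB
  have hS : Cfsg.IsSteinerSystem 4 5 B := by
    refine ⟨?_, fun s hs => ?_⟩
    · rintro b ⟨T, a, hT, ha, rfl⟩
      rw [Finset.card_insert_of_notMem ha.1, hT]
    · obtain ⟨a, ha, hau⟩ := existsUnique_partner (G := G) hG hX hs
      refine ⟨insert a s, ⟨⟨s, a, hs, ha, rfl⟩, Finset.subset_insert _ _⟩, ?_⟩
      rintro b ⟨⟨T, c, hT, hc, rfl⟩, hsub⟩
      by_cases hcs : c ∈ s
      · obtain ⟨w, hwT, hws⟩ : ∃ w ∈ T, w ∉ s := by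
          by_contra hcon
          push Not at hcon
          have := Finset.card_le_card (Finset.insert_subset_iff.2 ⟨hcs, hcon⟩ : insert c T ⊆ s)
          rw [Finset.card_insert_of_notMem hc.1, hT, hs] at this
          omega
        have hseq : s = insert c (T.erase w) := by
          refine Finset.eq_of_subset_of_card_le (fun u hu => ?_) ?_
          · rcases Finset.mem_insert.1 (hsub hu) with e | e
            · exact Finset.mem_insert.2 (Or.inl e)
            · exact Finset.mem_insert.2 (Or.inr (Finset.mem_erase.2 ⟨fun e' => hws (e' ▸ hu), e⟩))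
          · rw [Finset.card_insert_of_notMem fun h => hc.1 (Finset.mem_of_mem_erase h),
              Finset.card_erase_of_mem hwT, hT, hs]
        have hp := partner_exchange hG hX hT hc hwT
        rw [← hseq] at hp
        rw [← hau w hp, hseq, Finset.insert_comm, Finset.insert_erase hwT]
      · have hsT : s = T := by
          refine Finset.eq_of_subset_of_card_le (fun u hu => ?_) (by rw [hT, hs])
          exact (Finset.mem_insert.1 (hsub hu)).resolve_left fun e => hcs (e ▸ hu)
        subst hsT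
        rw [hau c hc]
  have hinv : ∀ g : G, MulAction.toPermHom G (G ⧸ H) g ∈ Cfsg.setSystemAut B := by
    intro g
    have key : ∀ (k : G), ∀ b ∈ B, k • b ∈ B := by
      rintro k b ⟨T, a, hT, ha, rfl⟩
      exact ⟨k • T, k • a, by rw [Finset.card_smul_finset, hT], partner_smul k ha,
        Finset.smul_finset_insert k a T⟩
    have e : ∀ b : Finset (G ⧸ H), (MulAction.toPermHom G (G ⧸ H) g) • b = g • b := fun b => rfl
    refine MulAction.mem_stabilizer_iff.2 (Set.ext fun b => ?_)
    constructor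
    · rintro ⟨b', hb', rfl⟩
      show (MulAction.toPermHom G (G ⧸ H) g) • b' ∈ B
      rw [e]; exact key g b' hb'
    · intro hb
      refine ⟨g⁻¹ • b, key g⁻¹ b hb, ?_⟩
      show (MulAction.toPermHom G (G ⧸ H) g) • (g⁻¹ • b) = b
      rw [e, smul_inv_smul]
  let ψ : G →* Cfsg.setSystemAut B := (MulAction.toPermHom G (G ⧸ H)).codRestrict _ hinv
  have hψ : Function.Injective ψ := fun a b h => by
    refine toPermHom_injective H (fun e => ?_) (congrArg Subtype.val h)
    rw [e, Subgroup.index_top] at hH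
    norm_num at hH
  obtain ⟨h1, h2⟩ := Cfsg.Agent.Lib.Design.aut11_sharp h11 hS
  haveI := h1
  have hA : Nat.card (Cfsg.setSystemAut B) = 7920 :=
    (Cfsg.Agent.Lib.Design.sharp_four_eleven hX h2).2
  have hbij : Function.Bijective ψ := hψ.bijective_of_nat_card_le (by rw [hA, hG])
  let e : G ⧸ H ≃ Fin 11 := Fintype.equivFinOfCardEq h11
  exact ⟨Cfsg.Agent.Lib.Design.famImg e B, Cfsg.Agent.Lib.Design.isSteiner_famImg e hS,
    ⟨(MulEquiv.ofBijective ψ hbij).trans (Cfsg.Agent.Lib.Design.autEquiv e B)⟩⟩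

theorem nonempty_mulEquiv (G : Type u) [Group G] [Finite G] [IsSimpleGroup G]
    (hG : Nat.card G = 7920) (K : Type v) [Group K] [Finite K] [IsSimpleGroup K]
    (hK : Nat.card K = 7920) : Nonempty (G ≃* K) := by
  obtain ⟨B, hB, ⟨e⟩⟩ := exists_steiner G hG
  obtain ⟨B', hB', ⟨e'⟩⟩ := exists_steiner K hK
  obtain ⟨σ, hσ⟩ := Cfsg.Agent.Lib.Design.iso11 (Fintype.card_fin 11) (Fintype.card_fin 11) hB hB'
  subst hσ
  exact ⟨e.trans ((Cfsg.Agent.Lib.Design.autEquiv σ B).trans e'.symm)⟩

end Cfsg.Agent.Lib.Characters.Order7920
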