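import Cfsg.Agent.Lib.Characters.Kernel
import Cfsg.Agent.Lib.Characters.Eigen
import Cfsg.Agent.Lib.Characters.Integrality
import Cfsg.Agent.Lib.Characters.Convolution
import Cfsg.Agent.Lib.SylowCounting.InvolutionTrace
import Cfsg.Agent.Lib.SylowCounting.Embedding

/-!
# Character values at elements of small prime order
-/

namespace Cfsg.Agent.Lib.Characters.Order7920

open scoped ComplexConjugate
open Cfsg Cfsg.Agent.Lib.Characters Cfsg.Agent.Lib.SylowCounting

universe u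

variable {G : Type u} [Group G] [Finite G]

/-- Values of a nontrivial irreducible character of a simple group at an involution. -/
theorem involution_value [IsSimpleGroup G] (hG : ¬ IsMulCommutative G) {χ : G → ℂ}
    (hχ : IsIrrCharacter G χ) (hne : χ ≠ fun _ => 1) {d : ℕ} (hd : χ 1 = d) {t : G}
    (ht : orderOf t = 2) :
    ∃ m : ℕ, Even m ∧ 0 < m ∧ m < d ∧ χ t = ((d : ℤ) - 2 * (m : ℤ) : ℤ) := by
  obtain ⟨n, ρ, hρ, rfl⟩ := hχ
  haveI := hρ
  have hn : n = d := by
    rw [ρ.char_one, Module.finrank_fin_fun] at hd; exact_mod_cast hd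
  subst hn
  have hinj : Function.Injective ρ := rep_injective_of_isSimpleGroup ρ hne
  have ht1 : t ≠ 1 := fun h => by rw [h, orderOf_one] at ht; omega
  have htt : t * t = 1 := by rw [← sq, ← ht, pow_orderOf_eq_one]
  obtain ⟨m, hle, htr, hdet, h0, hfull⟩ := exists_minus_dim
    (A := ρ t) (by rw [← map_mul, htt, map_one])
  rw [Module.finrank_fin_fun] at hle htr hfull
  have hdet1 : LinearMap.det (ρ t) = 1 := by
    let f : G →* ℂ := (LinearMap.det : ((Fin n → ℂ) →ₗ[ℂ] (Fin n → ℂ)) →* ℂ).comp ρ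
    have := hom_zmod_trivial hG f.toHomUnits t
    simpa [f] using congrArg Units.val this
  refine ⟨m, ?_, Nat.pos_of_ne_zero fun hm => ht1 (hinj (by rw [h0 hm, map_one])),
    lt_of_le_of_ne hle fun hm => ?_, ?_⟩
  · rw [hdet1] at hdet
    rcases Nat.even_or_odd m with he | he
    · exact he
    · rw [he.neg_one_pow] at hdet; norm_num at hdet
  · have hm1 := hfull hm
    have hc : ∀ g, g * t = t * g := fun g => hinj (by
      rw [map_mul, map_mul, hm1]
      apply LinearMap.ext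
      intro v
      simp [Module.End.mul_apply])
    have hz : t ∈ Subgroup.center G := Subgroup.mem_center_iff.2 hc
    rcases IsSimpleGroup.eq_bot_or_eq_top_of_normal (Subgroup.center G) inferInstance with h | h
    · exact ht1 (Subgroup.mem_bot.1 (h ▸ hz))
    · exact hG ⟨⟨fun a b => (Subgroup.mem_center_iff.1 (h ▸ Subgroup.mem_top a) b).symm⟩⟩
  · show LinearMap.trace ℂ _ (ρ t) = _
    rw [htr]; push_cast; ring

/-- The multiplicities of a character on a cyclic group of prime order. -/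
theorem exists_mult {χ : G → ℂ} (hχ : IsCharacter G χ) {p : ℕ} [Fact p.Prime] {x : G}
    (hx : x ^ p = 1) {ω : ℂ} (hω : IsPrimitiveRoot ω p) {d : ℕ} (hd : χ 1 = d) :
    ∃ m : Fin p → ℕ, ∑ j, m j = d ∧
      ∀ k : ℕ, χ (x ^ k) = ∑ j, (m j : ℂ) * ω ^ ((j : ℕ) * k) := by
  classical
  have hp := Fact.out (p := p.Prime)
  obtain ⟨n, ρ, rfl⟩ := hχ
  have hn : n = d := by
    rw [ρ.char_one, Module.finrank_fin_fun] at hd; exact_mod_cast hd
  obtain ⟨ι, hι, b, μ, hb, hμ⟩ := exists_eigenbasis (ρ x) hp.ne_zero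
    (by rw [← map_pow, hx, map_one])
  have hj : ∀ i, ∃ j : Fin p, ω ^ (j : ℕ) = μ i := fun i => by
    obtain ⟨j, hj, h⟩ := hω.eq_pow_of_pow_eq_one (hμ i)
    exact ⟨⟨j, hj⟩, h⟩
  choose J hJ using hj
  refine ⟨fun j => (Finset.univ.filter fun i => J i = j).card, ?_, fun k => ?_⟩
  · rw [← Finset.card_eq_sum_card_fiberwise (fun i _ => Finset.mem_univ _), Finset.card_univ,
      ← Module.finrank_eq_card_basis b, Module.finrank_fin_fun, hn]
  · show LinearMap.trace ℂ _ (ρ (x ^ k)) = _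
    rw [map_pow, trace_pow_eq_sum_eigen b _ μ hb k,
      ← Finset.sum_fiberwise_of_maps_to (g := J) (fun i _ => Finset.mem_univ _)]
    refine Finset.sum_congr rfl fun j _ => ?_
    rw [Finset.sum_congr rfl fun i hi => ?_, Finset.sum_const, nsmul_eq_mul]
    rw [← hJ i, (Finset.mem_filter.1 hi).2, ← pow_mul]

theorem int_dvd_of_isIntegral {n : ℤ} {q : ℕ} (hq : q ≠ 0)
    (h : IsIntegral ℤ ((n : ℂ) / q)) : ∃ z : ℤ, n = q * z := by
  have h' : IsIntegral ℤ ((((n : ℚ) / q : ℚ)) : ℂ) := by push_cast; exact h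
  obtain ⟨z, hz⟩ := exists_int_of_isIntegral_rat h'
  refine ⟨z, ?_⟩
  have hq' : (q : ℚ) ≠ 0 := by exact_mod_cast hq
  rw [div_eq_iff hq'] at hz
  have : (n : ℚ) = ((q * z : ℤ) : ℚ) := by push_cast; rw [hz]; ring
  exact_mod_cast this

/-- A character constant on the nontrivial elements of a group of prime order is an integer
there, congruent to the degree. -/
theorem rational_value {χ : G → ℂ} (hχ : IsCharacter G χ) {p : ℕ} [Fact p.Prime] {x : G}
    (hx : x ^ p = 1) (hconst : ∀ k, 0 < k → k < p → χ (x ^ k) = χ x) {d : ℕ} (hd : χ 1 = d) :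
    ∃ a : ℤ, χ x = a ∧ (p : ℤ) ∣ a - d := by
  have hp := Fact.out (p := p.Prime)
  have hω := Complex.isPrimitiveRoot_exp p hp.ne_zero
  obtain ⟨m, hm, hval⟩ := exists_mult hχ hx hω hd
  set ω := Complex.exp (2 * Real.pi * Complex.I / p)
  have htot : ∑ k ∈ Finset.range p, χ (x ^ k) = (p : ℂ) * m 0 := by
    simp only [hval]
    rw [Finset.sum_comm, Finset.sum_eq_single (0 : Fin p)]
    · simp
    · intro j _ hj
      rw [← Finset.mul_sum]
      have hgs : ∑ k ∈ Finset.range p, (ω ^ (j : ℕ)) ^ k = 0 :=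
        (hω.pow_of_coprime j (hp.coprime_iff_not_dvd.2 fun h => hj (Fin.ext
          (Nat.eq_zero_of_dvd_of_lt h j.2))).symm).geom_sum_eq_zero hp.one_lt
      simp_rw [pow_mul]; rw [hgs, mul_zero]
    · simp
  rw [Finset.range_eq_Ico, Finset.sum_eq_sum_Ico_succ_bot hp.pos,
    Finset.sum_congr rfl fun k hk => hconst k (by simp at hk; omega) (by simp at hk; omega),
    Finset.sum_const, Nat.card_Ico, nsmul_eq_mul, pow_zero, hd] at htot
  have hp1 : (p - 1 : ℕ) ≠ 0 := by have := hp.two_le; omega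
  have hA : χ x = (((p : ℤ) * (m 0 : ℤ) - (d : ℤ) : ℤ) : ℂ) / ((p - 1 : ℕ) : ℂ) := by
    rw [eq_div_iff (by exact_mod_cast hp1)]
    push_cast [Nat.cast_sub hp.one_le] at htot ⊢
    linear_combination htot
  obtain ⟨z, hz⟩ : ∃ z : ℤ, (p : ℤ) * (m 0 : ℤ) - (d : ℤ) = ((p - 1 : ℕ) : ℤ) * z := by
    refine int_dvd_of_isIntegral hp1 ?_
    rw [← hA]; exact IsCharacter.isIntegral hχ x
  refine ⟨z, ?_, ?_⟩
  · rw [hA, hz]; push_cast
    rw [mul_div_cancel_left₀]; exact_mod_cast hp1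
  · refine ⟨z - (m 0 : ℤ), ?_⟩
    push_cast [Nat.cast_sub hp.one_le] at hz
    linear_combination hz

/-- The Gauss period `ω + ω³ + ω⁴ + ω⁵ + ω⁹` for a primitive eleventh root of unity. -/
noncomputable def eta : ℂ :=
  let ω := Complex.exp (2 * Real.pi * Complex.I / (11 : ℕ))
  ω + ω ^ 3 + ω ^ 4 + ω ^ 5 + ω ^ 9

theorem sum_fin_eleven {M : Type*} [AddCommMonoid M] (f : Fin 11 → M) :
    ∑ i, f i = f 0 + f 1 + f 2 + f 3 + f 4 + f 5 + f 6 + f 7 + f 8 + f 9 + f 10 := by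
  simp [Fin.sum_univ_castSucc]

theorem sum_range_eleven {ω : ℂ} (hω : IsPrimitiveRoot ω 11) :
    1 + ω + ω ^ 2 + ω ^ 3 + ω ^ 4 + ω ^ 5 + ω ^ 6 + ω ^ 7 + ω ^ 8 + ω ^ 9 + ω ^ 10 = 0 := by
  have h := hω.geom_sum_eq_zero (by norm_num)
  simp only [Finset.sum_range_succ, Finset.sum_range_zero] at h
  linear_combination h

theorem eta_conj : conj eta = -1 - eta := by
  have hω := Complex.isPrimitiveRoot_exp 11 (by norm_num)
  set ω := Complex.exp (2 * Real.pi * Complex.I / (11 : ℕ)) with hωdef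
  have heta : eta = ω + ω ^ 3 + ω ^ 4 + ω ^ 5 + ω ^ 9 := rfl
  have h11 : ω ^ 11 = 1 := hω.pow_eq_one
  have hc : conj ω = ω ^ 10 := by
    rw [← Complex.inv_eq_conj (norm_eq_one_of_pow_eq_one' (by norm_num) h11)]
    exact inv_eq_of_mul_eq_one_right (by rw [← pow_succ', h11])
  have hs := sum_range_eleven hω
  rw [heta]
  simp only [map_add, map_pow, hc]
  rw [← pow_mul, ← pow_mul, ← pow_mul, ← pow_mul]
  rw [pow_eq_pow_mod (10 * 3) h11, pow_eq_pow_mod (10 * 4) h11, pow_eq_pow_mod (10 * 5) h11,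
    pow_eq_pow_mod (10 * 9) h11]
  linear_combination hs

theorem eta_sq : eta * eta = -eta - 3 := by
  have hω := Complex.isPrimitiveRoot_exp 11 (by norm_num)
  set ω := Complex.exp (2 * Real.pi * Complex.I / (11 : ℕ)) with hωdef
  have heta : eta = ω + ω ^ 3 + ω ^ 4 + ω ^ 5 + ω ^ 9 := rfl
  have h11 : ω ^ 11 = 1 := hω.pow_eq_one
  have hs := sum_range_eleven hω
  rw [heta]
  linear_combination 3 * hs + (2 * ω + 2 * ω ^ 2 + 2 * ω ^ 3 + ω ^ 7) * h11

theorem eta_diff_ne : eta - conj eta ≠ 0 := by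
  intro h
  rw [eta_conj] at h
  have h1 := eta_sq
  have : eta = -1 / 2 := by linear_combination (1 / 2 : ℂ) * h
  rw [this] at h1; norm_num at h1

/-- Comparing coefficients of `1` and `η`. -/
theorem eta_coeff {a b : ℤ} (h : (a : ℂ) + b * eta = 0) : a = 0 ∧ b = 0 := by
  have h' := congrArg conj h
  simp only [map_add, map_mul, map_intCast, map_zero] at h'
  have : (b : ℂ) * (eta - conj eta) = 0 := by linear_combination h - h'
  rcases mul_eq_zero.1 this with hb | hb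
  · rw [hb, zero_mul, add_zero] at h
    exact ⟨by exact_mod_cast h, by exact_mod_cast hb⟩
  · exact absurd hb eta_diff_ne

/-- A character constant on the classes `x^k`, `k` a square modulo eleven. -/
theorem period_value {χ : G → ℂ} (hχ : IsCharacter G χ) {x : G}
    (hx : x ^ 11 = 1) (h3 : χ (x ^ 3) = χ x) (h4 : χ (x ^ 4) = χ x) (h5 : χ (x ^ 5) = χ x)
    (h9 : χ (x ^ 9) = χ x) {d : ℕ} (hd : χ 1 = d) :
    ∃ a b : ℤ, χ x = a + b * eta ∧ (11 : ℤ) ∣ a + 5 * b - d := by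
  haveI : Fact (Nat.Prime 11) := ⟨by norm_num⟩
  have hω := Complex.isPrimitiveRoot_exp 11 (by norm_num)
  obtain ⟨m, hm, hval⟩ := exists_mult hχ hx hω hd
  set ω := Complex.exp (2 * Real.pi * Complex.I / (11 : ℕ)) with hωdef
  have heta : eta = ω + ω ^ 3 + ω ^ 4 + ω ^ 5 + ω ^ 9 := rfl
  have h11 : ω ^ 11 = 1 := hω.pow_eq_one
  have hs := sum_range_eleven hω
  have hval' : ∀ k : ℕ, χ (x ^ k) = ∑ j, (m j : ℂ) * ω ^ (((j : Fin 11) : ℕ) * k % 11) := fun k => by
    rw [hval]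
    exact Finset.sum_congr rfl fun j _ => by rw [← pow_eq_pow_mod _ h11]
  have e1 := hval' 1
  have e3 := hval' 3
  have e4 := hval' 4
  have e5 := hval' 5
  have e9 := hval' 9
  rw [h3] at e3; rw [h4] at e4; rw [h5] at e5; rw [h9] at e9
  rw [pow_one] at e1
  norm_num [sum_fin_eleven] at e1 e3 e4 e5 e9 hm
  set n0 : ℤ := (m 0 : ℤ) with hn0
  set MQ : ℤ := (m 1 : ℤ) + m 3 + m 4 + m 5 + m 9 with hMQ
  set MN : ℤ := (m 2 : ℤ) + m 6 + m 7 + m 8 + m 10 with hMN
  have hval5 : (5 : ℂ) * χ x = ((5 * n0 - MN : ℤ) : ℂ) + ((MQ - MN : ℤ) : ℂ) * eta := by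
    simp only [hn0, hMQ, hMN, heta]
    push_cast
    linear_combination e1 + e3 + e4 + e5 + e9 +
      ((m 2 : ℂ) + m 6 + m 7 + m 8 + m 10) * hs
  have hsum : n0 + MQ + MN = (d : ℤ) := by
    simp only [hn0, hMQ, hMN]
    rw [← hm]; push_cast
    ring
  obtain ⟨b, hb⟩ : ∃ b, MQ - MN = (5 : ℕ) * b := by
    have hint : IsIntegral ℤ ((χ x - conj (χ x)) * (χ x - conj (χ x))) := by
      rw [← IsCharacter.apply_inv hχ]
      exact ((IsCharacter.isIntegral hχ x).sub (IsCharacter.isIntegral hχ x⁻¹)).mul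
        ((IsCharacter.isIntegral hχ x).sub (IsCharacter.isIntegral hχ x⁻¹))
    have hc := congrArg conj hval5
    simp only [map_add, map_mul, map_intCast, map_ofNat, eta_conj] at hc
    have : (χ x - conj (χ x)) * (χ x - conj (χ x)) =
        ((-11 * (MQ - MN) ^ 2 : ℤ) : ℂ) / ((25 : ℕ) : ℂ) := by
      have hd' : χ x - conj (χ x) = ((MQ - MN : ℤ) : ℂ) * (1 + 2 * eta) / 5 := by
        field_simp
        linear_combination hval5 - hc
      rw [hd']
      push_cast
      field_simp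
      linear_combination (100 * ((MQ : ℂ) - MN) ^ 2) * eta_sq
    obtain ⟨z, hz⟩ := int_dvd_of_isIntegral (by norm_num) (this ▸ hint)
    have h5p : Prime (5 : ℤ) := Int.prime_iff_natAbs_prime.2 (by norm_num)
    refine h5p.dvd_of_dvd_pow (n := 2) ?_
    have : (5 : ℤ) ∣ 11 * (MQ - MN) ^ 2 := ⟨-5 * z, by push_cast at hz; linarith⟩
    exact (h5p.dvd_or_dvd this).resolve_left (by norm_num)
  obtain ⟨a, ha⟩ : ∃ a, 5 * n0 - MN = (5 : ℕ) * a := by
    refine int_dvd_of_isIntegral (by norm_num) ?_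
    have : ((5 * n0 - MN : ℤ) : ℂ) / ((5 : ℕ) : ℂ) = χ x - (b : ℂ) * eta := by
      rw [hb] at hval5
      push_cast at hval5 ⊢
      linear_combination (-1 / 5 : ℂ) * hval5
    rw [this]
    refine (IsCharacter.isIntegral hχ x).sub ((isIntegral_algebraMap (R := ℤ) (x := b)).mul ?_)
    rw [heta]
    have hωi := isIntegral_of_pow_eq_one (by norm_num) h11
    exact ((((hωi.add (hωi.pow 3)).add (hωi.pow 4)).add (hωi.pow 5)).add (hωi.pow 9))
  refine ⟨a, b, ?_, ?_⟩
  · rw [hb, ha] at hval5; push_cast at hval5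
    linear_combination (1 / 5 : ℂ) * hval5
  · have h : (11 : ℤ) ∣ 5 * (a + 5 * b - d) := ⟨-MN, by push_cast at ha hb; linarith⟩
    exact (Int.Prime.dvd_mul' (by norm_num : Nat.Prime 11) (by exact_mod_cast h)).resolve_left
      (by norm_num)

/-- An irreducible character value times the class size is divisible by the degree. -/
theorem class_dvd {χ : G → ℂ} (hχ : IsIrrCharacter G χ) {g : G} {d K : ℕ} {v : ℤ}
    (hd : χ 1 = d) (hd0 : d ≠ 0) (hK : Nat.card {x : G // IsConj g x} = K) (hv : χ g = v) :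
    (d : ℤ) ∣ K * v := by
  have h := IsIrrCharacter.isIntegral_centralChar hχ g
  rw [hK, hd, hv] at h
  obtain ⟨z, hz⟩ := int_dvd_of_isIntegral (n := (K : ℤ) * v) hd0 (by push_cast; exact h)
  exact ⟨z, hz⟩

end Cfsg.Agent.Lib.Characters.Order7920
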