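import Cfsg.Agent.Lib.SylowCounting.DegreeKill
import Cfsg.Agent.Lib.Characters.Ortho

/-!
# Sylow subgroups of a simple group of order 7920 for the primes 11, 5 and 3
-/

namespace Cfsg.Agent.Lib.Characters.Order7920

open Cfsg Cfsg.Agent.Lib.SylowCounting

universe u

variable {G : Type u} [Group G] [Finite G]

theorem not_comm [IsSimpleGroup G] (hG : Nat.card G = 7920) : ¬ IsMulCommutative G :=
  not_comm_of_not_prime (by rw [hG]; norm_num)

theorem sylow_eleven_count [IsSimpleGroup G] (hG : Nat.card G = 7920) :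
    Nat.card (Sylow 11 G) = 144 := by
  have h := sylow_count_mem_of_excluded (G := G) 7920 11 720 89 (by norm_num) (by norm_num)
    (by norm_num) (by norm_num) (by norm_num) hG {144} (by decide +kernel)
  simpa using h

/-- Data of a Sylow subgroup of prime order through one of its elements. -/
theorem sylow_of_orderOf {p : ℕ} [hp : Fact p.Prime] {x : G} (hx : orderOf x = p)
    {m : ℕ} (hG : Nat.card G = p ^ 1 * m) (hm : ¬ p ∣ m) :
    ∃ P : Sylow p G, (P : Subgroup G) = Subgroup.zpowers x := by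
  have h1 : Nat.card (Subgroup.zpowers x) = p := by rw [Nat.card_zpowers, hx]
  obtain ⟨P, hP⟩ := (IsPGroup.of_card (n := 1) (by rw [h1, pow_one]) :
    IsPGroup p (Subgroup.zpowers x)).exists_le_sylow
  refine ⟨P, ((Subgroup.eq_of_le_of_card_ge hP ?_)).symm⟩
  rw [sylow_card hG hm P, h1, pow_one]

theorem normalizer_card_of_count {p r : ℕ} [Fact p.Prime] (P : Sylow p G)
    (h : Nat.card (Sylow p G) = r) :
    r * Nat.card (Subgroup.normalizer ((P : Subgroup G) : Set G)) = Nat.card G := by
  rw [← (Subgroup.normalizer ((P : Subgroup G) : Set G)).index_mul_card, ← h,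
    Sylow.card_eq_index_normalizer P]
  rfl

theorem centralizer_singleton_eq_zpowers (x : G) :
    Subgroup.centralizer ({x} : Set G) = Subgroup.centralizer (Subgroup.zpowers x : Set G) := by
  rw [Subgroup.zpowers_eq_closure, Subgroup.centralizer_closure]

theorem eleven_data [IsSimpleGroup G] (hG : Nat.card G = 7920) {x : G} (hx : orderOf x = 11) :
    Nat.card (Subgroup.normalizer (Subgroup.zpowers x : Set G)) = 55 ∧
      Nat.card (Subgroup.centralizer ({x} : Set G)) = 11 := by
  haveI : Fact (Nat.Prime 11) := ⟨by norm_num⟩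
  obtain ⟨P, hP⟩ := sylow_of_orderOf hx (m := 720) (by rw [hG]; norm_num) (by norm_num)
  have hN := normalizer_card_of_count P (sylow_eleven_count hG)
  rw [hG] at hN
  have hN' : Nat.card (Subgroup.normalizer ((P : Subgroup G) : Set G)) = 55 := by omega
  obtain ⟨e, c, hec, he1, hed, hpc, hc⟩ := normalizer_card_eq (not_comm hG) P
    (by rw [hP, Nat.card_zpowers, hx])
  rw [← hP]
  refine ⟨hN', ?_⟩
  rw [centralizer_singleton_eq_zpowers, ← hP, ← hc]
  obtain ⟨k, rfl⟩ := hpc
  rw [hN'] at hec
  have : e * k = 5 := by rw [mul_left_comm] at hec; omega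
  rcases (Nat.dvd_prime (by norm_num : Nat.Prime 5)).1 ⟨k, this.symm⟩ with rfl | rfl
  · omega
  · omega

theorem centralizer_eleven [IsSimpleGroup G] (hG : Nat.card G = 7920) {x : G}
    (hx : orderOf x = 11) : Subgroup.centralizer ({x} : Set G) = Subgroup.zpowers x := by
  refine (Subgroup.eq_of_le_of_card_ge ?_ ?_).symm
  · rw [Subgroup.zpowers_le]; exact Subgroup.mem_centralizer_singleton_iff.2 rfl
  · rw [(eleven_data hG hx).2, Nat.card_zpowers, hx]

/-- Nothing but elements of order dividing eleven commutes with an element of order eleven. -/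
theorem not_eleven_dvd_centralizer [IsSimpleGroup G] (hG : Nat.card G = 7920) {g : G}
    (hg : g ^ 11 ≠ 1) : ¬ 11 ∣ Nat.card (Subgroup.centralizer ({g} : Set G)) := by
  haveI : Fact (Nat.Prime 11) := ⟨by norm_num⟩
  intro h
  obtain ⟨z, hz⟩ := exists_prime_orderOf_dvd_card' 11 h
  have hz' : orderOf (z : G) = 11 := by rw [Subgroup.orderOf_coe, hz]
  have hgz : g ∈ Subgroup.zpowers (z : G) := by
    rw [← centralizer_eleven hG hz', Subgroup.mem_centralizer_singleton_iff]
    exact (Subgroup.mem_centralizer_singleton_iff.1 z.2).symm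
  obtain ⟨i, hi⟩ := Subgroup.mem_zpowers_iff.1 hgz
  apply hg
  rw [← hi, ← zpow_natCast, ← zpow_mul, mul_comm, zpow_mul, zpow_natCast, ← hz', pow_orderOf_eq_one,
    one_zpow]

theorem conj_pow_of_normalizer {x g : G} (hx : IsOfFinOrder x)
    (hg : g ∈ Subgroup.normalizer (Subgroup.zpowers x : Set G)) :
    ∃ k < orderOf x, g * x * g⁻¹ = x ^ k := by
  classical
  have h1 : g * x * g⁻¹ ∈ Subgroup.zpowers x :=
    (Subgroup.mem_normalizer_iff.1 hg x).1 (Subgroup.mem_zpowers x)
  rw [← mem_powers_iff_mem_zpowers, Submonoid.mem_powers_iff] at h1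
  obtain ⟨k, hk⟩ := h1
  exact ⟨k % orderOf x, Nat.mod_lt _ hx.orderOf_pos, by rw [pow_mod_orderOf, hk]⟩

theorem conj_iterate {x g : G} {k : ℕ} (h : g * x * g⁻¹ = x ^ k) :
    ∀ i : ℕ, g ^ i * x * (g ^ i)⁻¹ = x ^ (k ^ i)
  | 0 => by simp
  | i + 1 => by
    have hstep : g ^ (i + 1) * x * (g ^ (i + 1))⁻¹ = g * (g ^ i * x * (g ^ i)⁻¹) * g⁻¹ := by
      rw [pow_succ']; group
    rw [hstep, conj_iterate h i, ← conj_pow, h, ← pow_mul, pow_succ, mul_comm k]

theorem isConj_powers_eleven [IsSimpleGroup G] (hG : Nat.card G = 7920) {x : G}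
    (hx : orderOf x = 11) :
    IsConj x (x ^ 3) ∧ IsConj x (x ^ 4) ∧ IsConj x (x ^ 5) ∧ IsConj x (x ^ 9) := by
  obtain ⟨hN, hC⟩ := eleven_data hG hx
  haveI : Fact (Nat.Prime 5) := ⟨by norm_num⟩
  obtain ⟨g, hg⟩ := exists_prime_orderOf_dvd_card' 5
    (G := Subgroup.normalizer (Subgroup.zpowers x : Set G)) (by rw [hN]; norm_num)
  have hg' : orderOf (g : G) = 5 := by rw [Subgroup.orderOf_coe, hg]
  obtain ⟨k, hk, hconj⟩ := conj_pow_of_normalizer (isOfFinOrder_of_finite x) g.2
  rw [hx] at hk
  have hk1 : k ≠ 1 := by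
    rintro rfl
    rw [pow_one, mul_inv_eq_iff_eq_mul] at hconj
    have : (g : G) ∈ Subgroup.zpowers x :=
      (centralizer_eleven hG hx).le (Subgroup.mem_centralizer_singleton_iff.2 hconj)
    have := orderOf_dvd_of_mem_zpowers this
    rw [hg', hx] at this; norm_num at this
  have h5 : k ^ 5 ≡ 1 [MOD 11] := by
    have h := conj_iterate hconj 5
    rw [← hg', pow_orderOf_eq_one, hg', one_mul, inv_one, mul_one] at h
    rw [← hx, ← pow_eq_pow_iff_modEq, pow_one, ← h]
  have hc : ∀ i m : ℕ, k ^ i % 11 = m → IsConj x (x ^ m) := fun i m hm =>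
    isConj_iff.2 ⟨(g : G) ^ i, by rw [conj_iterate hconj i, ← pow_mod_orderOf, hx, hm]⟩
  unfold Nat.ModEq at h5
  interval_cases k <;> (try norm_num at hk1) <;> (try norm_num at h5) <;>
    exact ⟨by first | exact hc 1 3 rfl | exact hc 2 3 rfl |
        exact hc 3 3 rfl | exact hc 4 3 rfl,
      by first | exact hc 1 4 rfl | exact hc 2 4 rfl |
        exact hc 3 4 rfl | exact hc 4 4 rfl,
      by first | exact hc 1 5 rfl | exact hc 2 5 rfl |
        exact hc 3 5 rfl | exact hc 4 5 rfl,
      by first | exact hc 1 9 rfl | exact hc 2 9 rfl |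
        exact hc 3 9 rfl | exact hc 4 9 rfl⟩

/-- An element of order eleven is not inverted. -/
theorem not_inverted_eleven [IsSimpleGroup G] (hG : Nat.card G = 7920) {x : G}
    (hx : orderOf x = 11) (c : G) : c * x * c⁻¹ ≠ x⁻¹ := by
  intro hc
  have hcN : c ∈ Subgroup.normalizer (Subgroup.zpowers x : Set G) := by
    rw [Subgroup.mem_normalizer_iff]
    intro y
    have h1 : ∀ i : ℤ, c * x ^ i * c⁻¹ = x ^ (-i) := fun i => by
      rw [← conj_zpow, hc, inv_zpow, zpow_neg]
    constructor
    · intro hy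
      obtain ⟨i, rfl⟩ := Subgroup.mem_zpowers_iff.1 hy
      rw [h1]; exact Subgroup.zpow_mem _ (Subgroup.mem_zpowers x) _
    · intro hy
      obtain ⟨i, hi⟩ := Subgroup.mem_zpowers_iff.1 hy
      have : y = x ^ (-i) := by
        have h2 := h1 (-i)
        rw [neg_neg, hi] at h2
        simpa using h2.symm
      rw [this]; exact Subgroup.zpow_mem _ (Subgroup.mem_zpowers x) _
  have h55 : c ^ 55 = 1 := by
    have := pow_card_eq_one' (x := (⟨c, hcN⟩ : Subgroup.normalizer (Subgroup.zpowers x : Set G)))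
    rw [(eleven_data hG hx).1] at this
    simpa using congrArg Subtype.val this
  have hsq : c ^ 2 ∈ Subgroup.centralizer ({x} : Set G) := by
    rw [Subgroup.mem_centralizer_singleton_iff]
    have h2 : c ^ 2 * x * (c ^ 2)⁻¹ = x := by
      have : c ^ 2 * x * (c ^ 2)⁻¹ = c * (c * x * c⁻¹) * c⁻¹ := by rw [sq]; group
      rw [this, hc, ← conj_inv, hc, inv_inv]
    rwa [mul_inv_eq_iff_eq_mul] at h2
  have h56 : c ^ 56 = c := by rw [pow_succ, h55, one_mul]
  have hcC : c ∈ Subgroup.centralizer ({x} : Set G) := by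
    have h := Subgroup.pow_mem _ hsq 28
    rwa [← pow_mul, h56] at h
  rw [Subgroup.mem_centralizer_singleton_iff] at hcC
  rw [hcC, mul_inv_cancel_right] at hc
  have h2 : x ^ 2 = 1 := by rw [sq]; nth_rewrite 2 [hc]; exact mul_inv_cancel x
  have := orderOf_dvd_of_pow_eq_one h2
  rw [hx] at this; norm_num at this

/-- A Sylow 5-subgroup, once involutions are known to centralise no element of order five. -/
theorem five_data [IsSimpleGroup G] (hG : Nat.card G = 7920)
    (h5 : ∀ z : G, orderOf z = 2 → ¬ 5 ∣ Nat.card (Subgroup.centralizer ({z} : Set G)))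
    {y : G} (hy : orderOf y = 5) :
    Nat.card (Subgroup.normalizer (Subgroup.zpowers y : Set G)) = 20 ∧
      Nat.card (Subgroup.centralizer ({y} : Set G)) = 5 := by
  haveI : Fact (Nat.Prime 5) := ⟨by norm_num⟩
  obtain ⟨P, hP⟩ := sylow_of_orderOf hy (m := 1584) (by rw [hG]; norm_num) (by norm_num)
  have hcnt := sylow_count_mem_of_excluded (G := G) 7920 5 1584 89 (by norm_num) (by norm_num)
    (by norm_num) (by norm_num) (by norm_num) hG {11, 36, 66, 396} (by decide +kernel)
  obtain ⟨e, c, hec, he1, hed, hpc, hc⟩ := normalizer_card_eq (not_comm hG) P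
    (by rw [hP, Nat.card_zpowers, hy])
  rw [hP, ← centralizer_singleton_eq_zpowers] at hc
  have hN := normalizer_card_of_count P rfl
  rw [hec, hG] at hN
  rw [hP] at hec
  have h2 : ¬ 2 ∣ c := by
    intro h
    rw [hc] at h
    haveI : Fact (Nat.Prime 2) := ⟨by norm_num⟩
    obtain ⟨t, ht⟩ := exists_prime_orderOf_dvd_card' 2 h
    refine h5 t (by rw [Subgroup.orderOf_coe, ht]) ?_
    have hyt : y ∈ Subgroup.centralizer ({(t : G)} : Set G) :=
      Subgroup.mem_centralizer_singleton_iff.2 (Subgroup.mem_centralizer_singleton_iff.1 t.2).symm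
    have := (Subgroup.centralizer ({(t : G)} : Set G)).orderOf_dvd_natCard hyt
    rwa [hy] at this
  have h11 : ¬ 11 ∣ c := by
    rw [hc]
    refine not_eleven_dvd_centralizer hG fun h => ?_
    have := orderOf_dvd_of_pow_eq_one h
    rw [hy] at this; norm_num at this
  rw [← hc]
  have he4 : e ≤ 4 := Nat.le_of_dvd (by norm_num) hed
  simp only [Finset.mem_insert, Finset.mem_singleton] at hcnt
  rcases hcnt with h | h | h | h <;> rw [h] at hN <;> interval_cases e <;>
    (try norm_num at hed) <;> first | omega | exact ⟨by omega, by omega⟩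

/-- All nontrivial powers of an element of order five are conjugate. -/
theorem isConj_powers_five [IsSimpleGroup G] (hG : Nat.card G = 7920)
    (h5 : ∀ z : G, orderOf z = 2 → ¬ 5 ∣ Nat.card (Subgroup.centralizer ({z} : Set G)))
    {y : G} (hy : orderOf y = 5) {k : ℕ} (hk0 : 0 < k) (hk : k < 5) : IsConj y (y ^ k) := by
  classical
  obtain ⟨hN, hC⟩ := five_data hG h5 hy
  set N := Subgroup.normalizer (Subgroup.zpowers y : Set G) with hNdef
  let y' : N := ⟨y, Subgroup.le_normalizer (Subgroup.mem_zpowers y)⟩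
  have hh : ∀ z : {z : N // IsConj y' z},
      ∃ i : {i : Fin 5 // i ≠ 0}, y ^ ((i : Fin 5) : ℕ) = ((z : N) : G) := fun z => by
    obtain ⟨g, hg⟩ := isConj_iff.1 z.2
    obtain ⟨i, hi, h⟩ := conj_pow_of_normalizer (isOfFinOrder_of_finite y) g.2
    rw [hy] at hi
    have hz : ((z : N) : G) = y ^ i := by rw [← hg]; exact h
    refine ⟨⟨⟨i, hi⟩, fun h0 => ?_⟩, hz.symm⟩
    have hi0 : i = 0 := congrArg Fin.val h0
    rw [hi0, pow_zero] at hz
    have h1 : (z : N) = 1 := Subtype.ext hz
    have h2 := z.2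
    rw [h1, isConj_one_left] at h2
    have : y = 1 := congrArg Subtype.val h2
    rw [this, orderOf_one] at hy; norm_num at hy
  choose f hf' using hh
  have hf : Function.Injective f := fun z w h =>
    Subtype.ext (Subtype.ext (by rw [← hf' z, ← hf' w, h]))
  have hcen : Nat.card (Subgroup.centralizer ({y'} : Set N)) = 5 := by
    refine le_antisymm (le_trans ?_ hC.le) ?_
    · let φ : Subgroup.centralizer ({y'} : Set N) → Subgroup.centralizer ({y} : Set G) := fun z =>
        ⟨((z : N) : G), by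
          have h := Subgroup.mem_centralizer_singleton_iff.1 z.2
          have h' := congrArg Subtype.val h
          exact Subgroup.mem_centralizer_singleton_iff.2 h'⟩
      refine Nat.card_le_card_of_injective φ fun a b h => ?_
      exact Subtype.ext (Subtype.ext (congrArg Subtype.val h :))
    · have h := Subgroup.card_le_of_le (H := Subgroup.zpowers y')
        (K := Subgroup.centralizer ({y'} : Set N))
        (by rw [Subgroup.zpowers_le]; exact Subgroup.mem_centralizer_singleton_iff.2 rfl)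
      rwa [Nat.card_zpowers, ← Subgroup.orderOf_coe, hy] at h
  have hcard : Nat.card {z : N // IsConj y' z} = 4 := by
    have h := card_conj_mul_card_centralizer y'
    rw [hcen, hN] at h; omega
  have hfb : Function.Bijective f := by
    refine ⟨hf, ?_⟩
    have h4 : Nat.card {i : Fin 5 // i ≠ 0} = 4 := by
      rw [Nat.card_eq_fintype_card]; rfl
    exact (hf.bijective_of_nat_card_le (by rw [hcard, h4])).2
  obtain ⟨z, hz⟩ := hfb.2 ⟨⟨k, hk⟩, by intro h; simp [Fin.ext_iff] at h; omega⟩
  have e1 := hf' z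
  rw [hz] at e1
  rw [show y ^ k = ((z : N) : G) from e1]
  exact (N.subtype.map_isConj z.2 :)

/-- The centraliser of an element of order three has order divisible by nine. -/
theorem nine_dvd_centralizer (hG : Nat.card G = 7920) {v : G} (hv : orderOf v = 3) :
    9 ∣ Nat.card (Subgroup.centralizer ({v} : Set G)) := by
  haveI : Fact (Nat.Prime 3) := ⟨by norm_num⟩
  obtain ⟨P, hP⟩ := (IsPGroup.of_card (n := 1) (by rw [Nat.card_zpowers, hv, pow_one]) :
    IsPGroup 3 (Subgroup.zpowers v)).exists_le_sylow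
  have hcard : Nat.card (P : Subgroup G) = 3 ^ 2 :=
    sylow_card (k := 2) (m := 880) (by rw [hG]; norm_num) (by norm_num) P
  have hle : (P : Subgroup G) ≤ Subgroup.centralizer ({v} : Set G) := fun a ha => by
    rw [Subgroup.mem_centralizer_singleton_iff]
    exact congrArg Subtype.val ((IsPGroup.commutative_of_card_eq_prime_sq hcard)
      ⟨a, ha⟩ ⟨v, hP (Subgroup.mem_zpowers v)⟩)
  have := Subgroup.card_dvd_of_le hle
  rwa [hcard] at this

end Cfsg.Agent.Lib.Characters.Order7920
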