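import Cfsg.Agent.Lib.Characters.Order7920.Values
import Cfsg.Agent.Lib.Characters.Order7920.Local
import Cfsg.Agent.Lib.SylowCounting.DegreeEquation

/-!
# Character columns of a simple group of order 7920
-/

namespace Cfsg.Agent.Lib.Characters.Order7920

open scoped ComplexConjugate
open Cfsg Cfsg.Agent.Lib.Characters Cfsg.Agent.Lib.SylowCounting

universe u

variable {G : Type u} [Group G] [Finite G]

theorem sum_of_range {ι κ : Type*} [Fintype ι] [Fintype κ] {M : Type*} [AddCommMonoid M]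
    (f : κ → ι) (hf : Function.Injective f) (F : ι → M) (h0 : ∀ i, (∀ k, f k ≠ i) → F i = 0) :
    ∑ i, F i = ∑ k, F (f k) := by
  classical
  rw [← Finset.sum_image (f := F) (g := f) fun a _ b _ h => hf h]
  symm
  refine Finset.sum_subset (Finset.subset_univ _) fun i _ hi => h0 i fun k hk => hi ?_
  exact Finset.mem_image.2 ⟨k, Finset.mem_univ _, hk⟩

theorem sum_three {ι : Type*} [DecidableEq ι] (S : Finset ι) (d : ι → ℕ) (F : ι → ℤ)
    (h : ∀ i ∈ S, d i = 10 ∨ d i = 12 ∨ d i = 45) :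
    ∑ i ∈ S, F i = ∑ i ∈ S.filter (fun i => d i = 10), F i +
      ∑ i ∈ S.filter (fun i => d i = 12), F i + ∑ i ∈ S.filter (fun i => d i = 45), F i := by
  rw [Finset.sum_filter, Finset.sum_filter, Finset.sum_filter, ← Finset.sum_add_distrib,
    ← Finset.sum_add_distrib]
  refine Finset.sum_congr rfl fun i hi => ?_
  rcases h i hi with h | h | h <;> simp [h]

theorem one_lt_degree [IsSimpleGroup G] (hG : Nat.card G = 7920) {χ : IrrCharacter G}
    (hne : χ ≠ trivIrr G) {d : ℕ} (hd : (χ : G → ℂ) 1 = d) : 2 < d := by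
  haveI : Fact (Nat.Prime 2) := ⟨by norm_num⟩
  obtain ⟨t, ht⟩ := exists_prime_orderOf_dvd_card' 2 (G := G) (by rw [hG]; norm_num)
  obtain ⟨m, hm, h0, hlt, -⟩ := involution_value (not_comm hG) χ.2
    (fun h => hne (Subtype.ext h)) hd ht
  obtain ⟨k, rfl⟩ := hm
  omega

theorem exists_degree (χ : IrrCharacter G) :
    ∃ n : ℕ, 0 < n ∧ (χ : G → ℂ) 1 = n ∧ n ∣ Nat.card G :=
  IsIrrCharacter.exists_degree_dvd χ.2

/-- The degree of an irreducible character. -/
noncomputable def deg (χ : IrrCharacter G) : ℕ := (exists_degree χ).choose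

theorem deg_pos (χ : IrrCharacter G) : 0 < deg χ := (exists_degree χ).choose_spec.1

theorem deg_eq (χ : IrrCharacter G) : (χ : G → ℂ) 1 = deg χ := (exists_degree χ).choose_spec.2.1

theorem deg_dvd (χ : IrrCharacter G) : deg χ ∣ Nat.card G := (exists_degree χ).choose_spec.2.2

theorem deg_triv : deg (trivIrr G) = 1 := by
  have h : (1 : ℂ) = ((deg (trivIrr G) : ℕ) : ℂ) := deg_eq (trivIrr G)
  exact_mod_cast h.symm

theorem sum_deg_sq [Fintype (IrrCharacter G)] :
    ∑ χ : IrrCharacter G, deg χ ^ 2 = Nat.card G := by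
  have h := sum_degree_sq (G := G)
  simp only [deg_eq] at h
  exact_mod_cast h

/-- Degrees `d` of the support of the column of an element of order eleven. -/
theorem small_degrees : ∀ d : ℕ, d < 89 → d ∣ 7920 → 2 < d →
    ((((d : ℤ) - 1) % 11 = 0 → d = 12 ∨ d = 45) ∧ (((d : ℤ) + 1) % 11 = 0 → d = 10)) := by
  decide +kernel

set_option synthInstance.maxSize 2000 in
-- a long bounded statement
theorem pair_degrees : ∀ d : ℕ, d < 63 → d ∣ 7920 → 2 < d →
    ((((d : ℤ) - 5) % 11 = 0 → d = 5 ∨ d = 16 ∨ d = 60) ∧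
      (((d : ℤ) - 6) % 11 = 0 → d = 6)) := by
  decide +kernel

/-- The two possible supports of the column of an element `x` of order eleven. -/
def CaseA (x : G) (f : Fin 7 → IrrCharacter G) : Prop :=
  Function.Injective f ∧ f 0 = trivIrr G ∧ (∀ i, deg (f i) = ![1, 5, 5, 10, 10, 12, 12] i) ∧
    (∀ i, (f i : G → ℂ) x = ![1, eta, -1 - eta, -1, -1, 1, 1] i) ∧
    ∀ χ, (∀ i, f i ≠ χ) → (χ : G → ℂ) x = 0 ∧ 11 ∣ deg χ

@[inherit_doc CaseA]
def CaseB (x : G) (f : Fin 7 → IrrCharacter G) : Prop :=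
  Function.Injective f ∧ f 0 = trivIrr G ∧ (∀ i, deg (f i) = ![1, 16, 16, 10, 10, 10, 45] i) ∧
    (∀ i, (f i : G → ℂ) x = ![1, eta, -1 - eta, -1, -1, -1, 1] i) ∧
    ∀ χ, (∀ i, f i ≠ χ) → (χ : G → ℂ) x = 0 ∧ 11 ∣ deg χ

set_option maxHeartbeats 1000000 in
-- one long proof
theorem case_split [IsSimpleGroup G] (hG : Nat.card G = 7920) {x : G} (hx : orderOf x = 11) :
    (∃ f, CaseA x f) ∨ ∃ f, CaseB x f := by
  classical
  haveI := Fintype.ofFinite G
  haveI := Fintype.ofFinite (IrrCharacter G)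
  obtain ⟨c3, c4, c5, c9⟩ := isConj_powers_eleven hG hx
  have h11 : x ^ 11 = 1 := by rw [← hx, pow_orderOf_eq_one]
  have hval : ∀ χ : IrrCharacter G,
      ∃ a b : ℤ, (χ : G → ℂ) x = a + b * eta ∧ (11 : ℤ) ∣ a + 5 * b - deg χ := fun χ => by
    have hc := fun {y : G} (h : IsConj x y) =>
      (IsClassFunction.eq_of_isConj (irr_isClassFunction χ) h).symm
    exact period_value (irr_isCharacter χ) h11 (hc c3) (hc c4) (hc c5) (hc c9) (deg_eq χ)
  choose A B hAB hcong using hval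
  have hinv : ∀ χ : IrrCharacter G,
      (χ : G → ℂ) x⁻¹ = ((A χ - B χ : ℤ) : ℂ) + ((-B χ : ℤ) : ℂ) * eta := fun χ => by
    rw [IsCharacter.apply_inv (irr_isCharacter χ), hAB, map_add, map_mul, map_intCast,
      map_intCast, eta_conj]
    push_cast; ring
  have hC : (Nat.card (Subgroup.centralizer ({x} : Set G)) : ℂ) = 11 := by
    rw [(eleven_data hG hx).2]; norm_num
  have horth1 : ∑ χ, (A χ ^ 2 - A χ * B χ + 3 * B χ ^ 2) = 11 := by
    have h := sum_irr_mul_conj x x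
    rw [if_pos (IsConj.refl x), hC] at h
    have e : ∀ χ : IrrCharacter G, (χ : G → ℂ) x * conj ((χ : G → ℂ) x) =
        ((A χ ^ 2 - A χ * B χ + 3 * B χ ^ 2 : ℤ) : ℂ) := fun χ => by
      rw [← IsCharacter.apply_inv (irr_isCharacter χ), hinv, hAB]
      push_cast
      linear_combination (-(B χ : ℂ) ^ 2) * eta_sq
    rw [Finset.sum_congr rfl fun χ _ => e χ] at h
    exact_mod_cast h
  have hnc : ¬ IsConj x x⁻¹ := fun h => by
    obtain ⟨c, hc⟩ := isConj_iff.1 h
    exact not_inverted_eleven hG hx c hc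
  obtain ⟨horth2, horth3⟩ : ∑ χ, (A χ ^ 2 - 3 * B χ ^ 2) = 0 ∧
      ∑ χ, (2 * A χ * B χ - B χ ^ 2) = 0 := by
    have h := sum_irr_mul_conj x x⁻¹
    rw [if_neg hnc] at h
    have e : ∀ χ : IrrCharacter G, (χ : G → ℂ) x * conj ((χ : G → ℂ) x⁻¹) =
        ((A χ ^ 2 - 3 * B χ ^ 2 : ℤ) : ℂ) + ((2 * A χ * B χ - B χ ^ 2 : ℤ) : ℂ) * eta := fun χ => by
      rw [← IsCharacter.apply_inv (irr_isCharacter χ), inv_inv, hAB]
      push_cast
      linear_combination ((B χ : ℂ) ^ 2) * eta_sq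
    rw [Finset.sum_congr rfl fun χ _ => e χ, Finset.sum_add_distrib, ← Finset.sum_mul,
      ← Int.cast_sum, ← Int.cast_sum] at h
    exact eta_coeff h
  obtain ⟨hB2, hA2⟩ : ∑ χ, B χ ^ 2 = 2 ∧ ∑ χ, A χ ^ 2 = 6 := by
    simp only [Finset.sum_add_distrib, Finset.sum_sub_distrib, ← Finset.mul_sum,
      mul_assoc] at horth1 horth2 horth3
    omega
  obtain ⟨p₀, q₀, hpq₀, hp₀, hq₀, hrest⟩ := two_support B hB2
  let cj : IrrCharacter G → IrrCharacter G := fun χ =>
    ⟨fun g => conj ((χ : G → ℂ) g), IsIrrCharacter.conjugate χ.2⟩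
  have hcj : ∀ χ, A (cj χ) = A χ - B χ ∧ B (cj χ) = -B χ ∧ deg (cj χ) = deg χ := fun χ => by
    have h1 : (cj χ : G → ℂ) x = (χ : G → ℂ) x⁻¹ :=
      (IsCharacter.apply_inv (irr_isCharacter χ) x).symm
    rw [hAB, hinv] at h1
    obtain ⟨h2, h3⟩ := eta_coeff (a := A (cj χ) - (A χ - B χ)) (b := B (cj χ) - (-B χ))
      (by push_cast at h1 ⊢; linear_combination h1)
    refine ⟨by omega, by omega, ?_⟩
    have h4 : (cj χ : G → ℂ) 1 = conj ((χ : G → ℂ) 1) := rfl
    rw [deg_eq, deg_eq, map_natCast] at h4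
    exact_mod_cast h4
  obtain ⟨p, hp⟩ : ∃ p, B p = 1 := by
    rcases sq_eq_one_iff.1 hp₀ with h | h
    · exact ⟨p₀, h⟩
    · exact ⟨cj p₀, by rw [(hcj p₀).2.1, h]; rfl⟩
  set q := cj p with hqdef
  have hqB : B q = -1 := by rw [(hcj p).2.1, hp]
  have hqA : A q = A p - 1 := by rw [(hcj p).1, hp]
  have hqD : deg q = deg p := (hcj p).2.2
  have hpq : p ≠ q := fun h => by rw [← h, hp] at hqB; norm_num at hqB
  have hother : ∀ χ, χ ≠ p → χ ≠ q → B χ = 0 := by
    have hin : ∀ χ, B χ ≠ 0 → χ = p₀ ∨ χ = q₀ := fun χ h => by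
      by_contra hc
      rw [not_or] at hc
      exact h (hrest χ hc.1 hc.2)
    intro χ h1 h2
    by_contra h
    rcases hin χ h with e | e <;> rcases hin p (by omega) with h' | h' <;>
      rcases hin q (by omega) with h'' | h'' <;>
      first
        | exact h1 (e.trans h'.symm)
        | exact h2 (e.trans h''.symm)
        | exact hpq (h'.trans h''.symm)
  set o := trivIrr G with hodef
  obtain ⟨hoA, hoB⟩ : A o = 1 ∧ B o = 0 := by
    have h : (1 : ℂ) = (A o : ℂ) + (B o : ℂ) * eta := hAB o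
    obtain ⟨h1, h2⟩ := eta_coeff (a := A o - 1) (b := B o)
      (by push_cast; linear_combination -h)
    exact ⟨by omega, h2⟩
  have hop : o ≠ p := fun h => by rw [← h, hoB] at hp; norm_num at hp
  have hoq : o ≠ q := fun h => by rw [← h, hoB] at hqB; norm_num at hqB
  set T := ((Finset.univ.erase o).erase p).erase q with hT
  have hsplit : ∀ F : IrrCharacter G → ℤ, ∑ χ, F χ = F o + F p + F q + ∑ χ ∈ T, F χ := fun F => by
    rw [← Finset.add_sum_erase _ F (Finset.mem_univ o),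
      ← Finset.add_sum_erase _ F (Finset.mem_erase.2 ⟨hop.symm, Finset.mem_univ _⟩),
      ← Finset.add_sum_erase _ F (Finset.mem_erase.2 ⟨hpq.symm,
        Finset.mem_erase.2 ⟨hoq.symm, Finset.mem_univ _⟩⟩)]
    ring
  have hTB : ∀ χ ∈ T, B χ = 0 ∧ χ ≠ o := fun χ hχ => by
    simp only [hT, Finset.mem_erase] at hχ
    exact ⟨hother χ hχ.2.1 hχ.1, hχ.2.2.1⟩
  set S := T.filter fun χ => A χ ≠ 0 with hS
  have hSsum : ∀ F : IrrCharacter G → ℤ, (∀ χ, A χ = 0 → F χ = 0) →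
      ∑ χ ∈ T, F χ = ∑ χ ∈ S, F χ := fun F hF => by
    rw [hS, Finset.sum_filter_of_ne]
    intro χ _ h hA; exact h (hF χ hA)
  have hreg : 1 + (deg p : ℤ) * (2 * A p - 1) + ∑ χ ∈ S, (deg χ : ℤ) * A χ = 0 := by
    have h := sum_degree_mul (G := G) x
    rw [if_neg (fun h => by rw [h, orderOf_one] at hx; norm_num at hx)] at h
    simp only [deg_eq, hAB, mul_add, Finset.sum_add_distrib, ← mul_assoc, ← Finset.sum_mul] at h
    have h' := (eta_coeff (a := ∑ χ, (deg χ : ℤ) * A χ) (b := ∑ χ, (deg χ : ℤ) * B χ)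
      (by push_cast; exact h)).1
    rw [hsplit, hSsum _ (fun χ h => by rw [h, mul_zero]), hoA, hqA, hqD, deg_triv] at h'
    push_cast at h'
    linarith
  have hsq : ∑ χ ∈ S, A χ ^ 2 + A p ^ 2 + (A p - 1) ^ 2 = 5 := by
    rw [hsplit, hSsum _ (fun χ h => by rw [h]; norm_num), hoA, hqA] at hA2
    linarith
  have hsize : 1 + 2 * (deg p : ℤ) ^ 2 + ∑ χ ∈ S, (deg χ : ℤ) ^ 2 ≤ 7920 := by
    have h : ((∑ χ : IrrCharacter G, deg χ ^ 2 : ℕ) : ℤ) = 7920 := by rw [sum_deg_sq, hG]; rfl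
    push_cast at h
    rw [hsplit, hqD, deg_triv] at h
    push_cast at h
    have hle : ∑ χ ∈ S, (deg χ : ℤ) ^ 2 ≤ ∑ χ ∈ T, (deg χ : ℤ) ^ 2 :=
      Finset.sum_le_sum_of_subset_of_nonneg (Finset.filter_subset _ _) fun i _ _ => sq_nonneg _
    linarith
  have hSnn : 0 ≤ ∑ χ ∈ S, A χ ^ 2 := Finset.sum_nonneg fun i _ => sq_nonneg _
  have hSmem : ∀ χ ∈ S, B χ = 0 ∧ χ ≠ o ∧ A χ ≠ 0 ∧ (11 : ℤ) ∣ A χ - deg χ := fun χ hχ => by
    rw [hS, Finset.mem_filter] at hχ
    obtain ⟨h1, h2⟩ := hTB χ hχ.1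
    refine ⟨h1, h2, hχ.2, ?_⟩
    have := hcong χ
    rwa [h1, mul_zero, add_zero] at this
  have hAp : -1 ≤ A p ∧ A p ≤ 2 := by constructor <;> nlinarith
  have hdp := deg_pos p
  have hp1 : p ≠ o := hop.symm
  -- the exceptional pair has a coordinate `0` or `1`
  have hAp' : A p = 0 ∨ A p = 1 := by
    by_contra hc
    have h0 : ∑ χ ∈ S, A χ ^ 2 = 0 := by
      obtain ⟨h1, h2⟩ := hAp
      interval_cases A p <;> first
        | exact absurd (Or.inl rfl) hc
        | exact absurd (Or.inr rfl) hc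
        | (norm_num at hsq; linarith)
    have hSe : S = ∅ := by
      by_contra hne
      obtain ⟨χ, hχ⟩ := Finset.nonempty_iff_ne_empty.2 hne
      have := (Finset.sum_eq_zero_iff_of_nonneg (fun i _ => sq_nonneg (A i))).1 h0 χ hχ
      exact (hSmem χ hχ).2.2.1 (pow_eq_zero_iff (two_ne_zero) |>.1 this)
    rw [hSe, Finset.sum_empty] at hreg
    obtain ⟨h1, h2⟩ := hAp
    interval_cases A p <;> norm_num at hreg hc <;> omega
  have hS4 : ∑ χ ∈ S, A χ ^ 2 = 4 := by rcases hAp' with h | h <;> rw [h] at hsq <;> linarith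
  have hdp63 : deg p < 63 := by
    by_contra h
    have h2 : (0 : ℤ) ≤ ∑ χ ∈ S, (deg χ : ℤ) ^ 2 := Finset.sum_nonneg fun i _ => sq_nonneg _
    have : (63 : ℤ) ≤ deg p := by exact_mod_cast not_lt.1 h
    nlinarith
  have hdp2 : 2 < deg p := one_lt_degree hG hp1 (deg_eq p)
  have hdpd : deg p ∣ 7920 := hG ▸ deg_dvd p
  obtain ⟨hpa, hpb⟩ := pair_degrees (deg p) hdp63 hdpd hdp2
  have hpc := hcong p
  rw [hp] at hpc
  have hdeg89 : ∀ χ ∈ S, deg χ < 89 := fun χ hχ => by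
    by_contra h
    have h1 := Finset.single_le_sum (fun i _ => sq_nonneg ((deg i : ℤ))) hχ
    have : (89 : ℤ) ≤ deg χ := by exact_mod_cast not_lt.1 h
    nlinarith
  -- all entries of `S` are `± 1`
  have hone : ∀ χ ∈ S, A χ = 1 ∨ A χ = -1 := by
    intro χ hχ
    have h1 := Finset.single_le_sum (fun i _ => sq_nonneg (A i)) hχ
    rw [hS4] at h1
    have h2 : -2 ≤ A χ ∧ A χ ≤ 2 := by constructor <;> nlinarith
    by_contra hc
    have h3 : A χ ^ 2 = 4 := by
      obtain ⟨h2, h2'⟩ := h2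
      have := (hSmem χ hχ).2.2.1
      interval_cases A χ <;> first
        | exact absurd rfl this
        | exact absurd (Or.inl rfl) hc
        | exact absurd (Or.inr rfl) hc
        | norm_num
    have h4 : S.erase χ = ∅ := by
      by_contra hne
      obtain ⟨ψ, hψ⟩ := Finset.nonempty_iff_ne_empty.2 hne
      rw [← Finset.add_sum_erase _ _ hχ, h3] at hS4
      have := (Finset.sum_eq_zero_iff_of_nonneg (fun i _ => sq_nonneg (A i))).1
        (by linarith : ∑ i ∈ S.erase χ, A i ^ 2 = 0) ψ hψ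
      exact (hSmem ψ (Finset.mem_of_mem_erase hψ)).2.2.1 (pow_eq_zero_iff (two_ne_zero) |>.1 this)
    rw [← Finset.add_sum_erase _ _ hχ, h4, Finset.sum_empty, add_zero] at hreg
    have hd2 := one_lt_degree hG (hSmem χ hχ).2.1 (deg_eq χ)
    have hdc := (hSmem χ hχ).2.2.2
    have h5 : A χ = 2 ∨ A χ = -2 :=
      sq_eq_sq_iff_eq_or_eq_neg.1 (by rw [h3]; norm_num)
    rcases hAp' with h | h <;> rw [h] at hreg hpc
    · have := hpa (Int.emod_eq_zero_of_dvd (by simpa using dvd_neg.2 hpc))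
      rcases h5 with h5 | h5 <;> rw [h5] at hreg hdc <;> omega
    · have := hpb (Int.emod_eq_zero_of_dvd (by simpa using dvd_neg.2 hpc))
      rcases h5 with h5 | h5 <;> rw [h5] at hreg hdc <;> omega
  have hcard : S.card = 4 := by
    have h : ∑ χ ∈ S, A χ ^ 2 = ∑ χ ∈ S, (1 : ℤ) :=
      Finset.sum_congr rfl fun χ hχ => by rcases hone χ hχ with h | h <;> rw [h] <;> norm_num
    rw [hS4, Finset.sum_const, nsmul_eq_mul, mul_one] at h
    exact_mod_cast h.symm
  have hdeg : ∀ χ ∈ S, (deg χ = 10 ∧ A χ = -1) ∨ (deg χ = 12 ∧ A χ = 1) ∨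
      (deg χ = 45 ∧ A χ = 1) := fun χ hχ => by
    obtain ⟨h1, h2⟩ := small_degrees (deg χ) (hdeg89 χ hχ) (hG ▸ deg_dvd χ)
      (one_lt_degree hG (hSmem χ hχ).2.1 (deg_eq χ))
    have hdc := (hSmem χ hχ).2.2.2
    rcases hone χ hχ with h | h <;> rw [h] at hdc
    · rcases h1 (Int.emod_eq_zero_of_dvd (by simpa using dvd_neg.2 hdc)) with h' | h'
      · exact Or.inr (Or.inl ⟨h', h⟩)
      · exact Or.inr (Or.inr ⟨h', h⟩)
    · exact Or.inl ⟨h2 (Int.emod_eq_zero_of_dvd (by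
        rw [show ((deg χ : ℤ) + 1) = -(-1 - (deg χ : ℤ)) by ring]; exact dvd_neg.2 hdc)), h⟩
  set S10 := S.filter fun χ => deg χ = 10 with hS10
  set S12 := S.filter fun χ => deg χ = 12 with hS12
  set S45 := S.filter fun χ => deg χ = 45 with hS45
  have hS3 : ∀ F : IrrCharacter G → ℤ, ∑ χ ∈ S, F χ =
      ∑ χ ∈ S10, F χ + ∑ χ ∈ S12, F χ + ∑ χ ∈ S45, F χ := fun F => by
    exact sum_three S deg F fun χ hχ => by rcases hdeg χ hχ with h | h | h <;> simp [h.1]
  have hn : (S10.card : ℤ) + S12.card + S45.card = 4 := by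
    have h := hS3 fun _ => 1
    simp only [Finset.sum_const, nsmul_eq_mul, mul_one, hcard] at h
    exact_mod_cast h.symm
  have hlin : 1 + (deg p : ℤ) * (2 * A p - 1) - 10 * S10.card + 12 * S12.card + 45 * S45.card
      = 0 := by
    rw [hS3] at hreg
    rw [Finset.sum_congr (rfl : S10 = S10) (g := fun _ => (-10 : ℤ)),
      Finset.sum_congr (rfl : S12 = S12) (g := fun _ => (12 : ℤ)),
      Finset.sum_congr (rfl : S45 = S45) (g := fun _ => (45 : ℤ))] at hreg
    · simp only [Finset.sum_const, nsmul_eq_mul] at hreg; linarith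
    all_goals
      intro χ hχ
      simp only [hS10, hS12, hS45, Finset.mem_filter] at hχ
      rcases hdeg χ hχ.1 with ⟨h, h'⟩ | ⟨h, h'⟩ | ⟨h, h'⟩ <;> simp [h, h'] at hχ ⊢
  have hsz : 1 + 2 * (deg p : ℤ) ^ 2 + 100 * S10.card + 144 * S12.card + 2025 * S45.card
      ≤ 7920 := by
    rw [hS3] at hsize
    rw [Finset.sum_congr (rfl : S10 = S10) (g := fun _ => (100 : ℤ)),
      Finset.sum_congr (rfl : S12 = S12) (g := fun _ => (144 : ℤ)),
      Finset.sum_congr (rfl : S45 = S45) (g := fun _ => (2025 : ℤ))] at hsize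
    · simp only [Finset.sum_const, nsmul_eq_mul] at hsize; linarith
    all_goals
      intro χ hχ
      simp only [hS10, hS12, hS45, Finset.mem_filter] at hχ
      simp [hχ.2]
  have hres : A p = 0 ∧ ((deg p = 5 ∧ S10.card = 2 ∧ S12.card = 2 ∧ S45.card = 0) ∨
      (deg p = 16 ∧ S10.card = 3 ∧ S12.card = 0 ∧ S45.card = 1)) := by
    rcases hAp' with h | h <;> rw [h] at hlin hpc
    · refine ⟨h, ?_⟩
      rcases hpa (Int.emod_eq_zero_of_dvd (by simpa using dvd_neg.2 hpc)) with h' | h' | h' <;>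
        rw [h'] at hlin hsz <;> omega
    · rw [hpb (Int.emod_eq_zero_of_dvd (by simpa using dvd_neg.2 hpc))] at hlin
      omega
  obtain ⟨hA0, hcases⟩ := hres
  have hpx : (p : G → ℂ) x = eta := by rw [hAB, hp, hA0]; simp
  have hqx : (q : G → ℂ) x = -1 - eta := by rw [hAB, hqB, hqA, hA0]; push_cast; ring
  have hox : (o : G → ℂ) x = 1 := rfl
  have hout : ∀ χ, χ ≠ o → χ ≠ p → χ ≠ q → χ ∉ S → (χ : G → ℂ) x = 0 ∧ 11 ∣ deg χ := by
    intro χ h1 h2 h3 h4
    have hT' : χ ∈ T := by simp [hT, h1, h2, h3]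
    have hA : A χ = 0 := by
      by_contra h; exact h4 (Finset.mem_filter.2 ⟨hT', h⟩)
    have hB := hother χ h2 h3
    refine ⟨by rw [hAB, hA, hB]; simp, ?_⟩
    have := hcong χ
    rw [hA, hB] at this
    norm_num at this
    exact_mod_cast this
  have hSx : ∀ χ ∈ S, (χ : G → ℂ) x = if deg χ = 10 then -1 else 1 := fun χ hχ => by
    rw [hAB, (hSmem χ hχ).1]
    rcases hdeg χ hχ with ⟨h, h'⟩ | ⟨h, h'⟩ | ⟨h, h'⟩ <;> simp [h, h']
  have hSne : ∀ χ ∈ S, χ ≠ o ∧ χ ≠ p ∧ χ ≠ q := fun χ hχ =>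
    ⟨(hSmem χ hχ).2.1, fun h => by have := (hSmem χ hχ).1; rw [h, hp] at this; norm_num at this,
      fun h => by have := (hSmem χ hχ).1; rw [h, hqB] at this; norm_num at this⟩
  rcases hcases with ⟨hd, h10, h12, h45⟩ | ⟨hd, h10, h12, h45⟩
  · obtain ⟨a1, a2, ha, hA⟩ := Finset.card_eq_two.1 h10
    obtain ⟨b1, b2, hb, hB⟩ := Finset.card_eq_two.1 h12
    have ma1 : a1 ∈ S10 := by simp [hA]
    have ma2 : a2 ∈ S10 := by simp [hA]
    have mb1 : b1 ∈ S12 := by simp [hB]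
    have mb2 : b2 ∈ S12 := by simp [hB]
    rw [hS10, Finset.mem_filter] at ma1 ma2
    rw [hS12, Finset.mem_filter] at mb1 mb2
    have hab : ∀ {a b : IrrCharacter G}, deg a = 10 → deg b = 12 → a ≠ b := by
      rintro a b h1 h2 rfl; omega
    obtain ⟨n1, n2, n3⟩ := hSne a1 ma1.1
    obtain ⟨n4, n5, n6⟩ := hSne a2 ma2.1
    obtain ⟨n7, n8, n9⟩ := hSne b1 mb1.1
    obtain ⟨n10, n11, n12⟩ := hSne b2 mb2.1
    refine Or.inl ⟨![o, p, q, a1, a2, b1, b2], ?_, rfl, ?_, ?_, ?_⟩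
    · intro i j h
      fin_cases i <;> fin_cases j <;> simp at h ⊢ <;>
        first
          | exact absurd h (by first | assumption | (exact Ne.symm (by assumption)))
          | exact absurd h (hab ma1.2 mb1.2) | exact absurd h (hab ma1.2 mb2.2)
          | exact absurd h (hab ma2.2 mb1.2) | exact absurd h (hab ma2.2 mb2.2)
          | exact absurd h (hab ma1.2 mb1.2).symm | exact absurd h (hab ma1.2 mb2.2).symm
          | exact absurd h (hab ma2.2 mb1.2).symm | exact absurd h (hab ma2.2 mb2.2).symm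
    · intro i
      fin_cases i <;> simp [hodef, deg_triv, hd, hqD, ma1.2, ma2.2, mb1.2, mb2.2]
    · intro i
      fin_cases i <;> simp [hox, hpx, hqx, hSx _ ma1.1, hSx _ ma2.1, hSx _ mb1.1, hSx _ mb2.1,
        ma1.2, ma2.2, mb1.2, mb2.2]
    · intro χ hχ
      refine hout χ (fun h => hχ 0 h.symm) (fun h => hχ 1 h.symm) (fun h => hχ 2 h.symm) fun h => ?_
      rcases hdeg χ h with ⟨h', -⟩ | ⟨h', -⟩ | ⟨h', -⟩
      · have : χ ∈ S10 := Finset.mem_filter.2 ⟨h, h'⟩
        simp only [hA, Finset.mem_insert, Finset.mem_singleton] at this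
        rcases this with rfl | rfl
        · exact hχ 3 rfl
        · exact hχ 4 rfl
      · have : χ ∈ S12 := Finset.mem_filter.2 ⟨h, h'⟩
        simp only [hB, Finset.mem_insert, Finset.mem_singleton] at this
        rcases this with rfl | rfl
        · exact hχ 5 rfl
        · exact hχ 6 rfl
      · have : χ ∈ S45 := Finset.mem_filter.2 ⟨h, h'⟩
        simp [Finset.card_eq_zero.1 h45] at this
  · obtain ⟨a1, a2, a3, ha, ha', ha'', hA⟩ := Finset.card_eq_three.1 h10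
    obtain ⟨b, hB⟩ := Finset.card_eq_one.1 h45
    have ma1 : a1 ∈ S10 := by simp [hA]
    have ma2 : a2 ∈ S10 := by simp [hA]
    have ma3 : a3 ∈ S10 := by simp [hA]
    have mb : b ∈ S45 := by simp [hB]
    rw [hS10, Finset.mem_filter] at ma1 ma2 ma3
    rw [hS45, Finset.mem_filter] at mb
    have hab : ∀ {a : IrrCharacter G}, deg a = 10 → a ≠ b := by
      rintro a h1 rfl; have := mb.2; omega
    obtain ⟨n1, n2, n3⟩ := hSne a1 ma1.1
    obtain ⟨n4, n5, n6⟩ := hSne a2 ma2.1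
    obtain ⟨n7, n8, n9⟩ := hSne a3 ma3.1
    obtain ⟨n10, n11, n12⟩ := hSne b mb.1
    refine Or.inr ⟨![o, p, q, a1, a2, a3, b], ?_, rfl, ?_, ?_, ?_⟩
    · intro i j h
      fin_cases i <;> fin_cases j <;> simp at h ⊢ <;>
        first
          | exact absurd h (by first | assumption | (exact Ne.symm (by assumption)))
          | exact absurd h (hab ma1.2) | exact absurd h (hab ma2.2) | exact absurd h (hab ma3.2)
          | exact absurd h (hab ma1.2).symm | exact absurd h (hab ma2.2).symm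
          | exact absurd h (hab ma3.2).symm
    · intro i
      fin_cases i <;> simp [hodef, deg_triv, hd, hqD, ma1.2, ma2.2, ma3.2, mb.2]
    · intro i
      fin_cases i <;> simp [hox, hpx, hqx, hSx _ ma1.1, hSx _ ma2.1, hSx _ ma3.1, hSx _ mb.1,
        ma1.2, ma2.2, ma3.2, mb.2]
    · intro χ hχ
      refine hout χ (fun h => hχ 0 h.symm) (fun h => hχ 1 h.symm) (fun h => hχ 2 h.symm) fun h => ?_
      rcases hdeg χ h with ⟨h', -⟩ | ⟨h', -⟩ | ⟨h', -⟩
      · have : χ ∈ S10 := Finset.mem_filter.2 ⟨h, h'⟩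
        simp only [hA, Finset.mem_insert, Finset.mem_singleton] at this
        rcases this with rfl | rfl | rfl
        · exact hχ 3 rfl
        · exact hχ 4 rfl
        · exact hχ 5 rfl
      · have : χ ∈ S12 := Finset.mem_filter.2 ⟨h, h'⟩
        simp [Finset.card_eq_zero.1 h12] at this
      · have : χ ∈ S45 := Finset.mem_filter.2 ⟨h, h'⟩
        simp only [hB, Finset.mem_singleton] at this
        subst this
        exact hχ 6 rfl

end Cfsg.Agent.Lib.Characters.Order7920
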