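import Cfsg.Agent.Lib.Characters.Order7920.Triangular
import Cfsg.Agent.Lib.SylowCounting.Embedding
import Mathlib.Algebra.Group.Action.Pointwise.Finset

/-!
# A subgroup of index eleven
-/

namespace Cfsg.Agent.Lib.Characters.Order7920

open Cfsg Cfsg.Agent.Lib.SylowCounting
open scoped Pointwise

universe u

variable {G : Type u} [Group G] [Finite G]

theorem smul_fixed_of_mem (P : Sylow 3 G) (a : (P : Subgroup G)) : (a : G) • P = P := by
  have h : (a : G) ∈ MulAction.stabilizer G P := by
    rw [Sylow.stabilizer_eq_normalizer]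
    exact Subgroup.le_normalizer a.2
  exact h

theorem smul_free [IsSimpleGroup G] (hG : Nat.card G = 7920) {P Q : Sylow 3 G} (hPQ : P ≠ Q)
    {a : (P : Subgroup G)} (h : (a : G) • Q = Q) : a = 1 := by
  by_contra ha
  obtain ⟨φ, hφ, h0, hsub⟩ := exists_param hG P
  have h9 : Nat.card (P : Subgroup G) = 3 ^ 2 := by
    haveI : Fact (Nat.Prime 3) := ⟨by norm_num⟩
    exact sylow_three_card hG P
  obtain ⟨k, hk, hak⟩ := (Nat.dvd_prime_pow (by norm_num : Nat.Prime 3)).1
    (h9 ▸ orderOf_dvd_natCard a : orderOf a ∣ 3 ^ 2)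
  interval_cases k
  · exact ha (orderOf_eq_one_iff.1 (by simpa using hak))
  · have h3 : orderOf (a : G) = 3 := by rw [Subgroup.orderOf_coe]; simpa using hak
    exact hPQ (fixed_three_unique hG h3 h (smul_fixed_of_mem P a))
  · have hv : orderOf ((a : G) ^ 3) = 3 := by
      rw [orderOf_pow' _ (by norm_num), Subgroup.orderOf_coe, hak]; rfl
    have hfix : ∀ R : Sylow 3 G, (a : G) • R = R → ((a : G) ^ 3) • R = R := fun R hR => by
      rw [pow_succ, pow_succ, pow_one, mul_smul, mul_smul, hR, hR, hR]
    exact hPQ (fixed_three_unique hG hv (hfix Q h) (hfix P (smul_fixed_of_mem P a)))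

open scoped Classical in
/-- The orbit of `Q` under the Sylow subgroup `P`. -/
noncomputable def porb (P Q : Sylow 3 G) : Finset (Sylow 3 G) :=
  haveI := Fintype.ofFinite (P : Subgroup G)
  Finset.univ.image fun a : (P : Subgroup G) => (a : G) • Q

theorem mem_porb {P Q R : Sylow 3 G} : R ∈ porb P Q ↔ ∃ a : (P : Subgroup G), (a : G) • Q = R := by
  simp [porb]

theorem self_mem_porb (P Q : Sylow 3 G) : Q ∈ porb P Q := mem_porb.2 ⟨1, by simp⟩

theorem porb_eq_of_mem {P Q R : Sylow 3 G} (h : R ∈ porb P Q) : porb P R = porb P Q := by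
  obtain ⟨a, rfl⟩ := mem_porb.1 h
  ext T
  rw [mem_porb, mem_porb]
  constructor
  · rintro ⟨b, rfl⟩
    exact ⟨b * a, by rw [← mul_smul]; rfl⟩
  · rintro ⟨b, rfl⟩
    exact ⟨b * a⁻¹, by rw [← mul_smul]; simp⟩

theorem card_porb [IsSimpleGroup G] (hG : Nat.card G = 7920) {P Q : Sylow 3 G} (hPQ : P ≠ Q) :
    (porb P Q).card = 9 := by
  classical
  haveI : Fact (Nat.Prime 3) := ⟨by norm_num⟩
  rw [porb, Finset.card_image_of_injective, @Finset.card_univ _ (Fintype.ofFinite _), Fintype.card_eq_nat_card,
    sylow_three_card hG P]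
  · norm_num
  · intro a b h
    have h' : ((b⁻¹ * a : (P : Subgroup G)) : G) • Q = Q := by
      simp only at h
      rw [Subgroup.coe_mul, mul_smul, h, Subgroup.coe_inv, inv_smul_smul]
    exact (inv_mul_eq_one.1 (smul_free hG hPQ h')).symm

theorem adj_smul_left {P Q : Sylow 3 G} (a : (P : Subgroup G)) (h : Adj P Q) :
    Adj P ((a : G) • Q) := by
  have h' := (adj_smul (a : G)).2 h
  rwa [smul_fixed_of_mem] at h'

theorem porb_subset_nbrs {P Q : Sylow 3 G} (h : Adj P Q) : porb P Q ⊆ nbrs P := fun R hR => by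
  obtain ⟨a, rfl⟩ := mem_porb.1 hR
  exact mem_nbrs.2 (adj_smul_left a h)

set_option maxHeartbeats 1000000 in
-- one long proof
/-- Within the neighbourhood of `P`, a vertex is joined to the rest of its orbit and to just one
further vertex. -/
theorem local_structure [IsSimpleGroup G] (hG : Nat.card G = 7920) [DecidableEq (Sylow 3 G)]
    {P Q : Sylow 3 G} (h : Adj P Q) :
    (∀ R ∈ porb P Q, R ≠ Q → Adj Q R) ∧ ((nbrs P ∩ nbrs Q) \ porb P Q).card = 1 := by
  classical
  obtain ⟨φ, hφ, h0, hsub⟩ := exists_param hG P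
  have hPQ := h.1
  have hO := card_porb hG hPQ
  obtain ⟨R, hR, hRO⟩ : ∃ R ∈ nbrs P, R ∉ porb P Q := by
    by_contra hc
    push Not at hc
    have := Finset.card_le_card (show nbrs P ⊆ porb P Q from hc)
    rw [card_nbrs hG, hO] at this
    omega
  have hPR : P ≠ R := (mem_nbrs.1 hR).1
  have hO2 := card_porb hG hPR
  have hdisj : Disjoint (porb P Q) (porb P R) := Finset.disjoint_left.2 fun T h1 h2 => hRO <| by
    rw [← porb_eq_of_mem h1, porb_eq_of_mem h2]; exact self_mem_porb P R
  have hN : nbrs P = porb P Q ∪ porb P R := by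
    refine (Finset.eq_of_subset_of_card_le
      (Finset.union_subset (porb_subset_nbrs h) (porb_subset_nbrs (mem_nbrs.1 hR))) ?_).symm
    rw [Finset.card_union_of_disjoint hdisj, hO, hO2, card_nbrs hG]
  have himg : ∀ U, P ≠ U → porb P U = Finset.univ.image fun e : Fin 9 => ((φ e : (P : Subgroup G)) : G) • U := by
    intro U hU
    refine (Finset.eq_of_subset_of_card_le ?_ ?_).symm
    · intro T hT
      obtain ⟨e, -, rfl⟩ := Finset.mem_image.1 hT
      exact mem_porb.2 ⟨φ e, rfl⟩
    · rw [card_porb hG hU, Finset.card_image_of_injective]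
      · simp
      · intro a b hab
        apply hφ.1
        have h' : (((φ b)⁻¹ * φ a : (P : Subgroup G)) : G) • U = U := by
          simp only at hab
          rw [Subgroup.coe_mul, mul_smul, hab, Subgroup.coe_inv, inv_smul_smul]
        exact (inv_mul_eq_one.1 (smul_free hG hU h')).symm
  have hinj : ∀ U, P ≠ U → Function.Injective (fun e : Fin 9 => ((φ e : (P : Subgroup G)) : G) • U) := by
    intro U hU
    have h1 := card_porb hG hU
    rw [himg U hU] at h1
    have h2 : (Finset.univ.image fun e : Fin 9 => ((φ e : (P : Subgroup G)) : G) • U).card =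
        (Finset.univ : Finset (Fin 9)).card := by rw [h1]; simp
    exact fun a b hab => Finset.card_image_iff.1 h2 (Finset.mem_univ a) (Finset.mem_univ b) hab
  let S : Fin 9 → Bool := fun e => decide (Adj Q (((φ e : (P : Subgroup G)) : G) • Q))
  let T : Fin 9 → Bool := fun e => decide (Adj Q (((φ e : (P : Subgroup G)) : G) • R))
  have hsub' : ∀ d e, ((φ (sub9 e d) : (P : Subgroup G)) : G) =
      ((φ d : (P : Subgroup G)) : G)⁻¹ * ((φ e : (P : Subgroup G)) : G) := fun d e => by
    rw [hsub, Subgroup.coe_mul, Subgroup.coe_inv]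
    haveI : Fact (Nat.Prime 3) := ⟨by norm_num⟩
    exact sylow_three_comm hG P (φ e).2 ((P : Subgroup G).inv_mem (φ d).2)
  have hshift : ∀ d e U, Adj (((φ d : (P : Subgroup G)) : G) • Q)
      (((φ e : (P : Subgroup G)) : G) • U) ↔ Adj Q (((φ (sub9 e d) : (P : Subgroup G)) : G) • U) := by
    intro d e U
    rw [hsub', mul_smul]
    conv_rhs => rw [← adj_smul ((φ d : (P : Subgroup G)) : G), smul_inv_smul]
  have hcount : ∀ (U : Sylow 3 G) (p : Sylow 3 G → Prop) [DecidablePred p], P ≠ U →
      ((porb P U).filter p).card =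
        (Finset.univ.filter fun e : Fin 9 => p (((φ e : (P : Subgroup G)) : G) • U)).card := by
    intro U p _ hU
    rw [himg U hU, Finset.filter_image, Finset.card_image_of_injective _ (hinj U hU)]
  have hS0 : S 0 = false := by
    simp only [S, h0, decide_eq_false_iff_not]
    intro h'
    apply h'.1
    simp
  have hsym : ∀ d, S d = S (sub9 0 d) := fun d => by
    simp only [S]
    congr 1
    apply propext
    rw [← hshift d 0, h0, Subgroup.coe_one, one_smul]
    exact ⟨Adj.symm, Adj.symm⟩
  have hsize : (Finset.univ.filter fun e => S e = true).card +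
      (Finset.univ.filter fun e => T e = true).card = 9 := by
    have h' := (common_counts hG hPQ).1 h
    have e1 : nbrs P ∩ nbrs Q = (porb P Q ∪ porb P R).filter (fun U => Adj Q U) := by
      ext U; simp [hN, mem_nbrs]
    rw [e1, Finset.filter_union, Finset.card_union_of_disjoint
      (Finset.disjoint_filter_filter hdisj), hcount Q _ hPQ, hcount R _ hPR] at h'
    simp only [S, T, decide_eq_true_eq]
    convert h' using 3
  have hov : ∀ d, d ≠ 0 → S d = false →
      (Finset.univ.filter fun e => S e = true ∧ S (sub9 e d) = true).card +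
        (Finset.univ.filter fun e => T e = true ∧ T (sub9 e d) = true).card ≤ 3 := by
    intro d hd hSd
    set Q' := ((φ d : (P : Subgroup G)) : G) • Q with hQ'
    have hne : Q ≠ Q' := fun e => hd (hinj Q hPQ (by
      show ((φ d : (P : Subgroup G)) : G) • Q = ((φ 0 : (P : Subgroup G)) : G) • Q
      rw [h0, Subgroup.coe_one, one_smul]; exact e.symm))
    have hnadj : ¬ Adj Q Q' := by simpa [S] using hSd
    have h4 := (common_counts hG hne).2 hnadj
    have hsub2 : insert P ((porb P Q ∪ porb P R).filter fun U => Adj Q U ∧ Adj Q' U) ⊆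
        nbrs Q ∩ nbrs Q' := by
      intro U hU
      rw [Finset.mem_inter, mem_nbrs, mem_nbrs]
      rcases Finset.mem_insert.1 hU with rfl | hU
      · exact ⟨h.symm, (adj_smul_left (φ d) h).symm⟩
      · exact (Finset.mem_filter.1 hU).2
    have hle := Finset.card_le_card hsub2
    rw [h4, Finset.card_insert_of_notMem, Finset.filter_union, Finset.card_union_of_disjoint
      (Finset.disjoint_filter_filter hdisj), hcount Q _ hPQ, hcount R _ hPR] at hle
    · simp only [hQ', hshift] at hle
      simp only [S, T, decide_eq_true_eq]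
      convert Nat.le_of_succ_le_succ hle using 4
    · intro hmem
      rw [Finset.mem_filter, ← hN, mem_nbrs] at hmem
      exact hmem.1.1 rfl
  have hall := cayley hS0 hsym hsize hov
  have hadj : ∀ U ∈ porb P Q, U ≠ Q → Adj Q U := by
    intro U hU hne
    rw [himg Q hPQ] at hU
    obtain ⟨e, -, rfl⟩ := Finset.mem_image.1 hU
    have he : e ≠ 0 := by
      rintro rfl
      apply hne
      simp [h0]
    simpa [S] using hall e he
  refine ⟨hadj, ?_⟩
  have h9 := (common_counts hG hPQ).1 h
  have e8 : (nbrs P ∩ nbrs Q) ∩ porb P Q = (porb P Q).erase Q := by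
    ext U
    simp only [Finset.mem_inter, mem_nbrs, Finset.mem_erase]
    exact ⟨fun hU => ⟨fun e => hU.1.2.1 e.symm, hU.2⟩,
      fun hU => ⟨⟨mem_nbrs.1 (porb_subset_nbrs h hU.2), hadj U hU.2 hU.1⟩, hU.2⟩⟩
  have := Finset.card_sdiff_add_card_inter (nbrs P ∩ nbrs Q) (porb P Q)
  rw [h9, e8, Finset.card_erase_of_mem (self_mem_porb P Q), hO] at this
  omega

/-- A clique of ten Sylow subgroups. -/
def IsPoint (K : Finset (Sylow 3 G)) : Prop :=
  K.card = 10 ∧ ∀ A ∈ K, ∀ B ∈ K, A ≠ B → Adj A B

theorem isPoint_insert [IsSimpleGroup G] (hG : Nat.card G = 7920) [DecidableEq (Sylow 3 G)]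
    {P Q : Sylow 3 G} (h : Adj P Q) : IsPoint (insert P (porb P Q)) := by
  have hmem : ∀ U ∈ porb P Q, Adj P U := fun U hU => mem_nbrs.1 (porb_subset_nbrs h hU)
  refine ⟨?_, ?_⟩
  · rw [Finset.card_insert_of_notMem fun hP => (hmem P hP).1 rfl, card_porb hG h.1]
  · intro A hA B hB hne
    rcases Finset.mem_insert.1 hA with e | hA'
    · subst e
      rcases Finset.mem_insert.1 hB with e | hB'
      · exact absurd e.symm hne
      · exact hmem B hB'
    · rcases Finset.mem_insert.1 hB with e | hB'
      · subst e; exact (hmem A hA').symm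
      · refine (local_structure hG (hmem A hA')).1 B ?_ hne.symm
        rw [porb_eq_of_mem hA']; exact hB'

theorem point_eq [IsSimpleGroup G] (hG : Nat.card G = 7920) [DecidableEq (Sylow 3 G)]
    {K : Finset (Sylow 3 G)} (hK : IsPoint K) {P Q : Sylow 3 G} (hP : P ∈ K) (hQ : Q ∈ K)
    (hne : P ≠ Q) : K = insert P (porb P Q) := by
  have h := hK.2 P hP Q hQ hne
  obtain ⟨hadj, h1⟩ := local_structure hG h
  obtain ⟨T, hT⟩ := Finset.card_eq_one.1 h1
  have hTO : T ∉ porb P Q := by
    have : T ∈ (nbrs P ∩ nbrs Q) \ porb P Q := by rw [hT]; simp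
    exact (Finset.mem_sdiff.1 this).2
  have hsub : K ⊆ insert T (insert P (porb P Q)) := by
    intro U hU
    simp only [Finset.mem_insert]
    by_cases e : U = P
    · exact Or.inr (Or.inl e)
    by_cases e' : U = Q
    · exact Or.inr (Or.inr (e' ▸ self_mem_porb P Q))
    by_cases hO : U ∈ porb P Q
    · exact Or.inr (Or.inr hO)
    have : U ∈ (nbrs P ∩ nbrs Q) \ porb P Q := by
      simp [mem_nbrs, hK.2 P hP U hU (Ne.symm e), hK.2 Q hQ U hU (Ne.symm e'), hO]
    rw [hT, Finset.mem_singleton] at this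
    exact Or.inl this
  have hTK : T ∉ K := by
    intro hTK
    have hTP : T ≠ P := by
      rintro rfl
      have : T ∈ (nbrs T ∩ nbrs Q) \ porb T Q := by rw [hT]; simp
      simp [mem_nbrs, Adj] at this
    have hPT := hK.2 P hP T hTK hTP.symm
    obtain ⟨hadjT, h1T⟩ := local_structure hG hPT
    have hdis : ∀ U ∈ porb P Q, U ∉ porb P T := fun U h1 h2 => hTO <| by
      rw [← porb_eq_of_mem h1, porb_eq_of_mem h2]; exact self_mem_porb P T
    have hsub' : (K.erase P).erase T ⊆ (nbrs P ∩ nbrs T) \ porb P T := by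
      intro U hU
      simp only [Finset.mem_erase] at hU
      obtain ⟨hUT, hUP, hUK⟩ := hU
      have hUO : U ∈ porb P Q := by
        have := hsub hUK
        simp only [Finset.mem_insert] at this
        tauto
      simp [mem_nbrs, hK.2 P hP U hUK (Ne.symm hUP), hK.2 T hTK U hUK (Ne.symm hUT), hdis U hUO]
    have := Finset.card_le_card hsub'
    rw [h1T, Finset.card_erase_of_mem (Finset.mem_erase.2 ⟨hTP, hTK⟩),
      Finset.card_erase_of_mem hP, hK.1] at this
    omega
  refine Finset.eq_of_subset_of_card_le (fun U hU => ?_) ?_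
  · exact (Finset.mem_insert.1 (hsub hU)).resolve_left fun e => hTK (e ▸ hU)
  · rw [(isPoint_insert hG h).1, hK.1]

open scoped Classical in
theorem exists_index_eleven [IsSimpleGroup G] (hG : Nat.card G = 7920) :
    ∃ H : Subgroup G, H.index = 11 := by
  classical
  haveI := Fintype.ofFinite (Sylow 3 G)
  have h55 : Fintype.card (Sylow 3 G) = 55 := by
    rw [← Nat.card_eq_fintype_card, card_sylow_three hG]
  set 𝒦 := (Finset.univ : Finset (Finset (Sylow 3 G))).filter IsPoint with h𝒦
  have hm : ∀ K, K ∈ 𝒦 ↔ IsPoint K := fun K => by simp [h𝒦]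
  have hne : ∀ K : Finset (Sylow 3 G), IsPoint K → ∀ P ∈ K, ∃ Q ∈ K, P ≠ Q := fun K hK P hP => by
    obtain ⟨Q, hQ⟩ := Finset.card_pos.1
      (by rw [Finset.card_erase_of_mem hP, hK.1]; norm_num : 0 < (K.erase P).card)
    exact ⟨Q, Finset.mem_of_mem_erase hQ, (Finset.mem_erase.1 hQ).1.symm⟩
  have htwo : ∀ P : Sylow 3 G, (𝒦.filter fun K => P ∈ K).card = 2 := by
    intro P
    obtain ⟨Q, hQ⟩ := Finset.card_pos.1 (by rw [card_nbrs hG P]; norm_num : 0 < (nbrs P).card)
    rw [mem_nbrs] at hQ
    obtain ⟨R, hR, hRO⟩ : ∃ R ∈ nbrs P, R ∉ porb P Q := by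
      by_contra hc
      push Not at hc
      have := Finset.card_le_card (show nbrs P ⊆ porb P Q from hc)
      rw [card_nbrs hG, card_porb hG hQ.1] at this
      omega
    rw [mem_nbrs] at hR
    refine Finset.card_eq_two.2 ⟨insert P (porb P Q), insert P (porb P R), ?_, ?_⟩
    · intro e
      have : R ∈ insert P (porb P Q) := e ▸ Finset.mem_insert_of_mem (self_mem_porb P R)
      rcases Finset.mem_insert.1 this with e' | e'
      · exact hR.1 e'.symm
      · exact hRO e'
    · ext K
      simp only [Finset.mem_filter, hm, Finset.mem_insert, Finset.mem_singleton]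
      constructor
      · rintro ⟨hK, hP⟩
        obtain ⟨U, hU, hPU⟩ := hne K hK P hP
        rw [point_eq hG hK hP hU hPU]
        have hU' : U ∈ nbrs P := mem_nbrs.2 (hK.2 P hP U hU hPU)
        have hN : nbrs P = porb P Q ∪ porb P R := by
          refine (Finset.eq_of_subset_of_card_le
            (Finset.union_subset (porb_subset_nbrs hQ) (porb_subset_nbrs hR)) ?_).symm
          rw [Finset.card_union_of_disjoint, card_porb hG hQ.1, card_porb hG hR.1, card_nbrs hG]
          exact Finset.disjoint_left.2 fun T h1 h2 => hRO <| by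
            rw [← porb_eq_of_mem h1, porb_eq_of_mem h2]; exact self_mem_porb P R
        rw [hN, Finset.mem_union] at hU'
        rcases hU' with e | e
        · exact Or.inl (by rw [porb_eq_of_mem e])
        · exact Or.inr (by rw [porb_eq_of_mem e])
      · rintro (rfl | rfl)
        · exact ⟨isPoint_insert hG hQ, Finset.mem_insert_self _ _⟩
        · exact ⟨isPoint_insert hG hR, Finset.mem_insert_self _ _⟩
  have h11 : 𝒦.card = 11 := by
    have h := Finset.sum_card_bipartiteAbove_eq_sum_card_bipartiteBelow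
      (fun (K : Finset (Sylow 3 G)) (P : Sylow 3 G) => P ∈ K) (s := 𝒦)
      (t := (Finset.univ : Finset (Sylow 3 G)))
    have hl : ∀ K ∈ 𝒦, (Finset.univ.bipartiteAbove
        (fun (K : Finset (Sylow 3 G)) (P : Sylow 3 G) => P ∈ K) K).card = 10 := fun K hK => by
      rw [← ((hm K).1 hK).1]
      congr 1
      ext U; simp [Finset.bipartiteAbove]
    have hr : ∀ P ∈ (Finset.univ : Finset (Sylow 3 G)), (𝒦.bipartiteBelow
        (fun (K : Finset (Sylow 3 G)) (P : Sylow 3 G) => P ∈ K) P).card = 2 := fun P _ => htwo P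
    rw [Finset.sum_congr rfl hl, Finset.sum_congr rfl hr, Finset.sum_const, Finset.sum_const,
      Finset.card_univ, h55, smul_eq_mul, smul_eq_mul] at h
    omega
  obtain ⟨K, hK⟩ := Finset.card_pos.1 (by rw [h11]; norm_num : 0 < 𝒦.card)
  rw [hm] at hK
  refine ⟨MulAction.stabilizer G K, ?_⟩
  have hsub : MulAction.orbit G K ⊆ (𝒦 : Set (Finset (Sylow 3 G))) := by
    rintro _ ⟨g, rfl⟩
    rw [Finset.mem_coe, hm]
    refine ⟨by show (g • K).card = 10; rw [Finset.card_smul_finset, hK.1], ?_⟩
    intro A hA B hB hne'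
    obtain ⟨A', hA', rfl⟩ := Finset.mem_smul_finset.1 hA
    obtain ⟨B', hB', rfl⟩ := Finset.mem_smul_finset.1 hB
    exact (adj_smul g).2 (hK.2 A' hA' B' hB' fun e => hne' (by rw [e]))
  have hle : (MulAction.stabilizer G K).index ≤ 11 := by
    rw [MulAction.index_stabilizer]
    calc (MulAction.orbit G K).ncard ≤ (𝒦 : Set (Finset (Sylow 3 G))).ncard :=
          Set.ncard_le_ncard hsub (Finset.finite_toSet _)
      _ = 11 := by rw [Set.ncard_coe_finset, h11]
  have hproper : MulAction.stabilizer G K ≠ ⊤ := by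
    intro htop
    obtain ⟨P, hP⟩ := Finset.card_pos.1 (by rw [hK.1]; norm_num : 0 < K.card)
    have : (Finset.univ : Finset (Sylow 3 G)) ⊆ K := fun Q _ => by
      obtain ⟨g, rfl⟩ := MulAction.exists_smul_eq G P Q
      have : g • K = K := MulAction.mem_stabilizer_iff.1 (htop ▸ Subgroup.mem_top g)
      rw [← this]
      exact Finset.smul_mem_smul_finset hP
    have := Finset.card_le_card this
    rw [Finset.card_univ, h55, hK.1] at this
    omega
  have hdvd := two_card_dvd_factorial (not_comm hG) _ hproper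
  rw [hG] at hdvd
  rcases Nat.lt_or_ge (MulAction.stabilizer G K).index 11 with hlt | hge
  · exfalso
    have h := hdvd.trans (Nat.factorial_dvd_factorial (by omega : (MulAction.stabilizer G K).index ≤ 10))
    norm_num [Nat.factorial] at h
  · omega

end Cfsg.Agent.Lib.Characters.Order7920
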