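import Cfsg.Agent.Lib.Characters.Order7920.Columns

/-!
# The involutions of a simple group of order 7920 centralise no element of order five
-/

namespace Cfsg.Agent.Lib.Characters.Order7920

open scoped ComplexConjugate
open Cfsg Cfsg.Agent.Lib.Characters Cfsg.Agent.Lib.SylowCounting

universe u

variable {G : Type u} [Group G] [Finite G]

theorem not_isConj_of_orderOf_ne {g h : G} (hne : orderOf g ≠ orderOf h) : ¬ IsConj g h :=
  fun hc => hne (by
    obtain ⟨c, hc⟩ := isConj_iff.1 hc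
    have h' : MulAut.conj c g = h := by rw [MulAut.conj_apply]; exact hc
    rw [← h', MulEquiv.orderOf_eq])

theorem no_involution_pair [IsSimpleGroup G] (hG : Nat.card G = 7920) {z c : G}
    (hz : orderOf z = 2) (hc : orderOf c = 11) :
    Nat.card {p : G × G // IsConj z p.1 ∧ IsConj z p.2 ∧ p.1 * p.2 = c} = 0 := by
  haveI : IsEmpty {p : G × G // IsConj z p.1 ∧ IsConj z p.2 ∧ p.1 * p.2 = c} := by
    refine ⟨fun ⟨⟨a, b⟩, ha, hb, hab⟩ => ?_⟩
    have inv : ∀ t, IsConj z t → t⁻¹ = t := fun t ht => by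
      obtain ⟨k, hk⟩ := isConj_iff.1 ht
      have h2 : z * z = 1 := by rw [← sq, ← hz, pow_orderOf_eq_one]
      refine inv_eq_of_mul_eq_one_right ?_
      rw [← hk, conj_mul, h2, mul_one, mul_inv_cancel]
    refine not_inverted_eleven hG hc a ?_
    simp only at hab
    rw [← hab, mul_inv_rev, inv b hb]
    nth_rewrite 1 [← inv a ha]
    group
  exact Nat.card_of_isEmpty

theorem exists_int_column [IsSimpleGroup G] (hG : Nat.card G = 7920) {z : G}
    (hz : orderOf z = 2) :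
    ∃ W : IrrCharacter G → ℤ, (∀ χ : IrrCharacter G, (χ : G → ℂ) z = W χ) ∧
      W (trivIrr G) = 1 ∧ ∀ χ : IrrCharacter G, χ ≠ trivIrr G →
        ∃ m : ℕ, Even m ∧ 0 < m ∧ m < deg χ ∧ W χ = (deg χ : ℤ) - 2 * m := by
  classical
  have h : ∀ χ : IrrCharacter G, ∃ w : ℤ, (χ : G → ℂ) z = w ∧ (χ = trivIrr G → w = 1) ∧
      (χ ≠ trivIrr G → ∃ m : ℕ, Even m ∧ 0 < m ∧ m < deg χ ∧ w = (deg χ : ℤ) - 2 * m) := by
    intro χ
    by_cases hχ : χ = trivIrr G
    · exact ⟨1, by rw [hχ]; simp [trivIrr], fun _ => rfl, fun h => absurd hχ h⟩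
    · obtain ⟨m, h1, h2, h3, h4⟩ := involution_value (not_comm hG) χ.2
        (fun h => hχ (Subtype.ext h)) (deg_eq χ) hz
      exact ⟨_, h4, fun h => absurd h hχ, fun _ => ⟨m, h1, h2, h3, rfl⟩⟩
  choose W h1 h2 h3 using h
  exact ⟨W, h1, h2 _ rfl, h3⟩

/-- The linear and quadratic relations between the columns at `z` and `x`. -/
theorem column_relations [IsSimpleGroup G] (hG : Nat.card G = 7920) {x z : G}
    (hx : orderOf x = 11) (hz : orderOf z = 2) {W : IrrCharacter G → ℤ}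
    (hW : ∀ χ : IrrCharacter G, (χ : G → ℂ) z = W χ) {f : Fin 7 → IrrCharacter G}
    (hf : Function.Injective f) (h0 : ∀ χ, (∀ i, f i ≠ χ) → (χ : G → ℂ) x = 0 ∧ 11 ∣ deg χ) :
    (∑ i, (W (f i) : ℂ) * (f i : G → ℂ) x = 0) ∧
      ∑ i, (W (f i) : ℂ) * W (f i) * (f i : G → ℂ) x / deg (f i) = 0 := by
  haveI := Fintype.ofFinite G
  haveI := Fintype.ofFinite (IrrCharacter G)
  constructor
  · have h := sum_irr_mul_conj x z
    rw [if_neg (not_isConj_of_orderOf_ne (by rw [hx, hz]; norm_num))] at h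
    simp only [hW, map_intCast] at h
    rw [← sum_of_range f hf (fun χ => (W χ : ℂ) * (χ : G → ℂ) x)
      fun χ hχ => by rw [(h0 χ hχ).1, mul_zero]]
    rw [← h]
    exact Finset.sum_congr rfl fun χ _ => mul_comm _ _
  · have h := card_class_mul z z x⁻¹
    rw [no_involution_pair hG hz (by rw [orderOf_inv, hx]), Nat.cast_zero, eq_comm,
      mul_eq_zero] at h
    have hK : (Nat.card {g : G // IsConj z g} : ℂ) ≠ 0 := by
      haveI : Nonempty {g : G // IsConj z g} := ⟨⟨z, IsConj.refl z⟩⟩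
      exact_mod_cast Nat.card_pos.ne'
    replace h := h.resolve_left (div_ne_zero (mul_ne_zero hK hK) natCard_ne_zero_complex)
    simp only [hW, deg_eq, IsCharacter.apply_inv (irr_isCharacter _),
      Complex.conj_conj] at h
    rw [← sum_of_range f hf (fun χ => (W χ : ℂ) * W χ * (χ : G → ℂ) x / deg χ)
      fun χ hχ => by rw [(h0 χ hχ).1, mul_zero, zero_div]]
    exact h

theorem enum_A : ∀ a ∈ [6, 2, -2, (-6 : ℤ)], ∀ b ∈ [6, 2, -2, (-6 : ℤ)],
    ∀ c ∈ [8, 4, 0, -4, (-8 : ℤ)], ∀ e ∈ [8, 4, 0, -4, (-8 : ℤ)], ∀ p ∈ [1, (-3 : ℤ)],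
      1 - p - a - b + c + e = 0 →
      60 - 12 * (p * p) - 6 * (a * a + b * b) + 5 * (c * c + e * e) = 0 → p = 1 := by
  decide +kernel

theorem enum_B : ∀ a ∈ [6, 2, -2, (-6 : ℤ)], ∀ b ∈ [6, 2, -2, (-6 : ℤ)],
    ∀ c ∈ [6, 2, -2, (-6 : ℤ)], ∀ p ∈ [12, 8, 4, 0, -4, -8, (-12 : ℤ)],
    ∀ e ∈ [41, 37, 33, 29, 25, 21, 17, 13, 9, 5, 1, -3, -7, -11, -15, -19, -23, -27, -31, -35,
      -39, (-43 : ℤ)],
      1 - p - a - b - c + e = 0 →
      720 - 72 * (a * a + b * b + c * c) + 16 * (e * e) - 45 * (p * p) = 0 →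
      e = -3 ∧ p = 0 ∧ a + b + c = -2 ∧ a * a = 4 ∧ b * b = 4 ∧ c * c = 4 := by
  decide +kernel

theorem caseA_involution [IsSimpleGroup G] (hG : Nat.card G = 7920) {x z : G}
    (hx : orderOf x = 11) (hz : orderOf z = 2) {f : Fin 7 → IrrCharacter G} (hf : CaseA x f) :
    (f 1 : G → ℂ) z = ((1 : ℤ) : ℂ) := by
  obtain ⟨hinj, h0, hd, hv, hout⟩ := hf
  obtain ⟨W, hW, hW0, hWm⟩ := exists_int_column hG hz
  obtain ⟨hl, hq⟩ := column_relations hG hx hz hW hinj hout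
  simp only [Fin.sum_univ_seven, hv, hd] at hl hq
  simp [h0, hW0] at hl hq
  have hne : ∀ i, i ≠ 0 → f i ≠ trivIrr G := fun i hi h => hi (hinj (h.trans h0.symm))
  obtain ⟨m1, e1, p1, l1, w1⟩ := hWm _ (hne 1 (by decide))
  obtain ⟨m3, e3, p3, l3, w3⟩ := hWm _ (hne 3 (by decide))
  obtain ⟨m4, e4, p4, l4, w4⟩ := hWm _ (hne 4 (by decide))
  obtain ⟨m5, e5, p5, l5, w5⟩ := hWm _ (hne 5 (by decide))
  obtain ⟨m6, e6, p6, l6, w6⟩ := hWm _ (hne 6 (by decide))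
  simp [hd] at l1 w1 l3 w3 l4 w4 l5 w5 l6 w6
  obtain ⟨hlin, hW12⟩ := eta_coeff
    (a := 1 - W (f 2) - W (f 3) - W (f 4) + W (f 5) + W (f 6)) (b := W (f 1) - W (f 2))
    (by push_cast; linear_combination hl)
  have hW12' : W (f 2) = W (f 1) := by omega
  rw [hW12'] at hq
  have hq' : (60 - 12 * (W (f 1) * W (f 1)) - 6 * (W (f 3) * W (f 3) + W (f 4) * W (f 4))
      + 5 * (W (f 5) * W (f 5) + W (f 6) * W (f 6)) : ℤ) = 0 := by
    have : ((60 - 12 * (W (f 1) * W (f 1)) - 6 * (W (f 3) * W (f 3) + W (f 4) * W (f 4))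
      + 5 * (W (f 5) * W (f 5) + W (f 6) * W (f 6)) : ℤ) : ℂ) = 0 := by
      push_cast; linear_combination 60 * hq
    exact_mod_cast this
  obtain ⟨k1, rfl⟩ := e1
  obtain ⟨k3, rfl⟩ := e3
  obtain ⟨k4, rfl⟩ := e4
  obtain ⟨k5, rfl⟩ := e5
  obtain ⟨k6, rfl⟩ := e6
  rw [hW, enum_A (W (f 3)) (by simp; omega) (W (f 4)) (by simp; omega) (W (f 5)) (by simp; omega)
    (W (f 6)) (by simp; omega) (W (f 1)) (by simp; omega) (by omega) hq']

theorem caseB_involution [IsSimpleGroup G] (hG : Nat.card G = 7920) {x z : G}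
    (hx : orderOf x = 11) (hz : orderOf z = 2) {f : Fin 7 → IrrCharacter G} (hf : CaseB x f) :
    ∃ a b c : ℤ, (f 3 : G → ℂ) z = a ∧ (f 4 : G → ℂ) z = b ∧ (f 5 : G → ℂ) z = c ∧
      a + b + c = -2 ∧ a * a = 4 ∧ b * b = 4 ∧ c * c = 4 ∧
      (f 6 : G → ℂ) z = ((-3 : ℤ) : ℂ) ∧ (f 1 : G → ℂ) z = 0 ∧ (f 2 : G → ℂ) z = 0 := by
  obtain ⟨hinj, h0, hd, hv, hout⟩ := hf
  obtain ⟨W, hW, hW0, hWm⟩ := exists_int_column hG hz
  obtain ⟨hl, hq⟩ := column_relations hG hx hz hW hinj hout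
  simp only [Fin.sum_univ_seven, hv, hd] at hl hq
  simp [h0, hW0] at hl hq
  have hne : ∀ i, i ≠ 0 → f i ≠ trivIrr G := fun i hi h => hi (hinj (h.trans h0.symm))
  obtain ⟨m1, e1, p1, l1, w1⟩ := hWm _ (hne 1 (by decide))
  obtain ⟨m3, e3, p3, l3, w3⟩ := hWm _ (hne 3 (by decide))
  obtain ⟨m4, e4, p4, l4, w4⟩ := hWm _ (hne 4 (by decide))
  obtain ⟨m5, e5, p5, l5, w5⟩ := hWm _ (hne 5 (by decide))
  obtain ⟨m6, e6, p6, l6, w6⟩ := hWm _ (hne 6 (by decide))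
  simp [hd] at l1 w1 l3 w3 l4 w4 l5 w5 l6 w6
  obtain ⟨hlin, hW12⟩ := eta_coeff
    (a := 1 - W (f 2) - W (f 3) - W (f 4) - W (f 5) + W (f 6)) (b := W (f 1) - W (f 2))
    (by push_cast; linear_combination hl)
  have hW12' : W (f 2) = W (f 1) := by omega
  rw [hW12'] at hq
  have hq' : (720 - 72 * (W (f 3) * W (f 3) + W (f 4) * W (f 4) + W (f 5) * W (f 5))
      + 16 * (W (f 6) * W (f 6)) - 45 * (W (f 1) * W (f 1)) : ℤ) = 0 := by
    have : ((720 - 72 * (W (f 3) * W (f 3) + W (f 4) * W (f 4) + W (f 5) * W (f 5))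
      + 16 * (W (f 6) * W (f 6)) - 45 * (W (f 1) * W (f 1)) : ℤ) : ℂ) = 0 := by
      push_cast; linear_combination 720 * hq
    exact_mod_cast this
  obtain ⟨k1, rfl⟩ := e1
  obtain ⟨k3, rfl⟩ := e3
  obtain ⟨k4, rfl⟩ := e4
  obtain ⟨k5, rfl⟩ := e5
  obtain ⟨k6, rfl⟩ := e6
  obtain ⟨he, hp, hsum, ha, hb, hc⟩ :=
    enum_B (W (f 3)) (by simp; omega) (W (f 4)) (by simp; omega) (W (f 5)) (by simp; omega)
      (W (f 1)) (by simp; omega) (W (f 6)) (by simp; omega) (by omega) hq'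
  exact ⟨_, _, _, hW _, hW _, hW _, hsum, ha, hb, hc, by rw [hW, he], by rw [hW, hp]; simp,
    by rw [hW, hW12', hp]; simp⟩

theorem five_not_dvd [IsSimpleGroup G] (hG : Nat.card G = 7920) {z : G} (hz : orderOf z = 2) :
    ¬ 5 ∣ Nat.card (Subgroup.centralizer ({z} : Set G)) := by
  haveI : Fact (Nat.Prime 11) := ⟨by norm_num⟩
  obtain ⟨x, hx⟩ := exists_prime_orderOf_dvd_card' 11 (G := G) (by rw [hG]; norm_num)
  have hKC := card_conj_mul_card_centralizer z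
  rw [hG] at hKC
  have key : 5 ∣ Nat.card {g : G // IsConj z g} := by
    rcases case_split hG hx with ⟨f, hf⟩ | ⟨f, hf⟩
    · have h1 := caseA_involution hG hx hz hf
      have hd : deg (f 1) = 5 := by rw [hf.2.2.1 1]; rfl
      have h := class_dvd (f 1).2 (d := 5) (by rw [deg_eq, hd]) (by norm_num) rfl h1
      omega
    · obtain ⟨-, -, -, -, -, -, -, -, -, -, h6, -, -⟩ := caseB_involution hG hx hz hf
      have hd : deg (f 6) = 45 := by rw [hf.2.2.1 6]; rfl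
      have h := class_dvd (f 6).2 (d := 45) (by rw [deg_eq, hd]) (by norm_num) rfl h6
      omega
  intro h
  have := Nat.mul_dvd_mul key h
  rw [hKC] at this
  norm_num at this

end Cfsg.Agent.Lib.Characters.Order7920
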