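import Cfsg.Agent.Lib.Characters.Order7920.Recognition
import Cfsg.Agent.Lib.SylowCounting.FourPrimes

/-!
# Groups of order 7920 with disconnected prime graph are simple
-/

namespace Cfsg.Agent.Lib.Characters.Order7920

open Cfsg Cfsg.Agent.Lib.SylowCounting
open scoped Pointwise commutatorElement

universe u

variable {G : Type u} [Group G] [Finite G]

/-- An edge of the prime graph from commuting elements. -/
theorem edge {p q : ℕ} (hp : p.Prime) (hq : q.Prime) (hne : p ≠ q) {a b : G} (ha : orderOf a = p)
    (hb : orderOf b = q) (hab : a * b = b * a) : ∃ g : G, orderOf g = p * q :=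
  ⟨a * b, by
    rw [Commute.orderOf_mul_eq_mul_orderOf_of_coprime hab
      (by rw [ha, hb]; exact (Nat.coprime_primes hp hq).2 hne), ha, hb]⟩

theorem edge_symm {p q : ℕ} (h : ∃ g : G, orderOf g = p * q) : ∃ g : G, orderOf g = q * p := by
  rwa [mul_comm]

/-- Edge from a prime divisor of the order of a centralizer. -/
theorem edge_of_dvd {p q : ℕ} (hp : p.Prime) (hq : q.Prime) (hne : p ≠ q) {a : G}
    (ha : orderOf a = p) (hd : q ∣ Nat.card (Subgroup.centralizer ({a} : Set G))) :
    ∃ g : G, orderOf g = p * q := by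
  haveI := Fact.mk hq
  obtain ⟨b, hb⟩ := exists_prime_orderOf_dvd_card' q hd
  exact edge hp hq hne ha (by rw [Subgroup.orderOf_coe, hb])
    (Subgroup.mem_centralizer_singleton_iff.1 b.2).symm

/-- The partition of the primes is impossible when the four primes are joined. -/
theorem not_disconnected (hG : Nat.card G = 7920)
    (hdisc : (∃ A : Set ℕ, (∃ a ∈ A, a.Prime ∧ a ∣ Nat.card G) ∧ (∃ b ∉ A, b.Prime ∧ b ∣ Nat.card G) ∧
      ∀ a ∈ A, ∀ b ∉ A, a.Prime → b.Prime → a ∣ Nat.card G → b ∣ Nat.card G →
        ¬ ∃ g : G, orderOf g = a * b))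
    (h2 : (∃ g : G, orderOf g = 11 * 2) ) (h3 : (∃ g : G, orderOf g = 11 * 3) ∨ ∃ g : G, orderOf g = 2 * 3)
    (h5 : (∃ g : G, orderOf g = 11 * 5) ∨ (∃ g : G, orderOf g = 2 * 5) ∨ ∃ g : G, orderOf g = 3 * 5) :
    False := by
  obtain ⟨A, ⟨a, ha, hap, had⟩, ⟨b, hb, hbp, hbd⟩, hno⟩ := hdisc
  have same : ∀ p q : ℕ, p.Prime → q.Prime → p ∣ 7920 → q ∣ 7920 →
      (∃ g : G, orderOf g = p * q) → (p ∈ A ↔ q ∈ A) := by
    intro p q hp hq hpd hqd he
    constructor
    · intro h
      by_contra h'
      exact hno p h q h' hp hq (hG ▸ hpd) (hG ▸ hqd) he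
    · intro h
      by_contra h'
      exact hno q h p h' hq hp (hG ▸ hqd) (hG ▸ hpd) (edge_symm he)
  have e2 : 11 ∈ A ↔ 2 ∈ A := same 11 2 (by norm_num) (by norm_num) (by norm_num) (by norm_num) h2
  have e3 : 11 ∈ A ↔ 3 ∈ A := by
    rcases h3 with h | h
    · exact same 11 3 (by norm_num) (by norm_num) (by norm_num) (by norm_num) h
    · exact e2.trans (same 2 3 (by norm_num) (by norm_num) (by norm_num) (by norm_num) h)
  have e5 : 11 ∈ A ↔ 5 ∈ A := by
    rcases h5 with h | h | h
    · exact same 11 5 (by norm_num) (by norm_num) (by norm_num) (by norm_num) h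
    · exact e2.trans (same 2 5 (by norm_num) (by norm_num) (by norm_num) (by norm_num) h)
    · exact e3.trans (same 3 5 (by norm_num) (by norm_num) (by norm_num) (by norm_num) h)
  have four : ∀ p : ℕ, p.Prime → p ∣ Nat.card G → (p ∈ A ↔ 11 ∈ A) := by
    intro p hp hpd
    rw [hG, show (7920 : ℕ) = 2 ^ 4 * 3 ^ 2 * 5 * 11 by norm_num] at hpd
    rcases (Nat.Prime.dvd_mul hp).1 hpd with h | h
    rcases (Nat.Prime.dvd_mul hp).1 h with h | h
    rcases (Nat.Prime.dvd_mul hp).1 h with h | h
    · rw [(Nat.prime_dvd_prime_iff_eq hp (by norm_num)).1 (hp.dvd_of_dvd_pow h)]; exact e2.symm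
    · rw [(Nat.prime_dvd_prime_iff_eq hp (by norm_num)).1 (hp.dvd_of_dvd_pow h)]; exact e3.symm
    · rw [(Nat.prime_dvd_prime_iff_eq hp (by norm_num)).1 h]; exact e5.symm
    · rw [(Nat.prime_dvd_prime_iff_eq hp (by norm_num)).1 h]
  exact hb ((four b hbp hbd).2 ((four a hap had).1 ha))

/-- An element of order five normalising a group of order three or nine centralises it. -/
theorem five_centralizes (R : Subgroup G) (hR : Nat.card R ∣ 9) {y : G} (hy : orderOf y = 5)
    (hnorm : y ∈ Subgroup.normalizer (R : Set G)) : ∀ r ∈ R, y * r = r * y := by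
  let φ : MulAut R := (R.normalizerMonoidHom) ⟨y, hnorm⟩
  have h5 : φ ^ 5 = 1 := by
    rw [← map_pow, ← hy]
    have : (⟨y, hnorm⟩ : Subgroup.normalizer (R : Set G)) ^ orderOf y = 1 :=
      Subtype.ext (by simp [pow_orderOf_eq_one])
    rw [this, map_one]
  have hφ : φ = 1 := by
    haveI : Fact (Nat.Prime 3) := ⟨by norm_num⟩
    obtain ⟨k, hk, hcard⟩ := (Nat.dvd_prime_pow (by norm_num : Nat.Prime 3)).1
      (show Nat.card R ∣ 3 ^ 2 from hR)
    by_contra hne
    haveI : Fact (Nat.Prime 5) := ⟨by norm_num⟩
    have ho : orderOf φ = 5 := orderOf_eq_prime h5 hne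
    rcases Nat.lt_or_ge k 2 with hlt | hge
    · -- at most three points: the orbits of an automorphism of order five are fixed points
      have hle : Nat.card R ≤ 3 := by
        rw [hcard]
        interval_cases k <;> norm_num
      haveI := Fintype.ofFinite R
      have hinj : Function.Injective fun ψ : MulAut R => ψ.toEquiv := fun a b h => MulEquiv.toEquiv_injective h
      let f : MulAut R →* Equiv.Perm R :=
        { toFun := fun ψ => ψ.toEquiv, map_one' := rfl, map_mul' := fun _ _ => rfl }
      have ho' : orderOf (f φ) = 5 := by rw [orderOf_injective f hinj φ, ho]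
      have := orderOf_dvd_natCard (f φ)
      rw [ho', Nat.card_perm] at this
      have h6 : (Nat.card R).factorial ∣ 6 :=
        (Nat.factorial_dvd_factorial hle).trans (dvd_of_eq rfl)
      have := this.trans h6
      norm_num at this
    · have hk2 : k = 2 := by omega
      subst hk2
      rcases prime_dvd_of_aut_sq (by norm_num : Nat.Prime 3) (by norm_num : Nat.Prime 5)
        (by norm_num) hcard φ ho with h | h <;> norm_num at h
  intro r hr
  have h := congrArg (fun ψ : MulAut R => ((ψ ⟨r, hr⟩ : R) : G)) hφ
  simp only [φ, MulAut.one_apply, Subgroup.normalizerMonoidHom_apply_apply_coe] at h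
  rwa [mul_inv_eq_iff_eq_mul] at h

/-- One or twelve Sylow 11-subgroups: the graph is connected. -/
theorem edges_of_few (hG : Nat.card G = 7920) {x : G} (hx : orderOf x = 11)
    (hr : Nat.card (Sylow 11 G) = 1 ∨ Nat.card (Sylow 11 G) = 12) :
    (∃ g : G, orderOf g = 11 * 2) ∧ (∃ g : G, orderOf g = 11 * 3) ∧
      ((∃ g : G, orderOf g = 11 * 5) ∨ ∃ g : G, orderOf g = 3 * 5) := by
  haveI : Fact (Nat.Prime 11) := ⟨by norm_num⟩
  haveI : Fact (Nat.Prime 5) := ⟨by norm_num⟩
  haveI : Fact (Nat.Prime 3) := ⟨by norm_num⟩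
  obtain ⟨P, hP⟩ := sylow_of_orderOf hx (m := 720) (by rw [hG]; norm_num) (by norm_num)
  have hN0 := normalizer_card_of_count P rfl
  rw [hP, hG] at hN0
  set N := Subgroup.normalizer (Subgroup.zpowers x : Set G) with hN
  have hN' : Nat.card N = 7920 ∨ Nat.card N = 660 := by rcases hr with e | e <;> rw [e] at hN0 <;> omega
  -- the automorphism group of `⟨x⟩` has order ten
  set C := (Subgroup.normalizerMonoidHom (Subgroup.zpowers x)).ker with hCdef
  have hindex : C.index ∣ 10 := by
    haveI := isCyclic_of_prime_card (α := Subgroup.zpowers x) (p := 11)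
      (by rw [Nat.card_zpowers, hx])
    have h1 := Subgroup.index_ker (Subgroup.normalizerMonoidHom (Subgroup.zpowers x))
    rw [h1]
    refine (Subgroup.card_subgroup_dvd_card _).trans ?_
    rw [IsCyclic.card_mulAut, Nat.card_zpowers, hx]
    decide
  have hCmem : ∀ c ∈ C, (c : G) * x = x * c := by
    intro c hc
    have h := congrArg (fun ψ : MulAut (Subgroup.zpowers x) =>
      ((ψ ⟨x, Subgroup.mem_zpowers x⟩ : Subgroup.zpowers x) : G)) (MonoidHom.mem_ker.1 hc)
    simp only [MulAut.one_apply, Subgroup.normalizerMonoidHom_apply_apply_coe] at h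
    rwa [mul_inv_eq_iff_eq_mul] at h
  have hedge : ∀ q : ℕ, q.Prime → q ≠ 11 → q ∣ Nat.card C → ∃ g : G, orderOf g = 11 * q := by
    intro q hq hne hd
    haveI := Fact.mk hq
    obtain ⟨c, hc⟩ := exists_prime_orderOf_dvd_card' q hd
    exact edge (by norm_num) hq hne.symm hx
      (show orderOf (((c : N) : G)) = q by rw [Subgroup.orderOf_coe, Subgroup.orderOf_coe, hc])
      (hCmem c c.2).symm
  have hmul := C.index_mul_card
  have hidx : C.index = 1 ∨ C.index = 2 ∨ C.index = 5 ∨ C.index = 10 := by
    have := Nat.le_of_dvd (by norm_num) hindex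
    have h10 : ∀ i ≤ 10, i ∣ 10 → i = 1 ∨ i = 2 ∨ i = 5 ∨ i = 10 := by decide
    exact h10 _ this hindex
  have h23 : 2 ∣ Nat.card C ∧ 3 ∣ Nat.card C := by
    rcases hN' with e | e <;> rw [e] at hmul <;> rcases hidx with i | i | i | i <;> rw [i] at hmul <;>
      omega
  refine ⟨hedge 2 (by norm_num) (by norm_num) h23.1, hedge 3 (by norm_num) (by norm_num) h23.2, ?_⟩
  by_cases h5 : 5 ∣ Nat.card C
  · exact Or.inl (hedge 5 (by norm_num) (by norm_num) h5)
  right
  obtain ⟨y, hy⟩ := exists_prime_orderOf_dvd_card' 5 (G := N) (by rcases hN' with e | e <;> rw [e] <;> norm_num)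
  haveI : C.Normal := by rw [hCdef]; infer_instance
  letI : MulAction (Subgroup.zpowers y) (Sylow 3 C) :=
    MulAction.compHom _ (((MulAut.conjNormal : N →* MulAut C)).comp (Subgroup.zpowers y).subtype)
  have hpg : IsPGroup 5 (Subgroup.zpowers y) :=
    IsPGroup.of_card (n := 1) (by rw [Nat.card_zpowers, hy, pow_one])
  have hk : ¬ 5 ∣ Nat.card (Sylow 3 C) := by
    let R : Sylow 3 C := default
    intro h
    exact h5 (h.trans (R.card_dvd_index.trans (R : Subgroup C).index_dvd_card))
  obtain ⟨R, hRfix⟩ := hpg.nonempty_fixed_point_of_prime_not_dvd_card (Sylow 3 C) hk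
  have hfix : ((MulAut.conjNormal y : MulAut C) • R : Sylow 3 C) = R :=
    hRfix ⟨y, Subgroup.mem_zpowers y⟩
  set R' : Subgroup N := (R : Subgroup C).map C.subtype with hR'
  have hR'9 : Nat.card R' ∣ 9 := by
    rw [hR', Subgroup.card_map_of_injective C.subtype_injective]
    have hd : Nat.card (R : Subgroup C) ∣ 7920 := by
      refine ((R : Subgroup C).card_subgroup_dvd_card).trans ((Subgroup.card_subgroup_dvd_card C).trans ?_)
      rcases hN' with e | e <;> rw [e] <;> norm_num
    obtain ⟨k, hk'⟩ := R.2.exists_card_eq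
    rw [hk'] at hd ⊢
    have hk2 : k ≤ 2 := by
      by_contra h
      have := (Nat.pow_dvd_pow 3 (by omega : 3 ≤ k)).trans hd
      norm_num at this
    exact (Nat.pow_dvd_pow 3 hk2).trans (dvd_of_eq (by norm_num))
  have hnorm : y ∈ Subgroup.normalizer (R' : Set N) := by
    rw [Subgroup.mem_normalizer_iff_conj_image_eq]
    refine Set.eq_of_subset_of_ncard_le ?_ ?_
    · rintro _ ⟨a, ha, rfl⟩
      obtain ⟨s, hs, rfl⟩ := Subgroup.mem_map.1 ha
      refine Subgroup.mem_map.2 ⟨MulAut.conjNormal y s, ?_, by simp [MulAut.conjNormal_apply]⟩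
      have : MulAut.conjNormal y s ∈ ((MulAut.conjNormal y : MulAut C) • R : Sylow 3 C) := by
        show _ ∈ ((MulAut.conjNormal y : MulAut C) • (R : Subgroup C))
        exact Subgroup.smul_mem_pointwise_smul _ _ _ hs
      rwa [hfix] at this
    · rw [Set.ncard_image_of_injective _ (MulAut.conj y).injective]
  have hcomm := five_centralizes R' hR'9 hy hnorm
  obtain ⟨r, hr3⟩ := exists_prime_orderOf_dvd_card' 3 (G := R') (by
    rw [hR', Subgroup.card_map_of_injective C.subtype_injective]
    exact Sylow.dvd_card_of_dvd_card R h23.2)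
  exact edge (by norm_num) (by norm_num) (by norm_num)
    (show orderOf (((r : N) : G)) = 3 by rw [Subgroup.orderOf_coe, Subgroup.orderOf_coe, hr3])
    (show orderOf ((y : G)) = 5 by rw [Subgroup.orderOf_coe, hy])
    (congrArg Subtype.val (hcomm r r.2)).symm

/-- With 45 Sylow 11-subgroups, a normal 2-subgroup gives edges from 2 to all other primes. -/
theorem edges_of_normal_two (hG : Nat.card G = 7920) (h45 : Nat.card (Sylow 11 G) = 45)
    (K : Subgroup G) [K.Normal] (hK : IsPGroup 2 K) (hne : K ≠ ⊥) :
    (∃ g : G, orderOf g = 11 * 2) ∧ (∃ g : G, orderOf g = 2 * 3) ∧ ∃ g : G, orderOf g = 2 * 5 := by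
  haveI : Fact (Nat.Prime 11) := ⟨by norm_num⟩
  haveI : Fact (Nat.Prime 2) := ⟨by norm_num⟩
  haveI : Fact (Nat.Prime 3) := ⟨by norm_num⟩
  haveI : Fact (Nat.Prime 5) := ⟨by norm_num⟩
  obtain ⟨n, hn⟩ := hK.exists_card_eq
  have hn4 : n ≤ 4 := by
    by_contra h
    have h' := (Nat.pow_dvd_pow 2 (by omega : 5 ≤ n)).trans (hn ▸ hG ▸ K.card_subgroup_dvd_card)
    norm_num at h'
  -- elements of order eleven centralise `K`
  have hcen : ∀ x : G, orderOf x = 11 → ∀ k ∈ K, x * k = k * x := by
    intro x hx k hk
    let φ : MulAut K := MulAut.conjNormal x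
    have hφ : φ = 1 := by
      by_contra hne'
      have ho : orderOf φ = 11 := orderOf_eq_prime
        (by rw [← map_pow, ← hx, pow_orderOf_eq_one, map_one]) hne'
      haveI := Fintype.ofFinite K
      have hlt : ∀ m ≤ n, ∀ v : ℕ, v = 2 ^ m → v % 11 = 1 → v = 1 := by
        intro m hm v hv h
        interval_cases n <;> interval_cases m <;> omega
      letI : MulAction (Subgroup.zpowers x) K :=
        MulAction.compHom _ (((MulAut.conjNormal : G →* MulAut K)).comp (Subgroup.zpowers x).subtype)
      have hpg : IsPGroup 11 (Subgroup.zpowers x) :=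
        IsPGroup.of_card (n := 1) (by rw [Nat.card_zpowers, hx, pow_one])
      have hmod := hpg.card_modEq_card_fixedPoints K
      let F : Subgroup K := MonoidHom.eqLocus φ.toMonoidHom (MonoidHom.id K)
      have hF : Nat.card (MulAction.fixedPoints (Subgroup.zpowers x) K) = Nat.card F := by
        refine Nat.card_congr (Equiv.subtypeEquivRight fun a => ?_)
        rw [MulAction.mem_fixedPoints]
        constructor
        · intro h; exact h ⟨x, Subgroup.mem_zpowers x⟩
        · intro h g
          have hle : Subgroup.zpowers x ≤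
              (MulAction.stabilizer (MulAut K) a).comap (MulAut.conjNormal : G →* MulAut K) :=
            Subgroup.zpowers_le.2 h
          exact hle g.2
      obtain ⟨j, hj, hFc⟩ := (Nat.dvd_prime_pow (by norm_num : Nat.Prime 2)).1
        (hn ▸ F.card_subgroup_dvd_card)
      rw [hF, hFc, hn] at hmod
      have hjn : j = n := by
        interval_cases n <;> interval_cases j <;> revert hmod <;> decide
      have hFtop : F = ⊤ := F.eq_top_of_card_eq (by rw [hFc, hjn, hn])
      exact hne' (MulEquiv.ext fun a => (hFtop ▸ Subgroup.mem_top a : a ∈ F))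
    have h := congrArg (fun ψ : MulAut K => ((ψ ⟨k, hk⟩ : K) : G)) hφ
    simp only [φ, MulAut.one_apply, MulAut.conjNormal_apply] at h
    rwa [mul_inv_eq_iff_eq_mul] at h
  obtain ⟨z, hz⟩ := exists_prime_orderOf_dvd_card' 2 (G := K) (by
    rw [hn]
    refine dvd_pow_self 2 fun h => hne (Subgroup.eq_bot_of_card_eq K ?_)
    rw [hn, h, pow_zero])
  have hz' : orderOf (z : G) = 2 := by rw [Subgroup.orderOf_coe, hz]
  set C := Subgroup.centralizer ({(z : G)} : Set G) with hC
  -- all Sylow 11-subgroups lie in `C`
  have hall : ∀ P : Sylow 11 G, (P : Subgroup G) ≤ C := by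
    intro P a ha
    rw [hC, Subgroup.mem_centralizer_singleton_iff]
    by_cases h1 : a = 1
    · subst h1; simp
    refine hcen a (orderOf_eq_prime ?_ h1) _ z.2
    have h := (P : Subgroup G).orderOf_dvd_natCard ha
    rw [sylow_card (k := 1) (m := 720) (by rw [hG]; norm_num) (by norm_num) P, pow_one] at h
    exact orderOf_dvd_iff_pow_eq_one.1 h
  have h11 : 11 ∣ Nat.card C := by
    let P : Sylow 11 G := default
    have := Subgroup.card_dvd_of_le (hall P)
    rwa [sylow_card (k := 1) (m := 720) (by rw [hG]; norm_num) (by norm_num) P, pow_one] at this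
  have h45' : 45 ∣ Nat.card C := by
    have e : Nat.card (Sylow 11 C) = 45 := by
      refine h45 ▸ Nat.card_congr (Equiv.ofBijective
        (fun T : Sylow 11 G => (T.subtype (hall T) : Sylow 11 C)) ⟨?_, ?_⟩).symm
      · intro T T' h
        exact Sylow.subtype_injective h
      · intro Q
        obtain ⟨T, hT⟩ := (Q.2.map C.subtype).exists_le_sylow
        refine ⟨T, Sylow.ext ?_⟩
        exact (Q.3 (T.subtype (hall T)).2 (by
          rw [Sylow.coe_subtype]
          exact Subgroup.map_le_iff_le_comap.1 hT))
    rw [← e]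
    let Q : Sylow 11 C := default
    exact Q.card_dvd_index.trans (Q : Subgroup C).index_dvd_card
  refine ⟨edge_symm (edge_of_dvd (by norm_num) (by norm_num) (by norm_num) hz' h11),
    edge_of_dvd (by norm_num) (by norm_num) (by norm_num) hz' ((by norm_num : 3 ∣ 45).trans h45'),
    edge_of_dvd (by norm_num) (by norm_num) (by norm_num) hz' ((by norm_num : 5 ∣ 45).trans h45')⟩

theorem isSimpleGroup_of_disconnected (hG : Nat.card G = 7920)
    (hdisc : (∃ A : Set ℕ, (∃ a ∈ A, a.Prime ∧ a ∣ Nat.card G) ∧ (∃ b ∉ A, b.Prime ∧ b ∣ Nat.card G) ∧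
      ∀ a ∈ A, ∀ b ∉ A, a.Prime → b.Prime → a ∣ Nat.card G → b ∣ Nat.card G →
        ¬ ∃ g : G, orderOf g = a * b)) :
    IsSimpleGroup G := by
  classical
  haveI : Fact (Nat.Prime 11) := ⟨by norm_num⟩
  obtain ⟨x, hx⟩ := exists_prime_orderOf_dvd_card' 11 (G := G) (by rw [hG]; norm_num)
  have hcand := sylow_count_mem (G := G) (p := 11) (k := 1) (m := 720) (by rw [hG]; norm_num)
    (by norm_num)
  rw [show (Nat.divisors 720).filter (fun d => d % 11 = 1) = {1, 12, 45, 144} by decide +kernel] at hcand
  simp only [Finset.mem_insert, Finset.mem_singleton] at hcand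
  -- centralisers of elements of order eleven
  have hCle : ∀ y : G, orderOf y = 11 → Nat.card (Sylow 11 G) *
      Nat.card (Subgroup.centralizer ({y} : Set G)) ∣ 7920 := by
    intro y hy
    obtain ⟨P, hP⟩ := sylow_of_orderOf hy (m := 720) (by rw [hG]; norm_num) (by norm_num)
    have h := normalizer_card_of_count P rfl
    rw [hG] at h
    rw [← h]
    refine Nat.mul_dvd_mul_left _ (Subgroup.card_dvd_of_le ?_)
    rw [centralizer_singleton_eq_zpowers, ← hP]
    exact Subgroup.centralizer_le_normalizer _
  rcases hcand with h | h | h | h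
  · obtain ⟨a, b, c⟩ := edges_of_few hG hx (Or.inl h)
    exact (not_disconnected hG hdisc a (Or.inl b) (c.imp_right Or.inr)).elim
  · obtain ⟨a, b, c⟩ := edges_of_few hG hx (Or.inr h)
    exact (not_disconnected hG hdisc a (Or.inl b) (c.imp_right Or.inr)).elim
  · -- forty-five Sylow 11-subgroups
    have hC35 : ∀ y : G, orderOf y = 11 → ∀ q : ℕ, q = 3 ∨ q = 5 →
        ¬ q ∣ Nat.card (Subgroup.centralizer ({y} : Set G)) := by
      intro y hy q hq hd
      have := (Nat.mul_dvd_mul_left 45 hd).trans (h ▸ hCle y hy)
      rcases hq with rfl | rfl <;> norm_num at this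
    by_contra hns
    haveI : Nontrivial G := (Finite.one_lt_card_iff_nontrivial).1 (by rw [hG]; norm_num)
    have hno2 : ∀ (K : Subgroup G) [K.Normal], IsPGroup 2 K → K = ⊥ := fun K _ hK => by
      by_contra hne
      obtain ⟨a, b, c⟩ := edges_of_normal_two hG h K hK hne
      exact not_disconnected hG hdisc a (Or.inr b) (Or.inr (Or.inl c))
    -- subgroups of order prime to eleven normalised by an element of order eleven
    have htwo : ∀ (M : Subgroup G) (J : Subgroup M), J.Normal → (∃ y ∈ M, orderOf y = 11) →
        ¬ 11 ∣ Nat.card J → IsPGroup 2 J := by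
      intro M J hJ hy h11
      obtain ⟨y, hyM, hy⟩ := hy
      have hdvd : Nat.card J ∣ 7920 := hG ▸
        ((Subgroup.card_subgroup_dvd_card J).trans (Subgroup.card_subgroup_dvd_card M))
      have hodd : ∀ q : ℕ, q = 3 ∨ q = 5 → ¬ q ∣ Nat.card J := by
        intro q hq hd
        haveI : Fact q.Prime := ⟨by rcases hq with rfl | rfl <;> norm_num⟩
        haveI := hJ
        let y' : M := ⟨y, hyM⟩
        letI : MulAction (Subgroup.zpowers y') (Sylow q J) :=
          MulAction.compHom _ (((MulAut.conjNormal : M →* MulAut J)).comp (Subgroup.zpowers y').subtype)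
        have hpg : IsPGroup 11 (Subgroup.zpowers y') :=
          IsPGroup.of_card (n := 1) (by rw [Nat.card_zpowers, ← Subgroup.orderOf_coe, hy, pow_one])
        have hk : ¬ 11 ∣ Nat.card (Sylow q J) := by
          let P : Sylow q J := default
          intro h'
          exact h11 (h'.trans (P.card_dvd_index.trans (P : Subgroup J).index_dvd_card))
        obtain ⟨P, hP⟩ := hpg.nonempty_fixed_point_of_prime_not_dvd_card (Sylow q J) hk
        have hfix : ((MulAut.conjNormal y' : MulAut J) • P : Sylow q J) = P :=
          hP ⟨y', Subgroup.mem_zpowers y'⟩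
        set R : Subgroup G := ((P : Subgroup J).map J.subtype).map M.subtype with hR
        have hRcard : Nat.card R = Nat.card (P : Subgroup J) := by
          rw [hR, Subgroup.card_map_of_injective M.subtype_injective,
            Subgroup.card_map_of_injective J.subtype_injective]
        have hRp : IsPGroup q R := (P.2.map _).map _
        have hRn : ∀ r ∈ R, y * r * y⁻¹ ∈ R := by
          intro r hr
          obtain ⟨s, hs, rfl⟩ := Subgroup.mem_map.1 hr
          obtain ⟨t, ht, rfl⟩ := Subgroup.mem_map.1 hs
          refine Subgroup.mem_map.2 ⟨y' * (t : M) * y'⁻¹,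
            Subgroup.mem_map.2 ⟨MulAut.conjNormal y' t, ?_, by simp [MulAut.conjNormal_apply]⟩, rfl⟩
          have : MulAut.conjNormal y' t ∈ ((MulAut.conjNormal y' : MulAut J) • P : Sylow q J) := by
            show _ ∈ ((MulAut.conjNormal y' : MulAut J) • (P : Subgroup J))
            exact Subgroup.smul_mem_pointwise_smul _ _ _ ht
          rwa [hfix] at this
        obtain ⟨n, hn⟩ := P.2.exists_card_eq
        have hn1 : n ≠ 0 := fun e => by
          have := Sylow.dvd_card_of_dvd_card P hd
          rw [hn, e, pow_zero] at this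
          exact (Fact.out : q.Prime).ne_one (Nat.dvd_one.1 this)
        have hq7920 : q ^ n ∣ 7920 := hn ▸ (Subgroup.card_subgroup_dvd_card _).trans hdvd
        have hn2 : n ≤ 2 := by
          by_contra h'
          have := (Nat.pow_dvd_pow q (by omega : 3 ≤ n)).trans hq7920
          rcases hq with rfl | rfl <;> norm_num at this
        -- the fixed points of `y` are trivial
        haveI : Fact (Nat.Prime 11) := ⟨by norm_num⟩
        letI : MulAction (Subgroup.zpowers y) R :=
          { smul := fun k r => ⟨(k : G) * r * (k : G)⁻¹, by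
              obtain ⟨i, hi⟩ := (Submonoid.mem_powers_iff (k : G) y).1
                (mem_powers_iff_mem_zpowers.2 k.2)
              rw [← hi]
              clear hi
              induction i with
              | zero => simp
              | succ i ih =>
                have := hRn _ ih
                rwa [show y * (y ^ i * (r : G) * (y ^ i)⁻¹) * y⁻¹ =
                  y ^ (i + 1) * r * (y ^ (i + 1))⁻¹ by rw [pow_succ']; group] at this⟩
            one_smul := fun r => Subtype.ext (show (1 : G) * r * (1 : G)⁻¹ = r by simp)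
            mul_smul := fun a b r => Subtype.ext (show ((a : G) * b) * r * ((a : G) * b)⁻¹ =
              (a : G) * ((b : G) * r * (b : G)⁻¹) * (a : G)⁻¹ by group) }
        have hpgy : IsPGroup 11 (Subgroup.zpowers y) :=
          IsPGroup.of_card (n := 1) (by rw [Nat.card_zpowers, hy, pow_one])
        have hmod := hpgy.card_modEq_card_fixedPoints R
        have hone : ∀ r : R, r ∈ MulAction.fixedPoints (Subgroup.zpowers y) R → r = 1 := by
          intro r hr
          have h' : y * (r : G) * y⁻¹ = r := congrArg Subtype.val (hr ⟨y, Subgroup.mem_zpowers y⟩)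
          rw [mul_inv_eq_iff_eq_mul] at h'
          have hrC : (r : G) ∈ Subgroup.centralizer ({y} : Set G) :=
            Subgroup.mem_centralizer_singleton_iff.2 h'.symm
          obtain ⟨i, hi⟩ := (IsPGroup.iff_orderOf.1 hRp) r
          rcases i with _ | i
          · rw [pow_zero, orderOf_eq_one_iff] at hi; exact hi
          · exfalso
            apply hC35 y hy q hq
            refine dvd_trans ?_ ((Subgroup.centralizer ({y} : Set G)).orderOf_dvd_natCard hrC)
            rw [Subgroup.orderOf_coe, hi]
            exact dvd_pow_self q (by omega)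
        haveI : Subsingleton (MulAction.fixedPoints (Subgroup.zpowers y) R) :=
          ⟨fun a b => Subtype.ext ((hone _ a.2).trans (hone _ b.2).symm)⟩
        haveI : Nonempty (MulAction.fixedPoints (Subgroup.zpowers y) R) :=
          ⟨⟨1, fun k => Subtype.ext (show (k : G) * (1 : G) * (k : G)⁻¹ = 1 by simp)⟩⟩
        rw [Nat.card_unique (α := MulAction.fixedPoints (Subgroup.zpowers y) R), hRcard, hn] at hmod
        have hn12 : n = 1 ∨ n = 2 := by omega
        rcases hq with rfl | rfl <;> rcases hn12 with rfl | rfl <;> revert hmod <;> decide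
      refine IsPGroup.of_card (n := (Nat.card J).factorization 2) ?_
      have h8 : Nat.card J ∣ 2 ^ 4 := by
        have c : Nat.Coprime (Nat.card J) (3 ^ 2 * 5 * 11) := by
          refine Nat.Coprime.mul_right (Nat.Coprime.mul_right (Nat.Coprime.pow_right 2 ?_) ?_) ?_
          · exact ((Nat.Prime.coprime_iff_not_dvd (by norm_num)).2 (hodd 3 (Or.inl rfl))).symm
          · exact ((Nat.Prime.coprime_iff_not_dvd (by norm_num)).2 (hodd 5 (Or.inr rfl))).symm
          · exact ((Nat.Prime.coprime_iff_not_dvd (by norm_num)).2 h11).symm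
        exact c.dvd_of_dvd_mul_right (by norm_num; exact hdvd)
      obtain ⟨k, -, hk⟩ := (Nat.dvd_prime_pow (by norm_num : Nat.Prime 2)).1 h8
      rw [hk, Nat.Prime.factorization_pow (by norm_num)]; simp
    have hsmallG : ∀ N : Subgroup G, N.Normal → ¬ 11 ∣ Nat.card N → N = ⊥ := by
      intro N hN h11
      have hn' : (N.subgroupOf ⊤).Normal := hN.subgroupOf ⊤
      have hc : Nat.card (N.subgroupOf ⊤) = Nat.card N :=
        Nat.card_congr (Subgroup.subgroupOfEquivOfLe le_top).toEquiv
      have hp := htwo ⊤ (N.subgroupOf ⊤) hn' ⟨x, Subgroup.mem_top x, hx⟩ (by rw [hc]; exact h11)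
      haveI := hN
      refine hno2 N ?_
      obtain ⟨k, hk⟩ := hp.exists_card_eq
      exact IsPGroup.of_card (n := k) (hc ▸ hk)
    obtain ⟨M₀, hM₀n, hM₀b, hM₀t⟩ : ∃ M : Subgroup G, M.Normal ∧ M ≠ ⊥ ∧ M ≠ ⊤ := by
      by_contra hc
      push Not at hc
      exact hns ⟨fun N hN => or_iff_not_imp_left.2 fun hb => hc N hN hb⟩
    have hex : ∃ n, ∃ M : Subgroup G, M.Normal ∧ 11 ∣ Nat.card M ∧ M ≠ ⊤ ∧ Nat.card M = n :=
      ⟨_, M₀, hM₀n, by by_contra h11; exact hM₀b (hsmallG M₀ hM₀n h11), hM₀t, rfl⟩
    obtain ⟨M, hMn, hM11, hMt, hMcard⟩ := Nat.find_spec hex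
    have hmin : ∀ M' : Subgroup G, M'.Normal → 11 ∣ Nat.card M' → M' < M → False := by
      intro M' hn' h11' hlt
      have hlt' : Nat.card M' < Nat.find hex := by
        rw [← hMcard]
        refine lt_of_le_of_ne (Subgroup.card_le_of_le hlt.le) fun e => hlt.ne ?_
        exact Subgroup.eq_of_le_of_card_ge hlt.le e.ge
      exact Nat.find_min hex hlt' ⟨M', hn', h11', (hlt.trans_le le_top).ne, rfl⟩
    haveI := hMn
    -- every Sylow 11-subgroup lies in `M`
    obtain ⟨y, hy⟩ := exists_prime_orderOf_dvd_card' 11 hM11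
    have hy' : orderOf (y : G) = 11 := by rw [Subgroup.orderOf_coe, hy]
    obtain ⟨P₀, hP₀⟩ := sylow_of_orderOf hy' (m := 720) (by rw [hG]; norm_num) (by norm_num)
    have hPM : ∀ Q : Sylow 11 G, (Q : Subgroup G) ≤ M := by
      intro Q a ha
      obtain ⟨g, rfl⟩ := MulAction.exists_smul_eq G P₀ Q
      rw [Sylow.coe_subgroup_smul, Subgroup.mem_pointwise_smul_iff_inv_smul_mem, hP₀] at ha
      have h1 : (MulAut.conj g)⁻¹ • a ∈ M := Subgroup.zpowers_le.2 y.2 ha
      have h2 := hMn.conj_mem _ h1 g
      simp only [MulAut.inv_apply, MulAut.conj_symm_apply, MulAut.smul_def] at h2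
      simpa [mul_assoc] using h2
    have h45M : 45 ∣ Nat.card M := by
      have e : Nat.card (Sylow 11 M) = 45 := by
        refine h ▸ Nat.card_congr (Equiv.ofBijective
          (fun T : Sylow 11 G => (T.subtype (hPM T) : Sylow 11 M)) ⟨?_, ?_⟩).symm
        · intro T T' h'
          exact Sylow.subtype_injective h'
        · intro Q
          obtain ⟨T, hT⟩ := (Q.2.map M.subtype).exists_le_sylow
          refine ⟨T, Sylow.ext ?_⟩
          exact (Q.3 (T.subtype (hPM T)).2 (by
            rw [Sylow.coe_subtype]
            exact Subgroup.map_le_iff_le_comap.1 hT))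
      rw [← e]
      let Q : Sylow 11 M := default
      exact Q.card_dvd_index.trans (Q : Subgroup M).index_dvd_card
    have h495 : 495 ∣ Nat.card M :=
      (show 495 = 45 * 11 by norm_num) ▸ Nat.Coprime.mul_dvd_of_dvd_of_dvd (by norm_num) h45M hM11
    have hMcases : Nat.card M = 495 ∨ Nat.card M = 990 ∨ Nat.card M = 1980 ∨ Nat.card M = 3960 := by
      obtain ⟨k, hk⟩ := h495
      have hd : Nat.card M ∣ 7920 := hG ▸ M.card_subgroup_dvd_card
      have hne : Nat.card M ≠ 7920 := fun e => hMt (Subgroup.eq_top_of_card_eq M (by rw [e, hG]))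
      rw [hk] at hd hne ⊢
      have hk16 : k ∣ 16 := (Nat.mul_dvd_mul_iff_left (by norm_num)).1 (show 495 * k ∣ 495 * 16 from hd)
      have hcase : ∀ k ∈ Nat.divisors 16, k = 1 ∨ k = 2 ∨ k = 4 ∨ k = 8 ∨ k = 16 := by decide +kernel
      rcases hcase k (Nat.mem_divisors.2 ⟨hk16, by norm_num⟩) with rfl | rfl | rfl | rfl | rfl <;>
        omega
    by_cases hsim : IsSimpleGroup M
    · rcases hMcases with e | e | e | e
      · exact not_simple_of_excluded 495 11 45 64 (by norm_num) (by norm_num) (by norm_num)
          (by norm_num) (by norm_num) (by decide +kernel) e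
      · refine not_simple_smallest_prime_exp_one (G := M) (p := 2) (m := 495) (by norm_num)
          (not_comm_of_not_prime (by rw [e]; norm_num)) (by rw [e]; norm_num) fun q hq hq' => ?_
        rcases hq.eq_two_or_odd with rfl | hodd'
        · norm_num at hq'
        · have := hq.two_le; omega
      · exact not_simple_of_excluded 1980 11 180 64 (by norm_num) (by norm_num) (by norm_num)
          (by norm_num) (by norm_num) (by decide +kernel) e
      · exact not_simple_of_excluded 3960 11 360 64 (by norm_num) (by norm_num) (by norm_num)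
          (by norm_num) (by norm_num) (by decide +kernel) e
    haveI : Nontrivial M := (Finite.one_lt_card_iff_nontrivial).1 (by omega)
    obtain ⟨J, hJn, hJb, hJt⟩ : ∃ J : Subgroup M, J.Normal ∧ J ≠ ⊥ ∧ J ≠ ⊤ := by
      by_contra hc
      push Not at hc
      exact hsim ⟨fun N hN => or_iff_not_imp_left.2 fun hb => hc N hN hb⟩
    by_cases hJ11 : 11 ∣ Nat.card J
    · -- the derived subgroup of `M` is smaller
      obtain ⟨w, hw⟩ := exists_prime_orderOf_dvd_card' 11 hJ11
      obtain ⟨T, hT⟩ := sylow_of_orderOf (x := w.1) (p := 11) (by rw [Subgroup.orderOf_coe, hw])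
        (m := Nat.card M / 11) (by rw [pow_one, Nat.mul_div_cancel' hM11]) (by
          intro hd
          rcases hMcases with e | e | e | e <;> rw [e] at hd <;> norm_num at hd)
      have hJle : (T : Subgroup M) ≤ J := by rw [hT, Subgroup.zpowers_le]; exact w.2
      haveI := hJn
      have hall : ∀ Q : Sylow 11 M, (Q : Subgroup M) ≤ J := by
        intro Q a ha
        obtain ⟨g, rfl⟩ := MulAction.exists_smul_eq M T Q
        rw [Sylow.coe_subgroup_smul, Subgroup.mem_pointwise_smul_iff_inv_smul_mem] at ha
        have h2 := hJn.conj_mem _ (hJle ha) g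
        simp only [MulAut.inv_apply, MulAut.conj_symm_apply, MulAut.smul_def] at h2
        simpa [mul_assoc] using h2
      have h45J : 45 ∣ Nat.card J := by
        have e : Nat.card (Sylow 11 J) = 45 := by
          have eM : Nat.card (Sylow 11 M) = 45 := by
            refine h ▸ Nat.card_congr (Equiv.ofBijective
              (fun T : Sylow 11 G => (T.subtype (hPM T) : Sylow 11 M)) ⟨?_, ?_⟩).symm
            · intro T T' h'
              exact Sylow.subtype_injective h'
            · intro Q
              obtain ⟨T, hT⟩ := (Q.2.map M.subtype).exists_le_sylow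
              refine ⟨T, Sylow.ext ?_⟩
              exact (Q.3 (T.subtype (hPM T)).2 (by
                rw [Sylow.coe_subtype]
                exact Subgroup.map_le_iff_le_comap.1 hT))
          refine eM ▸ Nat.card_congr (Equiv.ofBijective
            (fun T : Sylow 11 M => (T.subtype (hall T) : Sylow 11 J)) ⟨?_, ?_⟩).symm
          · intro T T' h'
            exact Sylow.subtype_injective h'
          · intro Q
            obtain ⟨T, hT⟩ := (Q.2.map J.subtype).exists_le_sylow
            refine ⟨T, Sylow.ext ?_⟩
            exact (Q.3 (T.subtype (hall T)).2 (by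
              rw [Sylow.coe_subtype]
              exact Subgroup.map_le_iff_le_comap.1 hT))
        rw [← e]
        let Q : Sylow 11 J := default
        exact Q.card_dvd_index.trans (Q : Subgroup J).index_dvd_card
      have h495J : 495 ∣ Nat.card J :=
        (show 495 = 45 * 11 by norm_num) ▸ Nat.Coprime.mul_dvd_of_dvd_of_dvd (by norm_num) h45J hJ11
      -- `M / J` is a 2-group, so `M` is not perfect
      haveI : Fact (Nat.Prime 2) := ⟨by norm_num⟩
      have hidx : ∃ k, J.index = 2 ^ k := by
        have hd : J.index * 495 ∣ 495 * 2 ^ 4 := by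
          refine (Nat.mul_dvd_mul_left _ h495J).trans ?_
          rw [J.index_mul_card]
          have h' := M.card_subgroup_dvd_card
          rw [hG] at h'
          exact h'.trans (dvd_of_eq (by norm_num))
        rw [mul_comm] at hd
        obtain ⟨k, -, hk⟩ := (Nat.dvd_prime_pow (by norm_num : Nat.Prime 2)).1
          ((Nat.mul_dvd_mul_iff_left (by norm_num)).1 hd)
        exact ⟨k, hk⟩
      obtain ⟨k, hk⟩ := hidx
      haveI : Nontrivial (M ⧸ J) := by
        refine (Finite.one_lt_card_iff_nontrivial).1 ?_
        rcases Nat.eq_zero_or_pos J.index with e | e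
        · exact absurd e (Subgroup.index_ne_zero_of_finite)
        · rcases Nat.lt_or_ge 1 J.index with e' | e'
          · exact e'
          · exact absurd (Subgroup.index_eq_one.1 (by omega)) hJt
      have hq : IsPGroup 2 (M ⧸ J) := IsPGroup.of_card (n := k) hk
      haveI : Group.IsNilpotent (M ⧸ J) := hq.isNilpotent
      have hder : commutator M ≠ ⊤ := by
        intro htop
        have h2 : commutator (M ⧸ J) = ⊤ := by
          rw [commutator_def, ← Subgroup.map_top_of_surjective (QuotientGroup.mk' J)
            (QuotientGroup.mk'_surjective J), ← Subgroup.map_commutator, ← commutator_def, htop]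
        haveI : Group.IsSolvable (M ⧸ J) := inferInstance
        exact (Group.IsSolvable.commutator_lt_top_of_nontrivial (M ⧸ J)).ne h2
      set D : Subgroup G := (commutator M).map M.subtype with hD
      have hDlt : D < M := by
        refine lt_of_le_of_ne (Subgroup.map_subtype_le _) fun e => hder ?_
        apply Subgroup.map_injective M.subtype_injective
        rw [← hD, e, ← MonoidHom.range_eq_map, Subgroup.range_subtype]
      haveI : D.Normal := ConjAct.normal_of_characteristic_of_normal
      by_cases hD11 : 11 ∣ Nat.card D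
      · exact hmin D inferInstance hD11 hDlt
      · have hDb := hsmallG D inferInstance hD11
        have habel : ∀ a b : M, a * b = b * a := by
          intro a b
          have hm : ⁅a, b⁆ ∈ commutator M :=
            Subgroup.commutator_mem_commutator (Subgroup.mem_top a) (Subgroup.mem_top b)
          have h1 : (M.subtype ⁅a, b⁆) ∈ D := Subgroup.mem_map_of_mem _ hm
          rw [hDb, Subgroup.mem_bot] at h1
          exact commutatorElement_eq_one_iff_mul_comm.1 (M.subtype_injective (h1.trans (map_one _).symm))
        -- then the Sylow 11-subgroup is unique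
        let Q : Sylow 11 M := default
        have e1 : Nat.card (Sylow 11 M) = 1 := by
          haveI : Subsingleton (Sylow 11 M) := ⟨fun A B => by
            obtain ⟨g, rfl⟩ := MulAction.exists_smul_eq M A B
            refine (Sylow.smul_eq_iff_mem_normalizer.2 ?_).symm
            refine Subgroup.mem_normalizer_iff.2 fun a => ?_
            rw [habel g a, mul_inv_cancel_right]⟩
          exact Nat.card_unique
        have eM : Nat.card (Sylow 11 M) = 45 := by
          refine h ▸ Nat.card_congr (Equiv.ofBijective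
            (fun T : Sylow 11 G => (T.subtype (hPM T) : Sylow 11 M)) ⟨?_, ?_⟩).symm
          · intro T T' h'
            exact Sylow.subtype_injective h'
          · intro Q
            obtain ⟨T, hT⟩ := (Q.2.map M.subtype).exists_le_sylow
            refine ⟨T, Sylow.ext ?_⟩
            exact (Q.3 (T.subtype (hPM T)).2 (by
              rw [Sylow.coe_subtype]
              exact Subgroup.map_le_iff_le_comap.1 hT))
        omega
    · -- a normal 2-subgroup of `M` lies in the 2-core of `G`
      have hJ2 := htwo M J hJn ⟨(y : G), y.2, hy'⟩ hJ11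
      haveI : Fact (Nat.Prime 2) := ⟨by norm_num⟩
      obtain ⟨S, hS⟩ := (hJ2.map M.subtype).exists_le_sylow
      haveI := hJn
      have hcore : J.map M.subtype ≤ (S : Subgroup G).normalCore := by
        intro a ha g
        obtain ⟨j, hj, rfl⟩ := Subgroup.mem_map.1 ha
        -- every Sylow 2-subgroup of `M` contains `J`
        have hT : ∀ T : Sylow 2 M, J ≤ (T : Subgroup M) := by
          intro T
          obtain ⟨T', hT'⟩ := hJ2.exists_le_sylow
          obtain ⟨m, rfl⟩ := MulAction.exists_smul_eq M T' T
          intro b hb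
          rw [Sylow.coe_subgroup_smul, Subgroup.mem_pointwise_smul_iff_inv_smul_mem]
          apply hT'
          simp only [MulAut.inv_apply, MulAut.conj_symm_apply, MulAut.smul_def]
          simpa using hJn.conj_mem b hb m⁻¹
        have hgS : IsPGroup 2 ((((g⁻¹ • S : Sylow 2 G)) : Subgroup G).subgroupOf M) :=
          (g⁻¹ • S).2.comap_of_injective _ M.subtype_injective
        obtain ⟨T', hT'⟩ := (hJ2.map M.subtype).exists_le_sylow
        -- `M ∩ S^g` is a Sylow subgroup of `M`
        have hsyl : ∀ S' : Sylow 2 G, ∃ T : Sylow 2 M, (T : Subgroup M) ≤ (S' : Subgroup G).subgroupOf M := by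
          intro S'
          obtain ⟨T₀⟩ := (inferInstance : Nonempty (Sylow 2 M))
          obtain ⟨S₀, hS₀⟩ := (T₀.2.map M.subtype).exists_le_sylow
          obtain ⟨c, rfl⟩ := MulAction.exists_smul_eq G S₀ S'
          refine ⟨((MulAut.conjNormal c : MulAut M) • T₀ : Sylow 2 M), ?_⟩
          intro b hb
          have hb' : b ∈ ((MulAut.conjNormal c : MulAut M) • (T₀ : Subgroup M)) := hb
          rw [Subgroup.mem_pointwise_smul_iff_inv_smul_mem] at hb'
          rw [Subgroup.mem_subgroupOf, Sylow.coe_subgroup_smul,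
            Subgroup.mem_pointwise_smul_iff_inv_smul_mem]
          have h3 := hS₀ (Subgroup.mem_map_of_mem M.subtype hb')
          simp only [Subgroup.coe_subtype, MulAut.smul_def, MulAut.inv_apply, MulAut.conj_symm_apply,
            MulAut.conjNormal_symm_apply] at h3 ⊢
          exact h3
        obtain ⟨T, hTle⟩ := hsyl (g⁻¹ • S)
        have h4 := hTle (hT T hj)
        rw [Subgroup.mem_subgroupOf, Sylow.coe_subgroup_smul,
          Subgroup.mem_pointwise_smul_iff_inv_smul_mem] at h4
        simp only [MulAut.inv_apply, MulAut.conj_symm_apply, MulAut.smul_def, inv_inv] at h4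
        exact h4
      have hcb := hno2 (S : Subgroup G).normalCore (S.2.to_le (Subgroup.normalCore_le _))
      rw [hcb, le_bot_iff, Subgroup.map_eq_bot_iff_of_injective _ M.subtype_injective] at hcore
      exact hJb hcore
  · refine isSimpleGroup_of_eleven hG h fun y hy => ?_
    have h55 : Nat.card (Subgroup.centralizer ({y} : Set G)) ∣ 55 := by
      have := hCle y hy
      rw [h] at this
      exact (Nat.mul_dvd_mul_iff_left (by norm_num)).1 (show 144 * _ ∣ 144 * 55 from this)
    set C := Subgroup.centralizer ({y} : Set G) with hC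
    have hyC : y ∈ C := Subgroup.mem_centralizer_singleton_iff.2 rfl
    have h11 : 11 ∣ Nat.card C := by have := C.orderOf_dvd_natCard hyC; rwa [hy] at this
    by_contra hne
    have hC55 : Nat.card C = 55 := by
      obtain ⟨k, hk⟩ := h11
      rw [hk] at h55 hne
      have hk5 : k ∣ 5 := (Nat.mul_dvd_mul_iff_left (by norm_num)).1 (show 11 * k ∣ 11 * 5 from h55)
      rcases (Nat.dvd_prime (by norm_num : Nat.Prime 5)).1 hk5 with rfl | rfl
      · exact absurd rfl hne
      · omega
    obtain ⟨P, hP⟩ := sylow_of_orderOf hy (m := 720) (by rw [hG]; norm_num) (by norm_num)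
    have hN := normalizer_card_of_count P h
    rw [hG] at hN
    have hNC : Subgroup.normalizer ((P : Subgroup G) : Set G) ≤
        Subgroup.centralizer ((P : Subgroup G) : Set G) := by
      rw [hP, ← centralizer_singleton_eq_zpowers, ← hC]
      refine le_of_eq (Subgroup.eq_of_le_of_card_ge ?_ ?_).symm
      · rw [hC, centralizer_singleton_eq_zpowers]; exact Subgroup.centralizer_le_normalizer _
      · rw [hC55, ← hP]; omega
    set K := (MonoidHom.transferSylow P hNC).ker with hKdef
    have hcompl : Nat.card K * Nat.card (P : Subgroup G) = Nat.card G :=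
      (MonoidHom.ker_transferSylow_isComplement' P hNC).card_mul_card
    rw [hG, hP, Nat.card_zpowers, hy] at hcompl
    have hK : Nat.card K = 720 := by omega
    haveI : Fact (Nat.Prime 3) := ⟨by norm_num⟩
    letI : MulAction (Subgroup.zpowers y) (Sylow 3 K) :=
      MulAction.compHom _ (((MulAut.conjNormal : G →* MulAut K)).comp (Subgroup.zpowers y).subtype)
    have hpg : IsPGroup 11 (Subgroup.zpowers y) :=
      IsPGroup.of_card (n := 1) (by rw [Nat.card_zpowers, hy, pow_one])
    have hk : ¬ 11 ∣ Nat.card (Sylow 3 K) := by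
      let R : Sylow 3 K := default
      intro hd
      have := hd.trans (R.card_dvd_index.trans (R : Subgroup K).index_dvd_card)
      rw [hK] at this
      norm_num at this
    obtain ⟨R, hR⟩ := hpg.nonempty_fixed_point_of_prime_not_dvd_card (Sylow 3 K) hk
    have hfix : ((MulAut.conjNormal y : MulAut K) • R : Sylow 3 K) = R :=
      hR ⟨y, Subgroup.mem_zpowers y⟩
    have hR9 : Nat.card (R : Subgroup K) = 3 ^ 2 :=
      sylow_card (k := 2) (m := 80) (by rw [hK]; norm_num) (by norm_num) R
    let φ : MulAut (R : Subgroup K) :=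
      { toFun := fun r => ⟨MulAut.conjNormal y (r : K), by
          have := Subgroup.smul_mem_pointwise_smul (r : K) (MulAut.conjNormal y : MulAut K) _ r.2
          rwa [show ((MulAut.conjNormal y : MulAut K) • (R : Subgroup K)) = (R : Subgroup K) from
            congrArg Sylow.toSubgroup hfix] at this⟩
        invFun := fun r => ⟨(MulAut.conjNormal y : MulAut K).symm (r : K), by
          have h' : (r : K) ∈ ((MulAut.conjNormal y : MulAut K) • (R : Subgroup K)) := by
            rw [show ((MulAut.conjNormal y : MulAut K) • (R : Subgroup K)) = (R : Subgroup K) from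
              congrArg Sylow.toSubgroup hfix]
            exact r.2
          rw [Subgroup.mem_pointwise_smul_iff_inv_smul_mem] at h'
          simpa [MulAut.smul_def] using h'⟩
        left_inv := fun r => Subtype.ext (MulEquiv.symm_apply_apply _ _)
        right_inv := fun r => Subtype.ext (MulEquiv.apply_symm_apply _ _)
        map_mul' := fun a b => Subtype.ext (map_mul (MulAut.conjNormal y) (a : K) (b : K)) }
    have hφpow : ∀ (i : ℕ) (r : (R : Subgroup K)), (((φ ^ i) r : (R : Subgroup K)) : K) =
        (MulAut.conjNormal y ^ i : MulAut K) (r : K) := by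
      intro i
      induction i with
      | zero => intro r; rfl
      | succ i ih => intro r; rw [pow_succ', pow_succ', MulAut.mul_apply, MulAut.mul_apply, ← ih]; rfl
    have hφ : φ = 1 := by
      by_contra hne'
      have ho : orderOf φ = 11 := orderOf_eq_prime (MulEquiv.ext fun r => Subtype.ext (by
        rw [hφpow, ← map_pow, (show y ^ 11 = 1 from orderOf_dvd_iff_pow_eq_one.1 (dvd_of_eq hy)), map_one]; rfl)) hne'
      rcases prime_dvd_of_aut_sq (by norm_num : Nat.Prime 3) (by norm_num : Nat.Prime 11)
        (by norm_num) hR9 φ ho with h' | h' <;> norm_num at h'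
    obtain ⟨r, hr⟩ := exists_prime_orderOf_dvd_card' 3 (G := (R : Subgroup K)) (by rw [hR9]; norm_num)
    have hrC : ((r : K) : G) ∈ C := by
      rw [hC, Subgroup.mem_centralizer_singleton_iff]
      have h' := congrArg (fun ψ : MulAut (R : Subgroup K) => (((ψ r : (R : Subgroup K)) : K) : G)) hφ
      have h'' : y * ((r : K) : G) * y⁻¹ = ((r : K) : G) := by
        simpa [φ, MulAut.conjNormal_apply] using h'
      rw [mul_inv_eq_iff_eq_mul] at h''
      exact h''.symm
    have := C.orderOf_dvd_natCard hrC
    rw [Subgroup.orderOf_coe, Subgroup.orderOf_coe, hr, hC55] at this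
    norm_num at this

end Cfsg.Agent.Lib.Characters.Order7920
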