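import Cfsg.Agent.Lib.Characters.Order7920.Three
import Cfsg.Agent.Lib.Characters.Perm

/-!
# The action of a simple group of order 7920 on its 55 Sylow 3-subgroups
-/

namespace Cfsg.Agent.Lib.Characters.Order7920

open scoped ComplexConjugate
open Cfsg Cfsg.Agent.Lib.Characters Cfsg.Agent.Lib.SylowCounting

universe u

variable {G : Type u} [Group G] [Finite G]

theorem sylow_three_card (hG : Nat.card G = 7920) [Fact (Nat.Prime 3)] (P : Sylow 3 G) :
    Nat.card (P : Subgroup G) = 3 ^ 2 :=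
  sylow_card (k := 2) (m := 880) (by rw [hG]; norm_num) (by norm_num) P

theorem sylow_three_comm (hG : Nat.card G = 7920) [Fact (Nat.Prime 3)] (P : Sylow 3 G) {a b : G}
    (ha : a ∈ (P : Subgroup G)) (hb : b ∈ (P : Subgroup G)) : a * b = b * a :=
  congrArg Subtype.val
    ((IsPGroup.commutative_of_card_eq_prime_sq (sylow_three_card hG P)) ⟨a, ha⟩ ⟨b, hb⟩)

theorem sylow_three_unique [IsSimpleGroup G] (hG : Nat.card G = 7920) [Fact (Nat.Prime 3)]
    {P Q : Sylow 3 G} {g : G} (hg : orderOf g = 3) (hgP : g ∈ (P : Subgroup G))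
    (hgQ : g ∈ (Q : Subgroup G)) : Q = P := by
  have hle : ∀ R : Sylow 3 G, g ∈ (R : Subgroup G) →
      (R : Subgroup G) ≤ Subgroup.centralizer ({g} : Set G) := fun R hR a ha =>
    Subgroup.mem_centralizer_singleton_iff.2 (sylow_three_comm hG R ha hR)
  have hidx : ((P : Subgroup G).subgroupOf (Subgroup.centralizer ({g} : Set G))).index = 2 := by
    have h := ((P : Subgroup G).subgroupOf (Subgroup.centralizer ({g} : Set G))).index_mul_card
    rw [Nat.card_congr (Subgroup.subgroupOfEquivOfLe (hle P hgP)).toEquiv, sylow_three_card hG P,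
      (order_three hG hg).1] at h
    omega
  apply Sylow.ext
  refine Subgroup.eq_of_le_of_card_ge ?_ (by rw [sylow_three_card hG P, sylow_three_card hG Q])
  intro a ha
  have h := Subgroup.mul_self_mem_of_index_two hidx ⟨a, hle Q hgQ ha⟩
  rw [Subgroup.mem_subgroupOf] at h
  have h' := (P : Subgroup G).pow_mem h 5
  have h9 : a ^ 9 = 1 := by
    have h := (Q : Subgroup G).orderOf_dvd_natCard ha
    rw [sylow_three_card hG Q] at h
    exact orderOf_dvd_iff_pow_eq_one.1 h
  have : (a * a) ^ 5 = a := by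
    rw [← sq, ← pow_mul, show 2 * 5 = 9 + 1 from rfl, pow_succ, h9, one_mul]
  rwa [show (((⟨a, hle Q hgQ ha⟩ * ⟨a, hle Q hgQ ha⟩ :
    Subgroup.centralizer ({g} : Set G)) : G)) = a * a from rfl, this] at h'

theorem stabilizer_sylow_card [IsSimpleGroup G] (hG : Nat.card G = 7920) (P : Sylow 3 G) :
    Nat.card (MulAction.stabilizer G P) = 144 := by
  haveI : Fact (Nat.Prime 3) := ⟨by norm_num⟩
  rw [Sylow.stabilizer_eq_normalizer]
  have h := normalizer_card_of_count P (card_sylow_three hG)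
  rw [hG] at h
  have h' : Nat.card (Subgroup.normalizer ((P : Subgroup G) : Set G)) = 144 := by omega
  exact h'

/-- An element of order three fixes only the Sylow subgroup containing it. -/
theorem mem_of_fixed_three [IsSimpleGroup G] {g : G} (hg : orderOf g = 3) {P : Sylow 3 G}
    (h : g • P = P) : g ∈ (P : Subgroup G) := by
  haveI : Fact (Nat.Prime 3) := ⟨by norm_num⟩
  have h' : g ∈ Subgroup.normalizer ((P : Subgroup G) : Set G) := by
    have h'' : g ∈ MulAction.stabilizer G P := MulAction.mem_stabilizer_iff.2 h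
    rw [Sylow.stabilizer_eq_normalizer] at h''
    exact h''
  exact mem_sylow_of_orderOf P h' (k := 1) (by rw [hg, pow_one])

theorem fixed_three_unique [IsSimpleGroup G] (hG : Nat.card G = 7920) {g : G} (hg : orderOf g = 3)
    {P Q : Sylow 3 G} (hP : g • P = P) (hQ : g • Q = Q) : Q = P := by
  haveI : Fact (Nat.Prime 3) := ⟨by norm_num⟩
  exact sylow_three_unique hG hg (mem_of_fixed_three hg hP) (mem_of_fixed_three hg hQ)

/-- Decomposition of the permutation character on the Sylow 3-subgroups. -/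
theorem orbits_on_pairs [IsSimpleGroup G] (hG : Nat.card G = 7920) :
    Nat.card (Quotient (MulAction.orbitRel G (Sylow 3 G × Sylow 3 G))) = 3 := by
  classical
  haveI : Fact (Nat.Prime 11) := ⟨by norm_num⟩
  haveI : Fact (Nat.Prime 5) := ⟨by norm_num⟩
  haveI : Fact (Nat.Prime 3) := ⟨by norm_num⟩
  haveI := Fintype.ofFinite G
  haveI := Fintype.ofFinite (IrrCharacter G)
  obtain ⟨x, hx⟩ := exists_prime_orderOf_dvd_card' 11 (G := G) (by rw [hG]; norm_num)
  obtain ⟨y, hy⟩ := exists_prime_orderOf_dvd_card' 5 (G := G) (by rw [hG]; norm_num)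
  obtain ⟨f, hf, f0, hd, -, hfy⟩ := exists_table hG hx hy
  obtain ⟨m, hm, hmi⟩ := IsCharacter.exists_nat_decomp
    (isCharacter_permChar (G := G) (X := Sylow 3 G))
  have hev : ∀ g : G, (Nat.card (MulAction.fixedBy (Sylow 3 G) g) : ℂ) =
      ∑ χ : IrrCharacter G, (m χ : ℂ) * (χ : G → ℂ) g := fun g => by
    have h := congrFun hm g
    simpa [Finset.sum_apply] using h
  have hm0 : m (f 0) = 1 := by
    have h := hmi (trivIrr G)
    rw [show ((trivIrr G : IrrCharacter G) : G → ℂ) = fun _ => 1 from rfl,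
      classInner_permChar_one] at h
    haveI : Subsingleton (Quotient (MulAction.orbitRel G (Sylow 3 G))) :=
      (MulAction.pretransitive_iff_subsingleton_quotient G (Sylow 3 G)).1 inferInstance
    haveI : Nonempty (Quotient (MulAction.orbitRel G (Sylow 3 G))) :=
      ⟨Quotient.mk _ (default : Sylow 3 G)⟩
    rw [Nat.card_unique] at h
    rw [f0]; exact_mod_cast h.symm
  have e1 : 1 + 10 * (m (f 1) + m (f 2) + m (f 3)) + 45 * m (f 4) + 16 * (m (f 5) + m (f 6)) +
      11 * m (f 7) + 44 * m (f 8) + 55 * m (f 9) = 55 := by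
    have h := hev 1
    rw [show MulAction.fixedBy (Sylow 3 G) (1 : G) = Set.univ by ext; simp,
      Nat.card_congr (Equiv.Set.univ _), card_sylow_three hG, sum_table hf] at h
    simp only [deg_eq, hd, hm0] at h
    simp [degs] at h
    have h' : ((55 : ℕ) : ℂ) = ((1 + 10 * (m (f 1) + m (f 2) + m (f 3)) + 45 * m (f 4) +
        16 * (m (f 5) + m (f 6)) + 11 * m (f 7) + 44 * m (f 8) + 55 * m (f 9) : ℕ) : ℂ) := by
      push_cast; linear_combination h
    exact_mod_cast h'.symm
  have ey : 1 + m (f 5) + m (f 6) + m (f 7) = m (f 8) := by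
    have h := hev y
    haveI : IsEmpty (MulAction.fixedBy (Sylow 3 G) y) := ⟨fun ⟨P, hP⟩ => by
      have hy' : y ∈ MulAction.stabilizer G P := MulAction.mem_stabilizer_iff.2 hP
      have := (MulAction.stabilizer G P).orderOf_dvd_natCard hy'
      rw [hy, stabilizer_sylow_card hG P] at this
      norm_num at this⟩
    rw [Nat.card_of_isEmpty, sum_table hf] at h
    simp only [hfy, hm0] at h
    simp [ycol] at h
    have h' : ((1 + m (f 5) + m (f 6) + m (f 7) : ℕ) : ℂ) = ((m (f 8) : ℕ) : ℂ) := by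
      push_cast; linear_combination -h
    exact_mod_cast h'
  have hsq : classInner (fun g : G => (Nat.card (MulAction.fixedBy (Sylow 3 G) g) : ℂ))
      (fun g : G => (Nat.card (MulAction.fixedBy (Sylow 3 G) g) : ℂ)) =
      ((∑ χ : IrrCharacter G, m χ * m χ : ℕ) : ℂ) := by
    rw [hm, classInner_sum_sum]
    push_cast
    simp
  rw [classInner_permChar_self] at hsq
  have hsq' := (Nat.cast_injective hsq : Nat.card (Quotient _) = _)
  rw [hsq', sum_table hf, hm0]
  have h8 : m (f 8) = 1 := by omega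
  have h5 : m (f 5) = 0 := by omega
  have h6 : m (f 6) = 0 := by omega
  have h7 : m (f 7) = 0 := by omega
  have h4 : m (f 4) = 0 := by omega
  have h9 : m (f 9) = 0 := by omega
  have h123 : m (f 1) + m (f 2) + m (f 3) = 1 := by omega
  rw [h4, h5, h6, h7, h8, h9]
  rcases (by omega : m (f 1) = 1 ∧ m (f 2) = 0 ∧ m (f 3) = 0 ∨
    m (f 1) = 0 ∧ m (f 2) = 1 ∧ m (f 3) = 0 ∨ m (f 1) = 0 ∧ m (f 2) = 0 ∧ m (f 3) = 1) with
    ⟨a, b, c⟩ | ⟨a, b, c⟩ | ⟨a, b, c⟩ <;> rw [a, b, c]

theorem suborbit_cases : ∀ s t : ℕ, s ≤ 16 → t ≤ 16 → s ∣ 16 → t ∣ 16 →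
    7920 / s + 7920 / t = 2970 → (s = 8 ∧ t = 4) ∨ (s = 4 ∧ t = 8) := by
  intro s t _ _ hs ht h
  obtain ⟨i, hi, rfl⟩ := (Nat.dvd_prime_pow (p := 2) (m := 4) (by norm_num)).1 hs
  obtain ⟨j, hj, rfl⟩ := (Nat.dvd_prime_pow (p := 2) (m := 4) (by norm_num)).1 ht
  interval_cases i <;> interval_cases j <;> (revert h; decide)

/-- Two Sylow 3-subgroups are adjacent when their pair stabiliser has order eight. -/
def Adj (P Q : Sylow 3 G) : Prop :=
  P ≠ Q ∧ Nat.card (MulAction.stabilizer G (P, Q)) = 8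

theorem Adj.symm {P Q : Sylow 3 G} (h : Adj P Q) : Adj Q P := by
  refine ⟨h.1.symm, ?_⟩
  rw [show MulAction.stabilizer G (Q, P) = MulAction.stabilizer G (P, Q) by
    ext g; simp only [MulAction.mem_stabilizer_iff, Prod.smul_mk, Prod.mk.injEq]; tauto]
  exact h.2

theorem card_stabilizer_smul {X : Type*} [MulAction G X] (g : G) (a : X) :
    Nat.card (MulAction.stabilizer G (g • a)) = Nat.card (MulAction.stabilizer G a) :=
  (Nat.card_congr (MulAction.stabilizerEquivStabilizer (g := g) (rfl : g • a = g • a)).toEquiv).symm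

theorem adj_smul (g : G) {P Q : Sylow 3 G} : Adj (g • P) (g • Q) ↔ Adj P Q := by
  unfold Adj
  rw [← Prod.smul_mk, card_stabilizer_smul, ne_eq, smul_left_cancel_iff]

theorem orbit_card_mul {X : Type*} [MulAction G X] (a : X) :
    Nat.card (MulAction.orbit G a) * Nat.card (MulAction.stabilizer G a) = Nat.card G := by
  rw [Nat.card_coe_set_eq, ← MulAction.index_stabilizer, Subgroup.index_mul_card]

theorem pair_orbits [IsSimpleGroup G] (hG : Nat.card G = 7920) :
    (∀ P Q : Sylow 3 G, P ≠ Q → Nat.card (MulAction.stabilizer G (P, Q)) = 8 ∨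
        Nat.card (MulAction.stabilizer G (P, Q)) = 4) ∧
      (∀ P Q P' Q' : Sylow 3 G, P ≠ Q → P' ≠ Q' →
        Nat.card (MulAction.stabilizer G (P, Q)) = Nat.card (MulAction.stabilizer G (P', Q')) →
        ∃ g : G, g • P = P' ∧ g • Q = Q') ∧
      ∀ P : Sylow 3 G, Nat.card {Q : Sylow 3 G // Adj P Q} = 18 := by
  classical
  haveI : Fact (Nat.Prime 3) := ⟨by norm_num⟩
  haveI := Fintype.ofFinite (Sylow 3 G)
  set X := Sylow 3 G × Sylow 3 G
  haveI := Fintype.ofFinite (Quotient (MulAction.orbitRel G X))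
  have h16 : ∀ P Q : Sylow 3 G, P ≠ Q →
      Nat.card (MulAction.stabilizer G (P, Q)) ∣ 16 := by
    intro P Q hPQ
    have hle : MulAction.stabilizer G (P, Q) ≤ MulAction.stabilizer G P := fun g hg => by
      rw [MulAction.mem_stabilizer_iff] at hg ⊢
      exact congrArg Prod.fst hg
    have h144 := Subgroup.card_dvd_of_le hle
    rw [stabilizer_sylow_card hG P] at h144
    have h3 : ¬ 3 ∣ Nat.card (MulAction.stabilizer G (P, Q)) := fun h => by
      obtain ⟨g, hg⟩ := exists_prime_orderOf_dvd_card' 3 h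
      have hfix := MulAction.mem_stabilizer_iff.1 g.2
      exact hPQ (fixed_three_unique hG (by rw [Subgroup.orderOf_coe, hg])
        (congrArg Prod.fst hfix) (congrArg Prod.snd hfix)).symm
    have hcop : Nat.Coprime (Nat.card (MulAction.stabilizer G (P, Q))) 9 := by
      rw [show 9 = 3 ^ 2 from rfl]
      exact Nat.Coprime.pow_right 2 ((Nat.Prime.coprime_iff_not_dvd (by norm_num)).2 h3).symm
    exact hcop.dvd_of_dvd_mul_right (show _ ∣ 16 * 9 from h144)
  let P₀ : Sylow 3 G := default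
  let q₀ : Quotient (MulAction.orbitRel G X) := Quotient.mk _ (P₀, P₀)
  have hdiag : ∀ p : X, (Quotient.mk _ p : Quotient (MulAction.orbitRel G X)) = q₀ ↔ p.1 = p.2 := by
    intro p
    rw [Quotient.eq, MulAction.orbitRel_apply]
    constructor
    · rintro ⟨g, hg⟩
      rw [← hg]
      rfl
    · intro h
      obtain ⟨g, hg⟩ := MulAction.exists_smul_eq G P₀ p.1
      refine ⟨g, ?_⟩
      show (g • P₀, g • P₀) = p
      rw [hg]; exact Prod.ext rfl h
  have hfib : ∀ p : X, Nat.card {r : X // (Quotient.mk _ r : Quotient (MulAction.orbitRel G X)) =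
      Quotient.mk _ p} = Nat.card (MulAction.orbit G p) := fun p =>
    Nat.card_congr (Equiv.subtypeEquivRight fun r => by
      rw [Quotient.eq, MulAction.orbitRel_apply])
  have hcard3 := orbits_on_pairs hG
  rw [Nat.card_eq_fintype_card, ← Finset.card_univ] at hcard3
  obtain ⟨q₁, q₂, h12, hq⟩ : ∃ q₁ q₂, q₁ ≠ q₂ ∧ Finset.univ.erase q₀ = {q₁, q₂} :=
    Finset.card_eq_two.1 (by rw [Finset.card_erase_of_mem (Finset.mem_univ _), hcard3])
  have hoff : ∀ p : X, p.1 ≠ p.2 → (Quotient.mk _ p : Quotient (MulAction.orbitRel G X)) = q₁ ∨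
      (Quotient.mk _ p : Quotient (MulAction.orbitRel G X)) = q₂ := fun p hp => by
    have : (Quotient.mk _ p : Quotient (MulAction.orbitRel G X)) ∈ Finset.univ.erase q₀ :=
      Finset.mem_erase.2 ⟨fun h => hp ((hdiag p).1 h), Finset.mem_univ _⟩
    rw [hq] at this
    simpa using this
  obtain ⟨p₁, rfl⟩ := Quotient.exists_rep q₁
  obtain ⟨p₂, rfl⟩ := Quotient.exists_rep q₂
  have hne : ∀ p : X, (Quotient.mk _ p : Quotient (MulAction.orbitRel G X)) ∈
      Finset.univ.erase q₀ → p.1 ≠ p.2 := fun p hp h =>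
    (Finset.mem_erase.1 hp).1 ((hdiag p).2 h)
  have hp₁ : p₁.1 ≠ p₁.2 := hne p₁ (by rw [hq]; simp)
  have hp₂ : p₂.1 ≠ p₂.2 := hne p₂ (by rw [hq]; simp)
  set s := Nat.card (MulAction.stabilizer G p₁) with hs
  set t := Nat.card (MulAction.stabilizer G p₂) with ht
  have hs16 : s ∣ 16 := h16 p₁.1 p₁.2 hp₁
  have ht16 : t ∣ 16 := h16 p₂.1 p₂.2 hp₂
  have hsum : 7920 / s + 7920 / t = 2970 := by
    have h := Nat.card_congr (Equiv.sigmaFiberEquiv
      (fun r : X => (Quotient.mk _ r : Quotient (MulAction.orbitRel G X))))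
    rw [Nat.card_sigma, ← Finset.add_sum_erase _ _ (Finset.mem_univ q₀), hq,
      Finset.sum_pair h12, hfib, hfib, hfib, Nat.card_prod, card_sylow_three hG] at h
    have h0 : Nat.card (MulAction.orbit G (P₀, P₀)) = 55 := by
      rw [← hfib, Nat.card_congr (Equiv.subtypeEquivRight fun r => hdiag r)]
      rw [← card_sylow_three hG]
      exact Nat.card_congr
        { toFun := fun r => r.1.1
          invFun := fun P => ⟨(P, P), rfl⟩
          left_inv := fun r => Subtype.ext (Prod.ext rfl r.2)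
          right_inv := fun P => rfl }
    rw [h0] at h
    have e1 : Nat.card (MulAction.orbit G p₁) = 7920 / s := by
      rw [← hG, ← orbit_card_mul (G := G) p₁, ← hs, Nat.mul_div_cancel]; exact Nat.card_pos
    have e2 : Nat.card (MulAction.orbit G p₂) = 7920 / t := by
      rw [← hG, ← orbit_card_mul (G := G) p₂, ← ht, Nat.mul_div_cancel]; exact Nat.card_pos
    rw [e1, e2] at h
    omega
  have hst := suborbit_cases s t (Nat.le_of_dvd (by norm_num) hs16)
    (Nat.le_of_dvd (by norm_num) ht16) hs16 ht16 hsum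
  have hstab : ∀ p q : X, (Quotient.mk _ p : Quotient (MulAction.orbitRel G X)) = Quotient.mk _ q →
      Nat.card (MulAction.stabilizer G p) = Nat.card (MulAction.stabilizer G q) := fun p q h => by
    rw [Quotient.eq, MulAction.orbitRel_apply] at h
    obtain ⟨g, rfl⟩ := h
    exact card_stabilizer_smul g q
  have hconj : ∀ P Q P' Q' : Sylow 3 G, P ≠ Q → P' ≠ Q' →
      Nat.card (MulAction.stabilizer G (P, Q)) = Nat.card (MulAction.stabilizer G (P', Q')) →
      ∃ g : G, g • P = P' ∧ g • Q = Q' := by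
    intro P Q P' Q' h h' he
    have hmk : (Quotient.mk _ (P', Q') : Quotient (MulAction.orbitRel G X)) = Quotient.mk _ (P, Q) := by
      rcases hoff (P, Q) h with a | a <;> rcases hoff (P', Q') h' with b | b
      · rw [a, b]
      · exfalso; rw [hstab _ _ a, hstab _ _ b, ← hs, ← ht] at he; omega
      · exfalso; rw [hstab _ _ a, hstab _ _ b, ← hs, ← ht] at he; omega
      · rw [a, b]
    rw [Quotient.eq, MulAction.orbitRel_apply] at hmk
    obtain ⟨g, hg⟩ := hmk
    exact ⟨g, congrArg Prod.fst hg, congrArg Prod.snd hg⟩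
  refine ⟨fun P Q h => ?_, hconj, fun P => ?_⟩
  · rcases hoff (P, Q) h with a | a <;> rw [hstab _ _ a] <;> omega
  · obtain ⟨p, hp, hp8⟩ : ∃ p : X, p.1 ≠ p.2 ∧ Nat.card (MulAction.stabilizer G p) = 8 := by
      rcases hst with h | h
      · exact ⟨p₁, hp₁, h.1⟩
      · exact ⟨p₂, hp₂, h.2⟩
    have hA : Nat.card {r : X // Adj r.1 r.2} = 990 := by
      rw [show (990 : ℕ) = Nat.card (MulAction.orbit G p) by
        have := orbit_card_mul (G := G) p; rw [hp8, hG] at this; omega]
      refine Nat.card_congr (Equiv.subtypeEquivRight fun r => ⟨fun hr => ?_, ?_⟩)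
      · obtain ⟨g, h1, h2⟩ := hconj p.1 p.2 r.1 r.2 hp hr.1 (hp8.trans hr.2.symm)
        exact ⟨g, Prod.ext h1 h2⟩
      · rintro ⟨g, rfl⟩
        exact (adj_smul g).2 ⟨hp, hp8⟩
    have e : {r : X // Adj r.1 r.2} ≃ Sylow 3 G × {Q : Sylow 3 G // Adj P Q} := by
      choose g hg using fun R : Sylow 3 G => MulAction.exists_smul_eq G P R
      exact
        { toFun := fun r => (r.1.1, ⟨(g r.1.1)⁻¹ • r.1.2, by
            rw [← adj_smul (g r.1.1), hg, smul_inv_smul]; exact r.2⟩)
          invFun := fun w => ⟨(w.1, g w.1 • (w.2 : Sylow 3 G)), by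
            rw [← adj_smul (g w.1)⁻¹, inv_smul_smul]
            rw [show (g w.1)⁻¹ • w.1 = P by rw [inv_smul_eq_iff, hg]]
            exact w.2.2⟩
          left_inv := fun r => Subtype.ext (Prod.ext rfl (smul_inv_smul _ _))
          right_inv := fun w => Prod.ext rfl (Subtype.ext (inv_smul_smul _ _)) }
    have h := Nat.card_congr e
    rw [hA, Nat.card_prod, card_sylow_three hG] at h
    omega

end Cfsg.Agent.Lib.Characters.Order7920
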