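import Cfsg.Agent.Lib.Characters.Order7920.Design
import Cfsg.Agent.Lib.Compute.SporEquiv
import Mathlib.GroupTheory.Transfer

/-!
# Recognition of the smallest Mathieu group among groups of order 7920
-/

namespace Cfsg.Agent.Lib.Characters.Order7920

open Cfsg Cfsg.Agent.Lib.SylowCounting
open scoped Pointwise

universe u

variable {G : Type u} [Group G] [Finite G]

theorem spor_M11_facts : Finite Spor.M11 ∧ IsSimpleGroup Spor.M11 ∧ Nat.card Spor.M11 = 7920 := by
  obtain ⟨e⟩ := Cfsg.Agent.Lib.Compute.spor_M11_equiv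
  haveI := Cfsg.Agent.Lib.Compute.isSimpleGroup_cert11
  have h : Nat.card Spor.M11 = 7920 := by
    rw [← Nat.card_congr e.toEquiv, Cfsg.Agent.Lib.Compute.card_cert11]
  exact ⟨Nat.finite_of_card_ne_zero (by rw [h]; norm_num), e.symm.isSimpleGroup, h⟩

theorem prime_power_check {q : ℕ} (hq : q ∣ 720) (h : q % 11 = 1) (h1 : q ≠ 1) :
    ∃ p₁ ∈ [2, 3, 5], ∃ p₂ ∈ [2, 3, 5], p₁ ≠ p₂ ∧ p₁ ∣ q ∧ p₂ ∣ q := by
  have hc : ∀ q ∈ Nat.divisors 720, q % 11 = 1 → q = 1 ∨ q = 12 ∨ q = 45 ∨ q = 144 := by
    decide +kernel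
  rcases hc q (Nat.mem_divisors.2 ⟨hq, by norm_num⟩) h with rfl | rfl | rfl | rfl
  · exact absurd rfl h1
  · exact ⟨2, by simp, 3, by simp, by norm_num⟩
  · exact ⟨3, by simp, 5, by simp, by norm_num⟩
  · exact ⟨2, by simp, 3, by simp, by norm_num⟩

/-- A `p`-subgroup normalised by an element `x` of order eleven with `C(x) = ⟨x⟩` is trivial,
for groups of order 7920. -/
theorem no_invariant_pgroup (hG : Nat.card G = 7920) {x : G} (hx : orderOf x = 11)
    (hC : Nat.card (Subgroup.centralizer ({x} : Set G)) = 11) (R : Subgroup G) {p : ℕ}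
    [Fact p.Prime] (hR : IsPGroup p R) (h11 : ¬ 11 ∣ Nat.card R)
    (hnorm : ∀ r ∈ R, x * r * x⁻¹ ∈ R) : Nat.card R = 1 := by
  haveI : Fact (Nat.Prime 11) := ⟨by norm_num⟩
  by_contra hne
  have hpow : ∀ (i : ℕ) (r : G), r ∈ R → x ^ i * r * (x ^ i)⁻¹ ∈ R := by
    intro i
    induction i with
    | zero => intro r hr; simpa using hr
    | succ i ih =>
      intro r hr
      have := hnorm _ (ih r hr)
      rwa [show x * (x ^ i * r * (x ^ i)⁻¹) * x⁻¹ = x ^ (i + 1) * r * (x ^ (i + 1))⁻¹ by
        rw [pow_succ']; group] at this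
  have hz : ∀ k : Subgroup.zpowers x, ∀ r : R, (k : G) * (r : G) * (k : G)⁻¹ ∈ R := fun k r => by
    obtain ⟨i, hi⟩ := (Submonoid.mem_powers_iff (k : G) x).1 (mem_powers_iff_mem_zpowers.2 k.2)
    rw [← hi]; exact hpow i r r.2
  letI : MulAction (Subgroup.zpowers x) R :=
    { smul := fun k r => ⟨(k : G) * r * (k : G)⁻¹, hz k r⟩
      one_smul := fun r => Subtype.ext (show (1 : G) * r * (1 : G)⁻¹ = r by simp)
      mul_smul := fun a b r => Subtype.ext (show ((a : G) * b) * r * ((a : G) * b)⁻¹ =
        (a : G) * ((b : G) * r * (b : G)⁻¹) * (a : G)⁻¹ by group) }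
  have hpg : IsPGroup 11 (Subgroup.zpowers x) :=
    IsPGroup.of_card (n := 1) (by rw [Nat.card_zpowers, hx, pow_one])
  have hmod := hpg.card_modEq_card_fixedPoints R
  have hCx : Subgroup.centralizer ({x} : Set G) = Subgroup.zpowers x := by
    refine (Subgroup.eq_of_le_of_card_ge ?_ ?_).symm
    · rw [Subgroup.zpowers_le]; exact Subgroup.mem_centralizer_singleton_iff.2 rfl
    · rw [hC, Nat.card_zpowers, hx]
  have hfix : ∀ r : R, r ∈ MulAction.fixedPoints (Subgroup.zpowers x) R → r = 1 := fun r hr => by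
    have h' : x * (r : G) * x⁻¹ = r := congrArg Subtype.val (hr ⟨x, Subgroup.mem_zpowers x⟩)
    rw [mul_inv_eq_iff_eq_mul] at h'
    have hrC : (r : G) ∈ Subgroup.centralizer ({x} : Set G) :=
      Subgroup.mem_centralizer_singleton_iff.2 h'.symm
    rw [hCx] at hrC
    have hdvd := orderOf_dvd_of_mem_zpowers hrC
    rw [hx] at hdvd
    rcases (Nat.dvd_prime (by norm_num : Nat.Prime 11)).1 hdvd with e | e
    · exact Subtype.ext (orderOf_eq_one_iff.1 e)
    · exfalso
      have h := R.orderOf_dvd_natCard r.2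
      rw [e] at h
      exact h11 h
  haveI : Subsingleton (MulAction.fixedPoints (Subgroup.zpowers x) R) :=
    ⟨fun a b => Subtype.ext ((hfix _ a.2).trans (hfix _ b.2).symm)⟩
  haveI : Nonempty (MulAction.fixedPoints (Subgroup.zpowers x) R) :=
    ⟨⟨1, fun k => Subtype.ext (show (k : G) * (1 : G) * (k : G)⁻¹ = 1 by simp)⟩⟩
  rw [Nat.card_unique (α := MulAction.fixedPoints (Subgroup.zpowers x) R)] at hmod
  have hdvd : Nat.card R ∣ 720 := by
    have h := R.card_subgroup_dvd_card
    rw [hG] at h
    exact ((Nat.Prime.coprime_iff_not_dvd (by norm_num)).2 h11).symm.dvd_of_dvd_mul_right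
      (show Nat.card R ∣ 720 * 11 from h)
  obtain ⟨n, hn⟩ := hR.exists_card_eq
  obtain ⟨a, ha, b, hb, hab, hda, hdb⟩ := prime_power_check hdvd hmod hne
  have hprime : ∀ q ∈ [2, 3, 5], q ∣ p ^ n → q = p := fun q hq h => by
    have hq' : q.Prime := by fin_cases hq <;> norm_num
    exact (Nat.prime_dvd_prime_iff_eq hq' Fact.out).1 (hq'.dvd_of_dvd_pow h)
  rw [hn] at hda hdb
  exact hab ((hprime a ha hda).trans (hprime b hb hdb).symm)

/-- A group of order 7920 with 144 Sylow 11-subgroups, each self-centralising, is simple. -/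
theorem isSimpleGroup_of_eleven (hG : Nat.card G = 7920) (h144 : Nat.card (Sylow 11 G) = 144)
    (hC : ∀ x : G, orderOf x = 11 → Nat.card (Subgroup.centralizer ({x} : Set G)) = 11) :
    IsSimpleGroup G := by
  haveI : Fact (Nat.Prime 11) := ⟨by norm_num⟩
  obtain ⟨x, hx⟩ := exists_prime_orderOf_dvd_card' 11 (G := G) (by rw [hG]; norm_num)
  -- normal subgroups of order prime to eleven
  have hsmall : ∀ N : Subgroup G, N.Normal → ¬ 11 ∣ Nat.card N → N = ⊥ := by
    intro N hN h11
    by_contra hne
    have h1 : Nat.card N ≠ 1 := fun h => hne (Subgroup.eq_bot_of_card_eq N h)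
    set p := (Nat.card N).minFac
    haveI : Fact p.Prime := ⟨Nat.minFac_prime h1⟩
    haveI := hN
    -- a Sylow subgroup of `N` fixed by `x`
    letI : MulAction (Subgroup.zpowers x) (Sylow p N) :=
      MulAction.compHom _ (((MulAut.conjNormal : G →* MulAut N)).comp (Subgroup.zpowers x).subtype)
    have hpg : IsPGroup 11 (Subgroup.zpowers x) :=
      IsPGroup.of_card (n := 1) (by rw [Nat.card_zpowers, hx, pow_one])
    have hk : ¬ 11 ∣ Nat.card (Sylow p N) := by
      let P : Sylow p N := default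
      intro h
      exact h11 (h.trans (P.card_dvd_index.trans (P : Subgroup N).index_dvd_card))
    obtain ⟨P, hP⟩ := hpg.nonempty_fixed_point_of_prime_not_dvd_card (Sylow p N) hk
    have hfix := hP ⟨x, Subgroup.mem_zpowers x⟩
    have hR : IsPGroup p ((P : Subgroup N).map N.subtype) := P.2.map _
    have hone := no_invariant_pgroup hG hx (hC x hx) _ hR (fun h => h11 (h.trans
        (Subgroup.card_dvd_of_le (Subgroup.map_subtype_le _)))) (fun r hr => by
      obtain ⟨s, hs, rfl⟩ := Subgroup.mem_map.1 hr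
      refine Subgroup.mem_map.2 ⟨MulAut.conjNormal x s, ?_, by simp [MulAut.conjNormal_apply]⟩
      have : MulAut.conjNormal x s ∈ ((MulAut.conjNormal x : MulAut N) • P : Sylow p N) := by
        show _ ∈ ((MulAut.conjNormal x : MulAut N) • (P : Subgroup N))
        exact Subgroup.smul_mem_pointwise_smul _ _ _ hs
      rwa [show ((MulAut.conjNormal x : MulAut N) • P : Sylow p N) = P from hfix] at this)
    rw [Subgroup.card_map_of_injective N.subtype_injective] at hone
    have h1' := Sylow.dvd_card_of_dvd_card P (Nat.minFac_dvd (Nat.card N))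
    rw [hone] at h1'
    exact (Fact.out : p.Prime).ne_one (Nat.dvd_one.1 h1')
  haveI : Nontrivial G := (Finite.one_lt_card_iff_nontrivial).1 (by rw [hG]; norm_num)
  refine ⟨fun N hN => ?_⟩
  by_cases h11 : 11 ∣ Nat.card N
  swap
  · exact Or.inl (hsmall N hN h11)
  right
  haveI := hN
  obtain ⟨y, hy⟩ := exists_prime_orderOf_dvd_card' 11 h11
  have hy' : orderOf (y : G) = 11 := by rw [Subgroup.orderOf_coe, hy]
  obtain ⟨P, hP⟩ := sylow_of_orderOf hy' (m := 720) (by rw [hG]; norm_num) (by norm_num)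
  have hPN : ∀ Q : Sylow 11 G, (Q : Subgroup G) ≤ N := by
    intro Q a ha
    obtain ⟨g, rfl⟩ := MulAction.exists_smul_eq G P Q
    rw [Sylow.coe_subgroup_smul, Subgroup.mem_pointwise_smul_iff_inv_smul_mem, hP] at ha
    have h1 : (MulAut.conj g)⁻¹ • a ∈ N := Subgroup.zpowers_le.2 y.2 ha
    have h2 := hN.conj_mem _ h1 g
    simp only [MulAut.inv_apply, MulAut.conj_symm_apply, MulAut.smul_def] at h2
    simpa [mul_assoc] using h2
  have hN144 : Nat.card (Sylow 11 N) = 144 := by
    rw [← h144]
    refine Nat.card_congr (Equiv.ofBijective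
      (fun Q : Sylow 11 N => (Classical.choose ((Q.2.map N.subtype).exists_le_sylow) : Sylow 11 G))
      ⟨?_, ?_⟩)
    · intro Q Q' h
      have s1 := Classical.choose_spec ((Q.2.map N.subtype).exists_le_sylow)
      have s2 := Classical.choose_spec ((Q'.2.map N.subtype).exists_le_sylow)
      simp only at h
      apply Sylow.ext
      set T := Classical.choose ((Q.2.map N.subtype).exists_le_sylow) with hT
      rw [← h] at s2
      have hmax : ∀ R : Sylow 11 N, (R : Subgroup N).map N.subtype ≤ (T : Subgroup G) →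
          (T : Subgroup G).subgroupOf N = (R : Subgroup N) := fun R hR => R.3
        (T.2.comap_of_injective N.subtype N.subtype_injective)
        (Subgroup.map_le_iff_le_comap.1 hR)
      rw [← hmax Q s1, ← hmax Q' s2]
    · intro T
      refine ⟨T.subtype (hPN T), ?_⟩
      have s1 := Classical.choose_spec (((T.subtype (hPN T)).2.map N.subtype).exists_le_sylow)
      apply Sylow.ext
      refine (Subgroup.eq_of_le_of_card_ge ?_ ?_).symm
      · refine le_trans ?_ s1
        rw [Sylow.coe_subtype, Subgroup.map_subgroupOf_eq_of_le (hPN T)]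
      · rw [sylow_card (k := 1) (m := 720) (by rw [hG]; norm_num) (by norm_num) T,
          sylow_card (k := 1) (m := 720) (by rw [hG]; norm_num) (by norm_num)]
  let PN : Sylow 11 N := P.subtype (hPN P)
  have hPN11 : Nat.card (PN : Subgroup N) = 11 := by
    rw [Sylow.coe_subtype, Nat.card_congr (Subgroup.subgroupOfEquivOfLe (hPN P)).toEquiv, hP,
      Nat.card_zpowers, hy']
  have hNorm := normalizer_card_of_count PN hN144
  set S := Subgroup.normalizer ((PN : Subgroup N) : Set N) with hS
  have hS55 : Nat.card S ∣ 55 := by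
    have hG55 := normalizer_card_of_count P h144
    rw [hG] at hG55
    have hle : S.map N.subtype ≤ Subgroup.normalizer ((P : Subgroup G) : Set G) := by
      rintro _ ⟨s, hs, rfl⟩
      rw [Subgroup.mem_normalizer_iff]
      intro a
      have h := Subgroup.mem_normalizer_iff.1 hs
      constructor
      · intro ha
        have h' := (h ⟨a, hPN P ha⟩).1 (by rw [Sylow.coe_subtype, Subgroup.mem_subgroupOf]; exact ha)
        rw [Sylow.coe_subtype, Subgroup.mem_subgroupOf] at h'
        exact h'
      · intro ha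
        have hm : a ∈ N := by
          have := hN.conj_mem _ (hPN P ha) (s : G)⁻¹
          simpa [mul_assoc] using this
        have h' := (h ⟨a, hm⟩).2 (by rw [Sylow.coe_subtype, Subgroup.mem_subgroupOf]; exact ha)
        rwa [Sylow.coe_subtype, Subgroup.mem_subgroupOf] at h'
    have := Subgroup.card_dvd_of_le hle
    rw [Subgroup.card_map_of_injective N.subtype_injective,
      show Nat.card (Subgroup.normalizer ((P : Subgroup G) : Set G)) = 55 by omega] at this
    exact this
  have hS11 : 11 ∣ Nat.card S := hPN11 ▸ Subgroup.card_dvd_of_le Subgroup.le_normalizer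
  rcases (show Nat.card S = 11 ∨ Nat.card S = 55 by
    obtain ⟨k, hk⟩ := hS11
    rw [hk] at hS55
    have : k ∣ 5 := (Nat.mul_dvd_mul_iff_left (by norm_num)).1 (show 11 * k ∣ 11 * 5 from hS55)
    rcases (Nat.dvd_prime (by norm_num : Nat.Prime 5)).1 this with rfl | rfl
    · exact Or.inl (by omega)
    · exact Or.inr (by omega)) with hs | hs
  · exfalso
    rw [hs] at hNorm
    have hSP : S = (PN : Subgroup N) := (Subgroup.eq_of_le_of_card_ge Subgroup.le_normalizer
      (by rw [← hS, hs, hPN11])).symm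
    have hle : Subgroup.normalizer ((PN : Subgroup N) : Set N) ≤
        Subgroup.centralizer ((PN : Subgroup N) : Set N) := by
      rw [← hS, hSP]
      intro a ha
      rw [Subgroup.mem_centralizer_iff]
      intro b hb
      haveI : IsCyclic (PN : Subgroup N) := isCyclic_of_prime_card hPN11
      exact congrArg Subtype.val ((IsCyclic.commGroup (α := (PN : Subgroup N))).mul_comm ⟨b, hb⟩ ⟨a, ha⟩)
    set K := (MonoidHom.transferSylow PN hle).ker with hKdef
    have hcompl : Nat.card K * Nat.card (PN : Subgroup N) = Nat.card N :=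
      (MonoidHom.ker_transferSylow_isComplement' PN hle).card_mul_card
    rw [hPN11] at hcompl
    have hK : Nat.card K = 144 := by omega
    haveI hKn : (K.map N.subtype).Normal := ⟨fun a ha g => by
      obtain ⟨k, hk, rfl⟩ := Subgroup.mem_map.1 ha
      refine Subgroup.mem_map.2 ⟨⟨g * k * g⁻¹, hN.conj_mem _ k.2 g⟩, ?_, rfl⟩
      rw [hKdef, MonoidHom.mem_ker, ← orderOf_eq_one_iff]
      set φ := MonoidHom.transferSylow PN hle
      have h1 : orderOf (φ ⟨g * k * g⁻¹, hN.conj_mem _ k.2 g⟩) ∣ 144 := by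
        refine (orderOf_map_dvd φ _).trans ?_
        rw [← Subgroup.orderOf_coe]
        show orderOf (g * (k : G) * g⁻¹) ∣ 144
        rw [show g * (k : G) * g⁻¹ = MulAut.conj g (k : G) from (MulAut.conj_apply g _).symm,
          MulEquiv.orderOf_eq, Subgroup.orderOf_coe, ← hK]
        exact K.orderOf_dvd_natCard hk
      have h2 : orderOf (φ ⟨g * k * g⁻¹, hN.conj_mem _ k.2 g⟩) ∣ 11 :=
        dvd_trans (orderOf_dvd_natCard _) (dvd_of_eq hPN11)
      exact Nat.dvd_one.1 ((Nat.dvd_gcd h1 h2).trans (dvd_of_eq (by norm_num)))⟩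
    have := hsmall _ hKn (by rw [Subgroup.card_map_of_injective N.subtype_injective, hK]; norm_num)
    have h' := congrArg (fun H : Subgroup G => Nat.card H) this
    simp only [Subgroup.card_map_of_injective N.subtype_injective, hK, Subgroup.card_bot] at h'
    norm_num at h'
  · rw [hs] at hNorm
    exact Subgroup.eq_top_of_card_eq N (by omega)

theorem order_eleven_facts [IsSimpleGroup G] (hG : Nat.card G = 7920) :
    Nat.card {g : G // Nat.card (Subgroup.centralizer ({g} : Set G)) = 11} = 1440 ∧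
      Nat.card {g : G // orderOf g = 11} = 1440 := by
  haveI : Fact (Nat.Prime 11) := ⟨by norm_num⟩
  have h : ∀ g : G, Nat.card (Subgroup.centralizer ({g} : Set G)) = 11 ↔ orderOf g = 11 := by
    intro g
    refine ⟨fun hg => ?_, fun hg => (eleven_data hG hg).2⟩
    have hd : orderOf g ∣ 11 := hg ▸ (Subgroup.centralizer ({g} : Set G)).orderOf_dvd_natCard
      (Subgroup.mem_centralizer_singleton_iff.2 rfl)
    rcases (Nat.dvd_prime (by norm_num : Nat.Prime 11)).1 hd with e | e
    · exfalso
      rw [orderOf_eq_one_iff.1 e, Subgroup.centralizer_eq_top_iff_subset.2 (by simp),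
        Subgroup.card_top, hG] at hg
      norm_num at hg
    · exact e
  have h2 : Nat.card {g : G // orderOf g = 11} = 1440 := by
    rw [card_orderOf_eq_prime (fun P => (sylow_card (k := 1) (m := 720) (by rw [hG]; norm_num)
      (by norm_num) P).trans (pow_one 11)), sylow_eleven_count hG]
  exact ⟨(Nat.card_congr (Equiv.subtypeEquivRight h)).trans h2, h2⟩

/-- Recognition by the commuting relation. -/
theorem mulEquiv_of_commuting (M : Type*) [Group M] [Finite M] [IsSimpleGroup M]
    (hM : Nat.card M = 7920) (f : {g : G // g ≠ 1} ≃ {m : M // m ≠ 1})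
    (hf : ∀ a b : {g : G // g ≠ 1},
      (a : G) * b = b * a ↔ ((f a) : M) * (f b) = (f b) * (f a)) :
    Nonempty (G ≃* M) := by
  classical
  haveI : Fact (Nat.Prime 11) := ⟨by norm_num⟩
  let F : Option {g : G // g ≠ 1} ≃ Option {m : M // m ≠ 1} := Equiv.optionCongr f
  let φ : G ≃ M := ((Equiv.optionSubtypeNe 1).symm.trans F).trans (Equiv.optionSubtypeNe 1)
  have hφ1 : φ 1 = 1 := by simp [φ, F]
  have hφ : ∀ a : {g : G // g ≠ 1}, φ a = f a := fun a => by simp [φ, F, a.2]
  have hG : Nat.card G = 7920 := (Nat.card_congr φ).trans hM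
  have hcomm : ∀ a b : G, a * b = b * a ↔ φ a * φ b = φ b * φ a := by
    intro a b
    by_cases ha : a = 1
    · subst ha; simp [hφ1]
    by_cases hb : b = 1
    · subst hb; simp [hφ1]
    rw [show φ a = f ⟨a, ha⟩ from hφ ⟨a, ha⟩, show φ b = f ⟨b, hb⟩ from hφ ⟨b, hb⟩]
    exact hf ⟨a, ha⟩ ⟨b, hb⟩
  have hcard : ∀ a : G, Nat.card (Subgroup.centralizer ({a} : Set G)) =
      Nat.card (Subgroup.centralizer ({φ a} : Set M)) := fun a =>
    Nat.card_congr (φ.subtypeEquiv fun b => by
      rw [Subgroup.mem_centralizer_singleton_iff, Subgroup.mem_centralizer_singleton_iff]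
      exact hcomm b a)
  have h1440 : Nat.card {g : G // Nat.card (Subgroup.centralizer ({g} : Set G)) = 11} = 1440 := by
    rw [Nat.card_congr (φ.subtypeEquiv (q := fun m => Nat.card (Subgroup.centralizer ({m} : Set M)) = 11)
      fun a => by rw [hcard a])]
    exact (order_eleven_facts hM).1
  obtain ⟨y, hy⟩ : ∃ y : G, Nat.card (Subgroup.centralizer ({y} : Set G)) = 11 := by
    by_contra h
    haveI : IsEmpty {g : G // Nat.card (Subgroup.centralizer ({g} : Set G)) = 11} :=
      ⟨fun g => h ⟨g, g.2⟩⟩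
    rw [Nat.card_of_isEmpty] at h1440
    omega
  have hord : ∀ g : G, Nat.card (Subgroup.centralizer ({g} : Set G)) = 11 → orderOf g = 11 := by
    intro g hg
    have hd : orderOf g ∣ 11 := hg ▸ (Subgroup.centralizer ({g} : Set G)).orderOf_dvd_natCard
      (Subgroup.mem_centralizer_singleton_iff.2 rfl)
    rcases (Nat.dvd_prime (by norm_num : Nat.Prime 11)).1 hd with e | e
    · exfalso
      rw [orderOf_eq_one_iff.1 e, Subgroup.centralizer_eq_top_iff_subset.2 (by simp),
        Subgroup.card_top, hG] at hg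
      norm_num at hg
    · exact e
  -- every element of order eleven is conjugate to a power of `y`
  have hC : ∀ x : G, orderOf x = 11 → Nat.card (Subgroup.centralizer ({x} : Set G)) = 11 := by
    intro x hx
    obtain ⟨P, hP⟩ := sylow_of_orderOf (hord y hy) (m := 720) (by rw [hG]; norm_num) (by norm_num)
    obtain ⟨Q, hQ⟩ := sylow_of_orderOf hx (m := 720) (by rw [hG]; norm_num) (by norm_num)
    obtain ⟨g, hg⟩ := MulAction.exists_smul_eq G P Q
    have hy' : y ∈ (P : Subgroup G) := by rw [hP]; exact Subgroup.mem_zpowers y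
    have hgy : g * y * g⁻¹ ∈ Subgroup.zpowers x := by
      rw [← hQ, ← hg, Sylow.coe_subgroup_smul]
      exact Subgroup.smul_mem_pointwise_smul y (MulAut.conj g) _ hy'
    have heq : Subgroup.zpowers (g * y * g⁻¹) = Subgroup.zpowers x := by
      refine Subgroup.eq_of_le_of_card_ge (Subgroup.zpowers_le.2 hgy) ?_
      rw [Nat.card_zpowers, Nat.card_zpowers, hx, show g * y * g⁻¹ = MulAut.conj g y from
        (MulAut.conj_apply g y).symm, MulEquiv.orderOf_eq, hord y hy]
    rw [centralizer_singleton_eq_zpowers, ← heq, ← centralizer_singleton_eq_zpowers, ← hy]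
    exact (Nat.card_congr ((MulAut.conj g).toEquiv.subtypeEquiv fun a => by
      rw [Subgroup.mem_centralizer_singleton_iff, Subgroup.mem_centralizer_singleton_iff]
      exact ⟨fun e => by simp [MulAut.conj_apply, mul_assoc]; rw [← mul_assoc a, e, mul_assoc],
        fun e => (MulAut.conj g).injective (by
          rw [map_mul, map_mul]; simpa [MulAut.conj_apply] using e)⟩)).symm
  have h144 : Nat.card (Sylow 11 G) = 144 := by
    have h := card_orderOf_eq_prime (G := G) (p := 11) (fun P => (sylow_card (k := 1) (m := 720)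
      (by rw [hG]; norm_num) (by norm_num) P).trans (pow_one 11))
    rw [Nat.card_congr (Equiv.subtypeEquivRight fun g => (⟨hC g, hord g⟩ :
      orderOf g = 11 ↔ Nat.card (Subgroup.centralizer ({g} : Set G)) = 11)), h1440] at h
    omega
  haveI := isSimpleGroup_of_eleven hG h144 hC
  exact nonempty_mulEquiv G hG M hM

theorem count_dvd [IsSimpleGroup G] (hG : Nat.card G = 7920) {n : ℕ} (hn : Even n) (hn0 : n ≠ 0) :
    165 ∣ Nat.card {g : G // orderOf g = n} := by
  classical
  haveI := Fintype.ofFinite G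
  obtain ⟨m, rfl⟩ := hn
  obtain ⟨H, hH⟩ := exists_index_eleven hG
  have hX : Nat.card (G ⧸ H) = 11 := hH
  haveI : Fact (Nat.Prime 11) := ⟨by norm_num⟩
  haveI : Fact (Nat.Prime 5) := ⟨by norm_num⟩
  haveI : Fact (Nat.Prime 2) := ⟨by norm_num⟩
  obtain ⟨x, hx⟩ := exists_prime_orderOf_dvd_card' 11 (G := G) (by rw [hG]; norm_num)
  obtain ⟨y, hy⟩ := exists_prime_orderOf_dvd_card' 5 (G := G) (by rw [hG]; norm_num)
  obtain ⟨z, hz⟩ := exists_prime_orderOf_dvd_card' 2 (G := G) (by rw [hG]; norm_num)
  obtain ⟨f, -, -, -, -, -, -, hC⟩ := exists_table_involution hG hx hy hz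
  let π : {g : G // orderOf g = m + m} → {t : G // IsConj z t} := fun g =>
    ⟨(g : G) ^ m, involutions_conj (X := G ⧸ H) hG hX hz (by
      rw [orderOf_pow' _ (by omega), g.2, Nat.gcd_eq_right ⟨2, by ring⟩,
        show (m + m) / m = 2 by rw [show m + m = 2 * m by ring]; exact Nat.mul_div_cancel 2 (by omega)])⟩
  have hfib : ∀ t : {t : G // IsConj z t},
      Nat.card {g : {g : G // orderOf g = m + m} // π g = t} =
        Nat.card {g : {g : G // orderOf g = m + m} // π g = ⟨z, IsConj.refl z⟩} := by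
    intro t
    obtain ⟨c, hc⟩ := isConj_iff.1 t.2
    refine (Nat.card_congr (Equiv.subtypeEquiv ((MulAut.conj c).toEquiv.subtypeEquiv fun g => by
      simp only [MulEquiv.toEquiv_eq_coe, MulEquiv.coe_toEquiv, MulEquiv.orderOf_eq]) fun g => ?_)).symm
    simp only [π, Subtype.ext_iff, Equiv.subtypeEquiv_apply, MulEquiv.toEquiv_eq_coe,
      MulEquiv.coe_toEquiv, MulAut.conj_apply, conj_pow, ← hc]
    constructor
    · intro h; rw [h]
    · intro h; exact mul_left_cancel (mul_right_cancel h)
  have h := Nat.card_congr (Equiv.sigmaFiberEquiv π)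
  haveI := Fintype.ofFinite {t : G // IsConj z t}
  rw [Nat.card_sigma, Finset.sum_congr rfl fun t _ => hfib t, Finset.sum_const, Finset.card_univ,
    ← Nat.card_eq_fintype_card, smul_eq_mul] at h
  have hK := card_conj_mul_card_centralizer z
  rw [hC, hG] at hK
  rw [← h]
  exact Dvd.dvd.mul_right ⟨1, by omega⟩ _

theorem odd_order_check : ∀ n ∈ Nat.divisors 7920, n % 2 = 1 → n ∉ [1, 3, 5, 11] →
    9 ∣ n ∨ 15 ∣ n ∨ 33 ∣ n ∨ 55 ∣ n := by
  decide +kernel

/-- The numbers of elements of a given order. -/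
theorem count_cases [IsSimpleGroup G] (hG : Nat.card G = 7920) {c n : ℕ} (hc : 0 < c)
    (hn : c = Nat.card {g : G // orderOf g = n}) :
    c = 1 ∨ c = 440 ∨ c = 1584 ∨ c = 1440 ∨ (165 ∣ c ∧ c < 5760) := by
  classical
  obtain ⟨g, hg⟩ : ∃ g : G, orderOf g = n := by
    by_contra h
    haveI : IsEmpty {g : G // orderOf g = n} := ⟨fun g => h ⟨g, g.2⟩⟩
    rw [Nat.card_of_isEmpty] at hn
    omega
  have hdvd : n ∣ 7920 := hG ▸ hg ▸ orderOf_dvd_natCard g
  haveI : Fact (Nat.Prime 3) := ⟨by norm_num⟩
  haveI : Fact (Nat.Prime 5) := ⟨by norm_num⟩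
  haveI : Fact (Nat.Prime 11) := ⟨by norm_num⟩
  have h11 := (order_eleven_facts hG).2
  have h5 : Nat.card {g : G // orderOf g = 5} = 1584 := by
    rw [card_orderOf_eq_prime (fun P => (sylow_card (k := 1) (m := 1584) (by rw [hG]; norm_num)
      (by norm_num) P).trans (pow_one 5))]
    obtain ⟨y, hy⟩ := exists_prime_orderOf_dvd_card' 5 (G := G) (by rw [hG]; norm_num)
    obtain ⟨P, hP⟩ := sylow_of_orderOf hy (m := 1584) (by rw [hG]; norm_num) (by norm_num)
    have hN := normalizer_card_of_count P rfl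
    rw [hG, hP, (five_data hG (fun z hz => five_not_dvd hG hz) hy).1] at hN
    omega
  have h3 : Nat.card {g : G // orderOf g = 3} = 440 := by
    obtain ⟨v, hv⟩ := exists_prime_orderOf_dvd_card' 3 (G := G) (by rw [hG]; norm_num)
    obtain ⟨hC, hconj⟩ := order_three hG hv
    have h := card_conj_mul_card_centralizer v
    rw [hC, hG] at h
    rw [Nat.card_congr (Equiv.subtypeEquivRight fun w =>
      (⟨hconj w, fun hw => ?_⟩ : orderOf w = 3 ↔ IsConj v w))]
    · omega
    · by_contra hne
      exact not_isConj_of_orderOf_ne (by rw [hv]; exact fun e => hne e.symm) hw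
  by_cases h1 : n = 1
  · left
    subst h1
    rw [hn]
    haveI : Subsingleton {g : G // orderOf g = 1} := ⟨fun a b => Subtype.ext
      ((orderOf_eq_one_iff.1 a.2).trans (orderOf_eq_one_iff.1 b.2).symm)⟩
    haveI : Nonempty {g : G // orderOf g = 1} := ⟨⟨1, orderOf_one⟩⟩
    exact Nat.card_unique
  by_cases he : Even n
  · refine Or.inr (Or.inr (Or.inr (Or.inr ⟨?_, ?_⟩)))
    · rw [hn]
      exact count_dvd hG he fun e => by rw [e] at hdvd; norm_num at hdvd
    · have := sum_card_orderOf_le (G := G) ({3, 5, 11, n} : Finset ℕ)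
      have h2 : n % 2 = 0 := Nat.even_iff.1 he
      rw [Finset.sum_insert (by simp; omega), Finset.sum_insert (by simp; omega),
        Finset.sum_insert (by simp; omega), Finset.sum_singleton, h3, h5, h11, ← hn, hG] at this
      omega
  have hodd : n % 2 = 1 := Nat.odd_iff.1 (Nat.not_even_iff_odd.1 he)
  by_cases h : n ∈ [1, 3, 5, 11]
  · simp only [List.mem_cons, List.mem_nil_iff, or_false] at h
    rcases h with rfl | rfl | rfl | rfl
    · exact absurd rfl h1
    · exact Or.inr (Or.inl (hn.trans h3))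
    · exact Or.inr (Or.inr (Or.inl (hn.trans h5)))
    · exact Or.inr (Or.inr (Or.inr (Or.inl (hn.trans h11))))
  exfalso
  have hpow : ∀ k : ℕ, k ∣ n → k ≠ 0 → orderOf (g ^ (n / k)) = k := fun k hk hk0 => by
    have hn0 : n ≠ 0 := fun e => by rw [e] at hdvd; norm_num at hdvd
    rw [orderOf_pow, hg, Nat.gcd_eq_right (Nat.div_dvd_of_dvd hk), Nat.div_div_self hk hn0]
  have hcommw : ∀ k : ℕ, k ∣ n → ∀ w : G, orderOf w = k → ∀ p, p.Prime → p ∣ k →
      k ∣ Nat.card (Subgroup.centralizer ({w ^ (k / p)} : Set G)) := fun k _ w hw p _ _ => by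
    have hmem : w ∈ Subgroup.centralizer ({w ^ (k / p)} : Set G) :=
      Subgroup.mem_centralizer_singleton_iff.2 ((Commute.refl w).pow_right _).eq
    have := (Subgroup.centralizer ({w ^ (k / p)} : Set G)).orderOf_dvd_natCard hmem
    rwa [hw] at this
  have five := fun (y : G) (hy : orderOf y = 5) => (five_data hG (fun z hz => five_not_dvd hG hz) hy).2
  rcases odd_order_check n (Nat.mem_divisors.2 ⟨hdvd, by norm_num⟩) hodd h with
    hk | hk | hk | hk
  · -- order nine
    have hw := hpow 9 hk (by norm_num)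
    set w := g ^ (n / 9)
    obtain ⟨P, hP⟩ := (IsPGroup.of_card (n := 2) (by rw [Nat.card_zpowers, hw]; norm_num) :
      IsPGroup 3 (Subgroup.zpowers w)).exists_le_sylow
    obtain ⟨φ, hφ, h0, hsub⟩ := exists_param hG P
    obtain ⟨i, hi⟩ := hφ.2 ⟨w, hP (Subgroup.mem_zpowers w)⟩
    have e : φ (sub9 (sub9 i (sub9 0 i)) (sub9 0 i)) = φ i ^ 3 := by
      rw [hsub, hsub, hsub, h0, one_mul, inv_inv]
      rw [pow_succ, pow_succ, pow_one]
    have e' : ∀ i : Fin 9, sub9 (sub9 i (sub9 0 i)) (sub9 0 i) = 0 := by decide +kernel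
    rw [e', h0, hi] at e
    have h3' : w ^ 3 = 1 := by simpa using (congrArg Subtype.val e).symm
    have := orderOf_dvd_of_pow_eq_one h3'
    rw [hw] at this
    norm_num at this
  · have hw := hpow 15 hk (by norm_num)
    have h := hcommw 15 hk _ hw 5 (by norm_num) (by norm_num)
    rw [five _ (by rw [orderOf_pow' _ (by norm_num), hw]; rfl)] at h
    norm_num at h
  · have hw := hpow 33 hk (by norm_num)
    have h := hcommw 33 hk _ hw 11 (by norm_num) (by norm_num)
    rw [(eleven_data hG (by rw [orderOf_pow' _ (by norm_num), hw]; rfl)).2] at h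
    norm_num at h
  · have hw := hpow 55 hk (by norm_num)
    have h := hcommw 55 hk _ hw 11 (by norm_num) (by norm_num)
    rw [(eleven_data hG (by rw [orderOf_pow' _ (by norm_num), hw]; rfl)).2] at h
    norm_num at h

/-- Recognition by the numbers of elements of each order. -/
theorem mulEquiv_of_counts (M : Type*) [Group M] [Finite M] [IsSimpleGroup M]
    (hM : Nat.card M = 7920) (hG : Nat.card G = 7920)
    (h : ∀ c, 0 < c → ∀ n, c = Nat.card {g : G // orderOf g = n} →
      ∃ k, c = Nat.card {m : M // orderOf m = k}) :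
    Nonempty (G ≃* M) := by
  classical
  haveI : Fact (Nat.Prime 11) := ⟨by norm_num⟩
  have hcase : ∀ n, (∃ g : G, orderOf g = n) →
      Nat.card {g : G // orderOf g = n} = 1 ∨ Nat.card {g : G // orderOf g = n} = 440 ∨
      Nat.card {g : G // orderOf g = n} = 1584 ∨ Nat.card {g : G // orderOf g = n} = 1440 ∨
      (165 ∣ Nat.card {g : G // orderOf g = n} ∧ Nat.card {g : G // orderOf g = n} < 5760) := by
    rintro n ⟨g, hg⟩
    haveI : Nonempty {g : G // orderOf g = n} := ⟨⟨g, hg⟩⟩
    obtain ⟨k, hk⟩ := h _ Nat.card_pos n rfl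
    exact count_cases hM Nat.card_pos hk
  have hs := card_orderOf_eq_prime (G := G) (p := 11) (fun P => (sylow_card (k := 1) (m := 720)
    (by rw [hG]; norm_num) (by norm_num) P).trans (pow_one 11))
  have hcand := sylow_count_mem (G := G) (p := 11) (k := 1) (m := 720) (by rw [hG]; norm_num)
    (by norm_num)
  rw [show (Nat.divisors 720).filter (fun d => d % 11 = 1) = {1, 12, 45, 144} by decide +kernel] at hcand
  simp only [Finset.mem_insert, Finset.mem_singleton] at hcand
  have h144 : Nat.card (Sylow 11 G) = 144 := by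
    obtain ⟨x, hx⟩ := exists_prime_orderOf_dvd_card' 11 (G := G) (by rw [hG]; norm_num)
    have hc := hcase 11 ⟨x, hx⟩
    rw [hs] at hc
    rcases hcand with e | e | e | e <;> rw [e] at hc <;> omega
  have hC : ∀ x : G, orderOf x = 11 → Nat.card (Subgroup.centralizer ({x} : Set G)) = 11 := by
    intro x hx
    obtain ⟨P, hP⟩ := sylow_of_orderOf hx (m := 720) (by rw [hG]; norm_num) (by norm_num)
    have hN := normalizer_card_of_count P h144
    rw [hG] at hN
    set C := Subgroup.centralizer ({x} : Set G) with hCdef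
    have hle : C ≤ Subgroup.normalizer ((P : Subgroup G) : Set G) := by
      rw [hCdef, centralizer_singleton_eq_zpowers, ← hP]
      exact Subgroup.centralizer_le_normalizer _
    have h55 : Nat.card C ∣ 55 := by
      have := Subgroup.card_dvd_of_le hle
      rwa [show Nat.card (Subgroup.normalizer ((P : Subgroup G) : Set G)) = 55 by omega] at this
    have hxC : x ∈ C := Subgroup.mem_centralizer_singleton_iff.2 rfl
    have h11 : 11 ∣ Nat.card C := by have := C.orderOf_dvd_natCard hxC; rwa [hx] at this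
    by_contra hne
    have hC55 : Nat.card C = 55 := by
      obtain ⟨k, hk⟩ := h11
      rw [hk] at h55 hne
      have hk5 : k ∣ 5 := (Nat.mul_dvd_mul_iff_left (by norm_num)).1 (show 11 * k ∣ 11 * 5 from h55)
      rcases (Nat.dvd_prime (by norm_num : Nat.Prime 5)).1 hk5 with rfl | rfl
      · exact absurd rfl hne
      · omega
    haveI : Fact (Nat.Prime 5) := ⟨by norm_num⟩
    obtain ⟨b, hb⟩ := exists_prime_orderOf_dvd_card' 5 (G := C) (by rw [hC55]; norm_num)
    have hbx : Commute x (b : G) := (Subgroup.mem_centralizer_singleton_iff.1 b.2).symm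
    -- every Sylow 11-subgroup gives forty elements of order 55
    have hlow : 5760 ≤ Nat.card {g : G // orderOf g = 55} := by
      have hgen : ∀ Q : Sylow 11 G, ∃ g : G, orderOf g = 55 ∧ g ^ 5 ∈ (Q : Subgroup G) := by
        intro Q
        obtain ⟨a, rfl⟩ := MulAction.exists_smul_eq G P Q
        refine ⟨MulAut.conj a (x * (b : G)), ?_, ?_⟩
        · rw [MulEquiv.orderOf_eq, hbx.orderOf_mul_eq_mul_orderOf_of_coprime
            (by rw [hx, Subgroup.orderOf_coe, hb]; norm_num), hx, Subgroup.orderOf_coe, hb]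
        · rw [Sylow.coe_subgroup_smul, ← map_pow]
          refine Subgroup.smul_mem_pointwise_smul _ (MulAut.conj a) _ ?_
          rw [hbx.mul_pow, ← hb, ← Subgroup.orderOf_coe, pow_orderOf_eq_one, mul_one, hP]
          exact Subgroup.pow_mem _ (Subgroup.mem_zpowers x) _
      choose γ hγ1 hγ2 using hgen
      let U := {i : Fin 55 // Nat.Coprime i.val 55}
      let ψ : Sylow 11 G × U → {g : G // orderOf g = 55} := fun w =>
        ⟨γ w.1 ^ (w.2 : Fin 55).val, by
          rw [(Nat.Coprime.orderOf_pow (by rw [hγ1]; exact (w.2.2).symm)), hγ1]⟩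
      have hψ : Function.Injective ψ := by
        rintro ⟨Q, i⟩ ⟨Q', i'⟩ e
        have e' : γ Q ^ (i : Fin 55).val = γ Q' ^ (i' : Fin 55).val := congrArg Subtype.val e
        have hQQ : Q' = Q := by
          have ho : orderOf ((γ Q ^ (i : Fin 55).val) ^ 5) = 11 := by
            rw [orderOf_pow' _ (by norm_num), (Nat.Coprime.orderOf_pow (by rw [hγ1]; exact i.2.symm)),
              hγ1]
            rfl
          obtain ⟨T, hT⟩ := sylow_of_orderOf ho (m := 720) (by rw [hG]; norm_num) (by norm_num)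
          have hT' : ∀ R : Sylow 11 G, (γ Q ^ (i : Fin 55).val) ^ 5 ∈ (R : Subgroup G) → R = T := by
            intro R hR
            apply Sylow.ext
            refine (Subgroup.eq_of_le_of_card_ge ?_ ?_).symm
            · rw [hT, Subgroup.zpowers_le]; exact hR
            · rw [sylow_card (k := 1) (m := 720) (by rw [hG]; norm_num) (by norm_num) T,
                sylow_card (k := 1) (m := 720) (by rw [hG]; norm_num) (by norm_num) R]
          rw [hT' Q (by rw [← pow_mul, mul_comm, pow_mul]; exact Subgroup.pow_mem _ (hγ2 Q) _),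
            hT' Q' (by rw [e', ← pow_mul, mul_comm, pow_mul]; exact Subgroup.pow_mem _ (hγ2 Q') _)]
        subst hQQ
        have h55' := pow_inj_mod.1 e'
        rw [hγ1, Nat.mod_eq_of_lt (i : Fin 55).2, Nat.mod_eq_of_lt (i' : Fin 55).2] at h55'
        exact Prod.ext rfl (Subtype.ext (Fin.ext h55'))
      have := Nat.card_le_card_of_injective ψ hψ
      rwa [Nat.card_prod, h144, show Nat.card U = 40 by
        rw [Nat.card_eq_fintype_card]; decide +kernel] at this
    haveI : Nonempty {g : G // orderOf g = 55} := (Nat.card_pos_iff.1 (by omega)).1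
    have hc := hcase 55 ⟨_, (Classical.arbitrary {g : G // orderOf g = 55}).2⟩
    omega
  haveI := isSimpleGroup_of_eleven hG h144 hC
  exact nonempty_mulEquiv G hG M hM

end Cfsg.Agent.Lib.Characters.Order7920
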