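import Cfsg.Agent.Lib.Characters.Order7920.Involution

/-!
# The ten irreducible characters of a simple group of order 7920
-/

namespace Cfsg.Agent.Lib.Characters.Order7920

open scoped ComplexConjugate
open Cfsg Cfsg.Agent.Lib.Characters Cfsg.Agent.Lib.SylowCounting

universe u

variable {G : Type u} [Group G] [Finite G]

/-- The degrees. -/
def degs : Fin 10 → ℕ := ![1, 10, 10, 10, 45, 16, 16, 11, 44, 55]

/-- The column at an element of order eleven. -/
noncomputable def xcol : Fin 10 → ℂ := ![1, -1, -1, -1, 1, eta, -1 - eta, 0, 0, 0]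

/-- The column at an element of order five. -/
def ycol : Fin 10 → ℤ := ![1, 0, 0, 0, 0, 1, 1, 1, -1, 0]

/-- The column at an involution. -/
def zcol : Fin 10 → ℤ := ![1, 2, -2, -2, -3, 0, 0, 3, 4, -1]

theorem five_column [IsSimpleGroup G] (hG : Nat.card G = 7920) {y : G} (hy : orderOf y = 5) :
    ∃ V : IrrCharacter G → ℤ, (∀ χ : IrrCharacter G, (χ : G → ℂ) y = V χ) ∧ V (trivIrr G) = 1 ∧
      (∀ χ : IrrCharacter G, (5 : ℤ) ∣ V χ - deg χ) ∧
      ∀ [Fintype (IrrCharacter G)], ∑ χ, V χ * V χ = 5 := by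
  haveI : Fact (Nat.Prime 5) := ⟨by norm_num⟩
  have h5 := fun (z : G) (hz : orderOf z = 2) => five_not_dvd hG hz
  have h : ∀ χ : IrrCharacter G, ∃ a : ℤ, (χ : G → ℂ) y = a ∧ (5 : ℤ) ∣ a - deg χ := fun χ =>
    rational_value (irr_isCharacter χ) (by rw [← hy, pow_orderOf_eq_one])
      (fun k hk0 hk => (IsClassFunction.eq_of_isConj (irr_isClassFunction χ)
        (isConj_powers_five hG h5 hy hk0 hk)).symm) (deg_eq χ)
  choose V hV hc using h
  refine ⟨V, hV, ?_, hc, fun {_} => ?_⟩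
  · have h1 : (1 : ℂ) = (V (trivIrr G) : ℂ) := hV (trivIrr G)
    exact_mod_cast h1.symm
  · haveI := Fintype.ofFinite G
    have h := sum_irr_mul_conj y y
    rw [if_pos (IsConj.refl y), (five_data hG h5 hy).2] at h
    simp only [hV, map_intCast] at h
    exact_mod_cast h

theorem caseA_false [IsSimpleGroup G] (hG : Nat.card G = 7920) {x : G}
    {f : Fin 7 → IrrCharacter G} (hf : CaseA x f) : False := by
  haveI := Fintype.ofFinite (IrrCharacter G)
  haveI : Fact (Nat.Prime 5) := ⟨by norm_num⟩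
  obtain ⟨hinj, h0, hd, -, -⟩ := hf
  obtain ⟨y, hy⟩ := exists_prime_orderOf_dvd_card' 5 (G := G) (by rw [hG]; norm_num)
  obtain ⟨V, -, hV0, hc, hsum⟩ := five_column hG hy
  have h := @hsum _
  have hle : V (f 0) * V (f 0) + (V (f 5) * V (f 5) + V (f 6) * V (f 6)) ≤ 5 := by
    classical
    rw [← h]
    have hsub : ∑ χ ∈ ({f 0, f 5, f 6} : Finset (IrrCharacter G)), V χ * V χ ≤ ∑ χ, V χ * V χ :=
      Finset.sum_le_sum_of_subset_of_nonneg (Finset.subset_univ _) fun i _ _ => mul_self_nonneg _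
    rwa [Finset.sum_insert (by simp [hinj.eq_iff]), Finset.sum_insert (by simp [hinj.eq_iff]),
      Finset.sum_singleton] at hsub
  have h12 : ∀ i, deg (f i) = 12 → 4 ≤ V (f i) * V (f i) := fun i hi => by
    have hc' := hc (f i)
    rw [hi] at hc'
    rcases (by omega : V (f i) ≤ -2 ∨ 2 ≤ V (f i)) with h' | h' <;> nlinarith
  have h5 := h12 5 (by rw [hd]; rfl)
  have h6 := h12 6 (by rw [hd]; rfl)
  rw [h0, hV0] at hle
  linarith

theorem cofactor_cases : ∀ a b m : ℕ, a ≤ 6 → b ≤ 6 → m ≤ 1 →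
    (a % 5 = 1 ∨ a % 5 = 4) → (b % 5 = 1 ∨ b % 5 = 4) → a * a + b * b + 25 * m = 42 →
    m = 1 ∧ ((a = 1 ∧ b = 4) ∨ (a = 4 ∧ b = 1)) := by
  intro a b m ha hb hm h1 h2 h
  interval_cases m <;> interval_cases a <;> interval_cases b <;> omega

set_option maxHeartbeats 1000000 in
-- one long proof
/-- The degrees, and the columns at elements of orders eleven and five. -/
theorem exists_table [IsSimpleGroup G] (hG : Nat.card G = 7920) {x y : G} (hx : orderOf x = 11)
    (hy : orderOf y = 5) :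
    ∃ f : Fin 10 → IrrCharacter G, Function.Bijective f ∧ f 0 = trivIrr G ∧
      (∀ i, deg (f i) = degs i) ∧ (∀ i, (f i : G → ℂ) x = xcol i) ∧
      ∀ i, (f i : G → ℂ) y = ycol i := by
  classical
  haveI := Fintype.ofFinite G
  haveI := Fintype.ofFinite (IrrCharacter G)
  obtain ⟨f, hf⟩ : ∃ f, CaseB x f := by
    rcases case_split hG hx with ⟨f, hf⟩ | h
    · exact (caseA_false hG hf).elim
    · exact h
  obtain ⟨hinj, h0, hd, hv, hout⟩ := hf
  obtain ⟨V, hV, hV0, hVc, hV5⟩ := five_column hG hy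
  have hsum := @hV5 _
  set R := Finset.univ.filter fun χ => ∀ i, f i ≠ χ with hR
  have hsplit : ∀ F : IrrCharacter G → ℤ, ∑ χ, F χ = ∑ i, F (f i) + ∑ χ ∈ R, F χ := fun F => by
    rw [← Finset.sum_filter_add_sum_filter_not Finset.univ (fun χ => ∀ i, f i ≠ χ), add_comm]
    congr 1
    have e : (Finset.univ.filter fun χ => ¬ ∀ i, f i ≠ χ) = Finset.univ.image f := by
      ext χ; simp
    rw [e, Finset.sum_image fun a _ b _ h => hinj h]
  have hdvd : ∀ χ ∈ R, 11 ∣ deg χ := fun χ hχ => (hout χ (Finset.mem_filter.1 hχ).2).2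
  choose k hk using hdvd
  let K : IrrCharacter G → ℕ := fun χ => if h : χ ∈ R then k χ h else 0
  have hK : ∀ χ ∈ R, deg χ = 11 * K χ := fun χ hχ => by simp only [K, dif_pos hχ]; exact hk χ hχ
  have hK2 : ∑ χ ∈ R, (K χ : ℤ) * K χ = 42 := by
    have h : ((∑ χ : IrrCharacter G, deg χ ^ 2 : ℕ) : ℤ) = 7920 := by rw [sum_deg_sq, hG]; rfl
    push_cast at h
    rw [hsplit, Fin.sum_univ_seven] at h
    simp [hd] at h
    have e : ∑ χ ∈ R, (deg χ : ℤ) ^ 2 = 121 * ∑ χ ∈ R, (K χ : ℤ) * K χ := by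
      rw [Finset.mul_sum]
      exact Finset.sum_congr rfl fun χ hχ => by rw [hK χ hχ]; push_cast; ring
    rw [e] at h
    linarith
  have hK6 : ∀ χ ∈ R, 1 ≤ K χ ∧ K χ ≤ 6 := fun χ hχ => by
    have h1 := Finset.single_le_sum (fun i _ => mul_self_nonneg (K i : ℤ)) hχ
    rw [hK2] at h1
    have h2 := deg_pos χ
    rw [hK χ hχ] at h2
    refine ⟨by omega, ?_⟩
    by_contra h
    have : (7 : ℤ) ≤ K χ := by exact_mod_cast (by omega : 7 ≤ K χ)
    nlinarith
  -- values at `y`
  have hsum' : 1 + V (f 1) * V (f 1) + V (f 2) * V (f 2) + V (f 3) * V (f 3) + V (f 4) * V (f 4) +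
      V (f 5) * V (f 5) + V (f 6) * V (f 6) + ∑ χ ∈ R, V χ * V χ = 5 := by
    rw [hsplit, Fin.sum_univ_seven, h0, hV0] at hsum
    linarith
  have hRnn : 0 ≤ ∑ χ ∈ R, V χ * V χ := Finset.sum_nonneg fun i _ => mul_self_nonneg _
  have hcd : ∀ i, (5 : ℤ) ∣ V (f i) - ![1, 16, 16, 10, 10, 10, 45] i := fun i => by
    have := hVc (f i); rw [hd] at this; fin_cases i <;> simpa using this
  have c1 : (5 : ℤ) ∣ V (f 1) - 16 := by simpa using hcd 1
  have c2 : (5 : ℤ) ∣ V (f 2) - 16 := by simpa using hcd 2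
  have c3 : (5 : ℤ) ∣ V (f 3) - 10 := by simpa using hcd 3
  have c4 : (5 : ℤ) ∣ V (f 4) - 10 := by simpa using hcd 4
  have c5 : (5 : ℤ) ∣ V (f 5) - 10 := by simpa using hcd 5
  have c6 : (5 : ℤ) ∣ V (f 6) - 45 := by simpa using hcd 6
  have hsq := mul_self_nonneg (V (f 1))
  have s2 := mul_self_nonneg (V (f 2))
  have s3 := mul_self_nonneg (V (f 3))
  have s4 := mul_self_nonneg (V (f 4))
  have s5 := mul_self_nonneg (V (f 5))
  have s6 := mul_self_nonneg (V (f 6))
  have small : ∀ v : ℤ, v * v ≤ 4 → -2 ≤ v ∧ v ≤ 2 := fun v h => by constructor <;> nlinarith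
  have v1 : V (f 1) = 1 := by have := small (V (f 1)) (by linarith); omega
  have v2 : V (f 2) = 1 := by have := small (V (f 2)) (by linarith); omega
  have v3 : V (f 3) = 0 := by have := small (V (f 3)) (by linarith); omega
  have v4 : V (f 4) = 0 := by have := small (V (f 4)) (by linarith); omega
  have v5 : V (f 5) = 0 := by have := small (V (f 5)) (by linarith); omega
  have v6 : V (f 6) = 0 := by have := small (V (f 6)) (by linarith); omega
  rw [v1, v2, v3, v4, v5, v6] at hsum'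
  norm_num at hsum'
  obtain ⟨r, s, hrs, hr, hs, hrest⟩ :=
    two_support (fun χ : R => V (χ : IrrCharacter G)) (by
      rw [Finset.sum_coe_sort R (fun χ => V χ ^ 2)]
      simp only [sq]; linarith)
  obtain ⟨r, hrR⟩ := r
  obtain ⟨s, hsR⟩ := s
  simp only at hr hs
  have hrs' : r ≠ s := fun h => hrs (Subtype.ext h)
  have hrest' : ∀ χ ∈ R, χ ≠ r → χ ≠ s → V χ = 0 := fun χ hχ h1 h2 =>
    hrest ⟨χ, hχ⟩ (fun h => h1 (congrArg Subtype.val h)) (fun h => h2 (congrArg Subtype.val h))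
  set M := (R.erase r).erase s with hM
  have hsplitR : ∀ F : IrrCharacter G → ℤ, ∑ χ ∈ R, F χ = F r + F s + ∑ χ ∈ M, F χ := fun F => by
    rw [← Finset.add_sum_erase _ F hrR,
      ← Finset.add_sum_erase _ F (Finset.mem_erase.2 ⟨hrs'.symm, hsR⟩)]
    ring
  have hMk : ∀ χ ∈ M, K χ = 5 := fun χ hχ => by
    simp only [hM, Finset.mem_erase] at hχ
    have h1 := hVc χ
    rw [hrest' χ hχ.2.2 hχ.2.1 hχ.1, hK χ hχ.2.2] at h1
    push_cast at h1
    obtain ⟨h2, h3⟩ := hK6 χ hχ.2.2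
    omega
  have hK2' : (K r : ℤ) * K r + K s * K s + 25 * M.card = 42 := by
    rw [hsplitR, Finset.sum_congr (rfl : M = M) (g := fun _ => (25 : ℤ))
      (fun χ hχ => by rw [hMk χ hχ]; norm_num), Finset.sum_const, nsmul_eq_mul] at hK2
    linarith
  have hmod : ∀ χ ∈ R, V χ ^ 2 = 1 → K χ % 5 = 1 ∨ K χ % 5 = 4 := fun χ hχ h => by
    have h1 := hVc χ
    rw [hK χ hχ] at h1
    push_cast at h1
    rcases sq_eq_one_iff.1 h with h' | h' <;> rw [h'] at h1 <;> omega
  obtain ⟨hm1, hkk⟩ := cofactor_cases (K r) (K s) M.card (hK6 r hrR).2 (hK6 s hsR).2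
    (by have := mul_self_nonneg (K r : ℤ); have := mul_self_nonneg (K s : ℤ); omega)
    (hmod r hrR hr) (hmod s hsR hs) (by exact_mod_cast hK2')
  obtain ⟨t, ht⟩ := Finset.card_eq_one.1 hm1
  obtain ⟨u, w, hu, hw, huR, hwR, hu2, hw2, huw, hcov⟩ : ∃ u w, K u = 1 ∧ K w = 4 ∧ u ∈ R ∧ w ∈ R ∧
      V u ^ 2 = 1 ∧ V w ^ 2 = 1 ∧ u ≠ w ∧ ∀ χ, χ = r ∨ χ = s ↔ χ = u ∨ χ = w := by
    rcases hkk with ⟨a, b⟩ | ⟨a, b⟩
    · exact ⟨r, s, a, b, hrR, hsR, hr, hs, hrs', fun χ => Iff.rfl⟩
    · exact ⟨s, r, b, a, hsR, hrR, hs, hr, hrs'.symm, fun χ => or_comm⟩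
  have htM : t ∈ M := by rw [ht]; exact Finset.mem_singleton_self _
  have htR : t ∈ R := Finset.mem_of_mem_erase (Finset.mem_of_mem_erase htM)
  have hVt : V t = 0 := by
    simp only [hM, Finset.mem_erase] at htM
    exact hrest' t htM.2.2 htM.2.1 htM.1
  have du : deg u = 11 := by rw [hK u huR, hu]
  have dw : deg w = 44 := by rw [hK w hwR, hw]
  have dt : deg t = 55 := by rw [hK t htR, hMk t htM]
  have hreg : 1 + 16 + 16 + 11 * V u + 44 * V w = 0 := by
    have h := sum_degree_mul (G := G) y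
    rw [if_neg (fun h => by rw [h, orderOf_one] at hy; norm_num at hy)] at h
    simp only [deg_eq, hV] at h
    have h' : ∑ χ : IrrCharacter G, (deg χ : ℤ) * V χ = 0 := by exact_mod_cast h
    rw [hsplit, hsplitR, Fin.sum_univ_seven, ht, Finset.sum_singleton] at h'
    rcases hkk with ⟨a, b⟩ | ⟨a, b⟩
    · have er : r = u := by
        rcases (hcov r).1 (Or.inl rfl) with h | h
        · exact h
        · rw [h, hw] at a; omega
      have es : s = w := by
        rcases (hcov s).1 (Or.inr rfl) with h | h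
        · rw [h, hu] at b; omega
        · exact h
      simp [h0, hV0, v1, v2, v3, v4, v5, v6, hVt, er, es, du, dw, hd, deg_triv] at h'
      linarith
    · have er : r = w := by
        rcases (hcov r).1 (Or.inl rfl) with h | h
        · rw [h, hu] at a; omega
        · exact h
      have es : s = u := by
        rcases (hcov s).1 (Or.inr rfl) with h | h
        · exact h
        · rw [h, hw] at b; omega
      simp [h0, hV0, v1, v2, v3, v4, v5, v6, hVt, er, es, du, dw, hd, deg_triv] at h'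
      linarith
  obtain ⟨vu, vw⟩ : V u = 1 ∧ V w = -1 := by
    rcases sq_eq_one_iff.1 hu2 with a | a <;> rcases sq_eq_one_iff.1 hw2 with b | b <;> omega
  let g : Fin 10 → IrrCharacter G := ![f 0, f 3, f 4, f 5, f 6, f 1, f 2, u, w, t]
  have hginj : Function.Injective g := by
    have hne : ∀ i, ∀ χ ∈ R, f i ≠ χ := fun i χ hχ => (Finset.mem_filter.1 hχ).2 i
    have n1 := fun i => hne i u huR
    have n2 := fun i => hne i w hwR
    have n3 := fun i => hne i t htR
    have m1 : u ≠ t := fun h => by rw [h, dt] at du; omega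
    have m2 : w ≠ t := fun h => by rw [h, dt] at dw; omega
    intro i j h
    fin_cases i <;> fin_cases j <;> simp [g, hinj.eq_iff] at h ⊢ <;>
      first
        | exact absurd h (n1 _) | exact absurd h (n2 _) | exact absurd h (n3 _)
        | exact absurd h.symm (n1 _) | exact absurd h.symm (n2 _) | exact absurd h.symm (n3 _)
        | exact absurd h huw | exact absurd h.symm huw
        | exact absurd h m1 | exact absurd h.symm m1 | exact absurd h m2 | exact absurd h.symm m2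
  have hgsurj : Function.Surjective g := by
    intro χ
    by_cases hχ : χ ∈ R
    · by_cases h : χ = r ∨ χ = s
      · rcases (hcov χ).1 h with rfl | rfl
        · exact ⟨7, rfl⟩
        · exact ⟨8, rfl⟩
      · have : χ ∈ M := by
          simp only [hM, Finset.mem_erase]; exact ⟨fun e => h (Or.inr e), fun e => h (Or.inl e), hχ⟩
        rw [ht, Finset.mem_singleton] at this
        exact ⟨9, this.symm⟩
    · simp only [hR, Finset.mem_filter, Finset.mem_univ, true_and, not_forall, not_not] at hχ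
      obtain ⟨i, rfl⟩ := hχ
      fin_cases i
      exacts [⟨0, rfl⟩, ⟨5, rfl⟩, ⟨6, rfl⟩, ⟨1, rfl⟩, ⟨2, rfl⟩, ⟨3, rfl⟩, ⟨4, rfl⟩]
  refine ⟨g, ⟨hginj, hgsurj⟩, h0, ?_, ?_, ?_⟩
  · intro i; fin_cases i <;> simp [g, degs, hd, du, dw, dt]
  · intro i
    fin_cases i <;> simp [g, xcol, hv, (hout u (Finset.mem_filter.1 huR).2).1,
      (hout w (Finset.mem_filter.1 hwR).2).1, (hout t (Finset.mem_filter.1 htR).2).1]
  · intro i
    fin_cases i <;> simp [g, ycol, hV, h0, hV0, v1, v2, v3, v4, v5, v6, vu, vw, hVt]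

theorem sum_table {f : Fin 10 → IrrCharacter G} (hf : Function.Bijective f)
    [Fintype (IrrCharacter G)] {M : Type*} [AddCommMonoid M] (F : IrrCharacter G → M) :
    ∑ χ, F χ = F (f 0) + F (f 1) + F (f 2) + F (f 3) + F (f 4) + F (f 5) + F (f 6) + F (f 7) +
      F (f 8) + F (f 9) := by
  rw [← Equiv.sum_comp (Equiv.ofBijective f hf)]
  simp [Fin.sum_univ_castSucc]

theorem enum_z : ∀ p ∈ [3, -1, (-5 : ℤ)], ∀ q ∈ [4, 0, (-4 : ℤ)], ∀ r ∈ [3, -1, (-5 : ℤ)],
    p + 4 * q + 5 * r = 14 → p * p + q * q + r * r ≤ 26 →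
    ((22 + p * p + q * q + r * r).toNat ∣ 48) → p = 3 ∧ q = 4 ∧ r = -1 := by
  decide +kernel

set_option maxHeartbeats 1000000 in
-- one long proof
/-- The table with the column at an involution added. -/
theorem exists_table_involution [IsSimpleGroup G] (hG : Nat.card G = 7920) {x y z : G}
    (hx : orderOf x = 11) (hy : orderOf y = 5) (hz : orderOf z = 2) :
    ∃ f : Fin 10 → IrrCharacter G, Function.Bijective f ∧ f 0 = trivIrr G ∧
      (∀ i, deg (f i) = degs i) ∧ (∀ i, (f i : G → ℂ) x = xcol i) ∧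
      (∀ i, (f i : G → ℂ) y = ycol i) ∧ (∀ i, (f i : G → ℂ) z = zcol i) ∧
      Nat.card (Subgroup.centralizer ({z} : Set G)) = 48 := by
  classical
  haveI := Fintype.ofFinite G
  haveI := Fintype.ofFinite (IrrCharacter G)
  obtain ⟨f, hf, f0, hd, hfx, hfy⟩ := exists_table hG hx hy
  have hB : CaseB x ![f 0, f 5, f 6, f 1, f 2, f 3, f 4] := by
    refine ⟨?_, f0, ?_, ?_, ?_⟩
    · intro i j h; fin_cases i <;> fin_cases j <;> simp [hf.1.eq_iff] at h ⊢
    · intro i; fin_cases i <;> simp [hd, degs]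
    · intro i; fin_cases i <;> simp [hfx, xcol]
    · intro χ hχ
      obtain ⟨i, rfl⟩ := hf.2 χ
      fin_cases i
      · exact absurd rfl (hχ 0)
      · exact absurd rfl (hχ 3)
      · exact absurd rfl (hχ 4)
      · exact absurd rfl (hχ 5)
      · exact absurd rfl (hχ 6)
      · exact absurd rfl (hχ 1)
      · exact absurd rfl (hχ 2)
      · simp [hfx, xcol, hd, degs]
      · simp [hfx, xcol, hd, degs]
      · simp [hfx, xcol, hd, degs]
  obtain ⟨a, b, c, ha, hb, hc, hsum, ha2, hb2, hc2, h6, h1, h2⟩ := caseB_involution hG hx hz hB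
  simp at ha hb hc h6 h1 h2
  obtain ⟨W, hW, hW0, hWm⟩ := exists_int_column hG hz
  have hne : ∀ i, i ≠ 0 → f i ≠ trivIrr G := fun i hi h => hi (hf.1 (h.trans f0.symm))
  obtain ⟨m7, e7, p7, l7, w7⟩ := hWm _ (hne 7 (by decide))
  obtain ⟨m8, e8, p8, l8, w8⟩ := hWm _ (hne 8 (by decide))
  obtain ⟨m9, e9, p9, l9, w9⟩ := hWm _ (hne 9 (by decide))
  simp [hd, degs] at l7 w7 l8 w8 l9 w9
  set C := Nat.card (Subgroup.centralizer ({z} : Set G)) with hCdef
  have hK : Nat.card {g : G // IsConj z g} * C = 7920 := by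
    rw [hCdef, card_conj_mul_card_centralizer, hG]
  have hcol : (C : ℤ) = 22 + W (f 7) * W (f 7) + W (f 8) * W (f 8) + W (f 9) * W (f 9) := by
    have h := sum_irr_mul_conj z z
    rw [if_pos (IsConj.refl z), sum_table hf] at h
    simp [f0, trivIrr, ha, hb, hc, h6, h1, h2, hW (f 7), hW (f 8), hW (f 9), map_ofNat,
      -Nat.card_eq_fintype_card] at h
    have h' : ((C : ℤ) : ℂ) = ((1 + a * a + b * b + c * c + 9 + W (f 7) * W (f 7)
        + W (f 8) * W (f 8) + W (f 9) * W (f 9) : ℤ) : ℂ) := by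
      push_cast; rw [hCdef]; linear_combination -h
    have h'' := (Int.cast_injective h' : (C : ℤ) = _)
    linarith
  have hreg : W (f 7) + 4 * W (f 8) + 5 * W (f 9) = 14 := by
    have h := sum_degree_mul (G := G) z
    rw [if_neg (fun h => by rw [h, orderOf_one] at hz; norm_num at hz), sum_table hf] at h
    simp only [deg_eq, hd] at h
    simp [degs, f0, trivIrr, ha, hb, hc, h6, h1, h2, hW (f 7), hW (f 8), hW (f 9)] at h
    have h' : ((1 + 10 * (a + b + c) - 135 + 11 * W (f 7) + 44 * W (f 8) + 55 * W (f 9) : ℤ) : ℂ)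
        = 0 := by push_cast; linear_combination h
    have h'' : (1 + 10 * (a + b + c) - 135 + 11 * W (f 7) + 44 * W (f 8) + 55 * W (f 9) : ℤ) = 0 := by
      exact_mod_cast h'
    omega
  have h48 : C ∣ 48 := by
    have h15 : 15 ∣ Nat.card {g : G // IsConj z g} := by
      have h := class_dvd (f 4).2 (d := 45) (by rw [deg_eq, hd]; rfl) (by norm_num) rfl
        (v := -3) (by rw [h6]; simp)
      omega
    have h528 : C ∣ 528 := by
      obtain ⟨j, hj⟩ := h15
      rw [hj] at hK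
      exact ⟨j, by linarith⟩
    have h11 : ¬ 11 ∣ C := by
      refine not_eleven_dvd_centralizer hG fun h => ?_
      have := orderOf_dvd_of_pow_eq_one h
      rw [hz] at this; norm_num at this
    have hcop : Nat.Coprime C 11 := ((Nat.Prime.coprime_iff_not_dvd (by norm_num)).2 h11).symm
    exact hcop.dvd_of_dvd_mul_right (by simpa using h528)
  have hle : C ≤ 48 := Nat.le_of_dvd (by norm_num) h48
  have small : ∀ v : ℤ, v * v ≤ 26 → -5 ≤ v ∧ v ≤ 5 := fun v h => by constructor <;> nlinarith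
  have s7 := mul_self_nonneg (W (f 7))
  have s8 := mul_self_nonneg (W (f 8))
  have s9 := mul_self_nonneg (W (f 9))
  have hle' : (C : ℤ) ≤ 48 := by exact_mod_cast hle
  have b7 := small (W (f 7)) (by linarith)
  have b8 := small (W (f 8)) (by linarith)
  have b9 := small (W (f 9)) (by linarith)
  obtain ⟨k7, rfl⟩ := e7
  obtain ⟨k8, rfl⟩ := e8
  obtain ⟨k9, rfl⟩ := e9
  obtain ⟨u7, u8, u9⟩ := enum_z (W (f 7)) (by simp; omega) (W (f 8)) (by simp; omega) (W (f 9))
    (by simp; omega) hreg (by linarith) (by rw [← hcol, Int.toNat_natCast]; exact h48)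
  rw [u7, u8, u9] at hcol
  have hC : C = 48 := by omega
  have e2 : ∀ v : ℤ, v * v = 4 → v = 2 ∨ v = -2 := fun v h => by
    have := small v (by linarith)
    rcases this with ⟨l, r⟩
    interval_cases v <;> first | omega | norm_num at h
  obtain ⟨π, hπ, hπ0, hπd, hπa, hπb, hπc⟩ : ∃ π : Fin 10 → Fin 10, Function.Bijective π ∧
      π 0 = 0 ∧ (∀ i, degs (π i) = degs i ∧ xcol (π i) = xcol i ∧ ycol (π i) = ycol i) ∧
      ![1, a, b, c, -3, 0, 0, 3, 4, -1] (π 1) = 2 ∧ ![1, a, b, c, -3, 0, 0, 3, 4, -1] (π 2) = -2 ∧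
      ![1, a, b, c, -3, 0, 0, 3, 4, -1] (π 3) = -2 ∧ ∀ i, 4 ≤ i → π i = i := by
    rcases e2 a ha2 with rfl | rfl <;> rcases e2 b hb2 with rfl | rfl <;>
      rcases e2 c hc2 with rfl | rfl <;> norm_num at hsum
    · refine ⟨id, Function.bijective_id, rfl, fun i => ⟨rfl, rfl, rfl⟩, rfl, rfl, rfl, fun i _ => rfl⟩
    · refine ⟨Equiv.swap 1 2, (Equiv.swap _ _).bijective, by decide, fun i => ?_, rfl, rfl, rfl,
        by decide⟩
      fin_cases i <;> simp [degs, xcol, ycol, Equiv.swap_apply_def]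
    · refine ⟨Equiv.swap 1 3, (Equiv.swap _ _).bijective, by decide, fun i => ?_, rfl, rfl, rfl,
        by decide⟩
      fin_cases i <;> simp [degs, xcol, ycol, Equiv.swap_apply_def]
  obtain ⟨hπc, hπi⟩ := hπc
  refine ⟨f ∘ π, hf.comp hπ, by simp [hπ0, f0], fun i => ?_, fun i => ?_, fun i => ?_, fun i => ?_,
    hC⟩
  · rw [Function.comp_apply, hd, (hπd i).1]
  · rw [Function.comp_apply, hfx, (hπd i).2.1]
  · rw [Function.comp_apply, hfy, (hπd i).2.2]
  · have hz' : ∀ j, (f j : G → ℂ) z = ((![1, a, b, c, -3, 0, 0, 3, 4, -1] j : ℤ) : ℂ) := fun j => by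
      fin_cases j <;>
        simp [f0, trivIrr, ha, hb, hc, h6, h1, h2, hW (f 7), hW (f 8), hW (f 9), u7, u8, u9]
    rw [Function.comp_apply, hz']
    congr 1
    fin_cases i
    · simp [hπ0, zcol]
    · exact hπa
    · exact hπb
    · exact hπc
    all_goals (rw [hπi _ (by decide)]; rfl)

end Cfsg.Agent.Lib.Characters.Order7920
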