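import Cfsg.Agent.Lib.Characters.Order7920.Table

/-!
# Elements of order three in a simple group of order 7920
-/

namespace Cfsg.Agent.Lib.Characters.Order7920

open scoped ComplexConjugate
open Cfsg Cfsg.Agent.Lib.Characters Cfsg.Agent.Lib.SylowCounting

universe u

variable {G : Type u} [Group G] [Finite G]

/-- The column at an element of order three. -/
def vcol : Fin 10 → ℤ := ![1, 1, 1, 1, 0, -2, -2, 2, -1, 1]

/-- The check for a candidate column at an element of order three. -/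
def vcheck (a1 a2 a3 B e1 : ℤ) : Bool :=
  let c := 1 - a1 - a2 - a3 + B
  let e4 := 1 + 2 * c + e1
  let e5 := 1 + 2 * a1 - 2 * a2 - 2 * a3 - 3 * B + 3 * e1 + 4 * e4
  let C := 1 + a1 * a1 + a2 * a2 + a3 * a3 + B * B + 2 * (c * c) + e1 * e1 + e4 * e4 + e5 * e5
  (1 + 10 * (a1 + a2 + a3) + 45 * B + 32 * c + 11 * e1 + 44 * e4 + 55 * e5 != 0) ||
  !([9, 18, 36, 72, 144].contains C) ||
  (let K := 7920 / C
   (K * a1 % 10 != 0) || (K * a2 % 10 != 0) || (K * a3 % 10 != 0) || (K * B % 45 != 0) ||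
   (K * c % 16 != 0) || (K * e1 % 11 != 0) || (K * e4 % 44 != 0) || (K * e5 % 55 != 0)) ||
  (a1 == 1 && a2 == 1 && a3 == 1 && B == 0 && e1 == 2)

/-- All candidates. -/
def vcheckAll : Bool :=
  let L1 : List ℤ := [-11, -8, -5, -2, 1, 4, 7, 10]
  L1.all fun a1 => L1.all fun a2 => L1.all fun a3 =>
    ([-12, -9, -6, -3, 0, 3, 6, 9, 12] : List ℤ).all fun B =>
      decide (144 < 1 + a1 * a1 + a2 * a2 + a3 * a3 + B * B +
        2 * ((1 - a1 - a2 - a3 + B) * (1 - a1 - a2 - a3 + B))) ||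
      ([-10, -7, -4, -1, 2, 5, 8, 11] : List ℤ).all fun e1 => vcheck a1 a2 a3 B e1

theorem vcheckAll_eq : vcheckAll = true := by decide +kernel

theorem not_five_dvd_centralizer [IsSimpleGroup G] (hG : Nat.card G = 7920) {g : G}
    (hg : g ^ 5 ≠ 1) : ¬ 5 ∣ Nat.card (Subgroup.centralizer ({g} : Set G)) := by
  haveI : Fact (Nat.Prime 5) := ⟨by norm_num⟩
  intro h
  obtain ⟨w, hw⟩ := exists_prime_orderOf_dvd_card' 5 h
  have hw' : orderOf (w : G) = 5 := by rw [Subgroup.orderOf_coe, hw]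
  have hC := (five_data hG (fun z hz => five_not_dvd hG hz) hw').2
  have hgw : g ∈ Subgroup.centralizer ({(w : G)} : Set G) :=
    Subgroup.mem_centralizer_singleton_iff.2 (Subgroup.mem_centralizer_singleton_iff.1 w.2).symm
  have := (Subgroup.centralizer ({(w : G)} : Set G)).orderOf_dvd_natCard hgw
  rw [hC] at this
  exact hg (orderOf_dvd_iff_pow_eq_one.1 this)

theorem exists_sq_diff {χ : G → ℂ} (hχ : IsCharacter G χ) {v : G} (hv : orderOf v = 3) :
    ∃ b : ℤ, (χ v - conj (χ v)) * (χ v - conj (χ v)) = ((-3 * b ^ 2 : ℤ) : ℂ) := by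
  haveI : Fact (Nat.Prime 3) := ⟨by norm_num⟩
  obtain ⟨d, hd⟩ := IsCharacter.exists_apply_one hχ
  have h3 : v ^ 3 = 1 := by rw [← hv, pow_orderOf_eq_one]
  have hω := Complex.isPrimitiveRoot_exp 3 (by norm_num)
  obtain ⟨m, -, hval⟩ := exists_mult hχ h3 hω hd
  set ω := Complex.exp (2 * Real.pi * Complex.I / (3 : ℕ))
  refine ⟨(m 1 : ℤ) - m 2, ?_⟩
  have e1 := hval 1
  have e2 := hval 2
  rw [pow_one] at e1
  rw [← IsCharacter.apply_inv hχ,
    show v⁻¹ = v ^ 2 from inv_eq_of_mul_eq_one_right (by rw [← pow_succ', h3]), e1, e2]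
  have hs := hω.geom_sum_eq_zero (by norm_num : 1 < 3)
  simp only [Finset.sum_range_succ, Finset.sum_range_zero] at hs
  have hω3 : ω ^ 3 = 1 := hω.pow_eq_one
  simp only [Fin.sum_univ_three, Fin.val_zero, Fin.val_one, Fin.val_two]
  push_cast
  norm_num
  linear_combination ((m 1 : ℂ) - m 2) ^ 2 * hs + ((m 1 : ℂ) ^ 2 * (ω - 2) +
    (m 1 : ℂ) * m 2 * (2 * ω ^ 3 - 2 * ω ^ 2 - 2 * ω + 4) + (m 2 : ℂ) ^ 2 *
    (ω ^ 5 - 2 * ω ^ 3 + ω ^ 2 + ω - 2)) * hω3

set_option maxHeartbeats 1000000 in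
-- one long proof
theorem three_column [IsSimpleGroup G] (hG : Nat.card G = 7920) {x y z v : G}
    (hx : orderOf x = 11) (hy : orderOf y = 5) (hz : orderOf z = 2) (hv : orderOf v = 3)
    {f : Fin 10 → IrrCharacter G} (hf : Function.Bijective f) (f0 : f 0 = trivIrr G)
    (hd : ∀ i, deg (f i) = degs i) (hfx : ∀ i, (f i : G → ℂ) x = xcol i)
    (hfy : ∀ i, (f i : G → ℂ) y = ycol i) (hfz : ∀ i, (f i : G → ℂ) z = zcol i) :
    (∀ i, (f i : G → ℂ) v = vcol i) ∧
      Nat.card (Subgroup.centralizer ({v} : Set G)) = 18 := by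
  classical
  haveI : Fact (Nat.Prime 3) := ⟨by norm_num⟩
  haveI := Fintype.ofFinite G
  haveI := Fintype.ofFinite (IrrCharacter G)
  let cj : IrrCharacter G → IrrCharacter G := fun χ =>
    ⟨fun g => conj ((χ : G → ℂ) g), IsIrrCharacter.conjugate χ.2⟩
  have cjd : ∀ i j, f j = cj (f i) → degs j = degs i := fun i j h => by
    have h4 : (cj (f i) : G → ℂ) 1 = conj ((f i : G → ℂ) 1) := rfl
    rw [← h, deg_eq, deg_eq, map_natCast, hd, hd] at h4
    exact_mod_cast h4
  have cjz : ∀ i j, f j = cj (f i) → zcol j = zcol i := fun i j h => by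
    have h4 : (cj (f i) : G → ℂ) z = conj ((f i : G → ℂ) z) := rfl
    rw [← h, hfz, hfz, map_intCast] at h4
    exact_mod_cast h4
  have cjv : ∀ i j, f j = cj (f i) → (f j : G → ℂ) v = conj ((f i : G → ℂ) v) := fun i j h => by
    rw [h]
  have hreal : ∀ i, i = 0 ∨ i = 1 ∨ i = 4 ∨ i = 7 ∨ i = 8 ∨ i = 9 →
      conj ((f i : G → ℂ) v) = (f i : G → ℂ) v := fun i hi => by
    obtain ⟨j, hj⟩ := hf.2 (cj (f i))
    have hji : j = i := by
      have h1 := cjd i j hj
      have h2 := cjz i j hj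
      rcases hi with rfl | rfl | rfl | rfl | rfl | rfl <;> revert h1 h2 <;> fin_cases j <;>
        simp [degs, zcol]
    rw [← cjv i j hj, hji]
  -- the pair of degree sixteen is real at `v`
  have h56 : conj ((f 5 : G → ℂ) v) = (f 5 : G → ℂ) v ∧ (f 6 : G → ℂ) v = (f 5 : G → ℂ) v := by
    obtain ⟨j, hj⟩ := hf.2 (cj (f 5))
    have hj6 : j = 6 := by
      have h1 := cjd 5 j hj
      have h2 : (f j : G → ℂ) x = conj ((f 5 : G → ℂ) x) := by rw [hj]
      rw [hfx, hfx] at h2
      simp [xcol, eta_conj] at h2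
      revert h1 h2
      fin_cases j <;> simp [degs, xcol]
      intro h
      exact eta_diff_ne (by rw [eta_conj]; linear_combination h)
    have hxv : ¬ IsConj x v := not_isConj_of_orderOf_ne (by rw [hx, hv]; norm_num)
    have hxv' : ¬ IsConj x⁻¹ v := not_isConj_of_orderOf_ne (by rw [orderOf_inv, hx, hv]; norm_num)
    have e1 := sum_irr_mul_conj x v
    have e2 := sum_irr_mul_conj x⁻¹ v
    rw [if_neg hxv, sum_table hf] at e1
    rw [if_neg hxv', sum_table hf] at e2
    simp only [IsCharacter.apply_inv (irr_isCharacter _), hfx] at e2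
    simp only [hfx] at e1
    simp [xcol, eta_conj] at e1 e2
    have h' : (eta - conj eta) * (conj ((f 5 : G → ℂ) v) - conj ((f 6 : G → ℂ) v)) = 0 := by
      rw [eta_conj]; linear_combination e1 - e2
    have h6 := (mul_eq_zero.1 h').resolve_left eta_diff_ne
    rw [sub_eq_zero] at h6
    have h65 : (f 6 : G → ℂ) v = (f 5 : G → ℂ) v := by
      simpa using (congrArg conj h6).symm
    exact ⟨by rw [← cjv 5 j hj, hj6, h65], h65⟩
  set C := Nat.card (Subgroup.centralizer ({v} : Set G)) with hCdef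
  have hC9 : 9 ∣ C := nine_dvd_centralizer hG hv
  have hC144 : C ∣ 144 := by
    have hC : C ∣ 7920 := hG ▸ Subgroup.card_subgroup_dvd_card _
    have h5 : ¬ 5 ∣ C := not_five_dvd_centralizer hG fun h => by
      have := orderOf_dvd_of_pow_eq_one h; rw [hv] at this; norm_num at this
    have h11 : ¬ 11 ∣ C := not_eleven_dvd_centralizer hG fun h => by
      have := orderOf_dvd_of_pow_eq_one h; rw [hv] at this; norm_num at this
    have c55 : Nat.Coprime C 55 := by
      rw [show 55 = 5 * 11 from rfl, Nat.coprime_mul_iff_right]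
      exact ⟨((Nat.Prime.coprime_iff_not_dvd (by norm_num)).2 h5).symm,
        ((Nat.Prime.coprime_iff_not_dvd (by norm_num)).2 h11).symm⟩
    exact c55.dvd_of_dvd_mul_right (by simpa using hC)
  -- `v` is conjugate to its inverse
  have hconj : IsConj v v⁻¹ := by
    rw [isConj_iff_forall_irr]
    have key : conj ((f 2 : G → ℂ) v) = (f 2 : G → ℂ) v ∧
        conj ((f 3 : G → ℂ) v) = (f 3 : G → ℂ) v := by
      obtain ⟨j, hj⟩ := hf.2 (cj (f 2))
      obtain ⟨k, hk⟩ := hf.2 (cj (f 3))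
      have hj' : j = 2 ∨ j = 3 := by
        have h1 := cjd 2 j hj
        have h2 := cjz 2 j hj
        revert h1 h2; fin_cases j <;> simp [degs, zcol]
      have hk' : k = 2 ∨ k = 3 := by
        have h1 := cjd 3 k hk
        have h2 := cjz 3 k hk
        revert h1 h2; fin_cases k <;> simp [degs, zcol]
      have e2 := cjv 2 j hj
      have e3 := cjv 3 k hk
      rcases hj' with rfl | rfl
      · rcases hk' with rfl | rfl
        · exfalso
          have : cj (f 2) = cj (f 3) := hj.symm.trans hk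
          have h' : f 2 = f 3 := by
            apply Subtype.ext
            funext g
            exact (starRingEnd ℂ).injective (congrFun (congrArg Subtype.val this) g)
          exact absurd (hf.1 h') (by decide)
        · exact ⟨e2.symm, e3.symm⟩
      · -- a complex conjugate pair of degree ten
        by_contra hne
        set α := (f 2 : G → ℂ) v with hα
        have h1 := sum_irr_mul_conj v v
        rw [if_pos (IsConj.refl v), sum_table hf] at h1
        simp only [hreal 0 (by decide), hreal 1 (by decide), hreal 4 (by decide),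
          hreal 7 (by decide), hreal 8 (by decide), hreal 9 (by decide), h56.1, h56.2, e2,
          ← hα, Complex.conj_conj] at h1
        by_cases hc : IsConj v v⁻¹
        · apply hne
          have := IsClassFunction.eq_of_isConj (irr_isClassFunction (f 2)) hc
          rw [IsCharacter.apply_inv (irr_isCharacter _), ← hα] at this
          exact ⟨this.symm, by rw [e2, Complex.conj_conj]; exact this⟩
        · have h2 := sum_irr_mul_conj v v⁻¹
          rw [if_neg hc, sum_table hf] at h2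
          simp only [IsCharacter.apply_inv (irr_isCharacter _), Complex.conj_conj, h56.2, e2,
            ← hα] at h2
          obtain ⟨b, hb⟩ := exists_sq_diff (irr_isCharacter (f 2)) hv
          rw [← hα] at hb
          have h3 : ((C : ℤ) : ℂ) = ((3 * b ^ 2 : ℤ) : ℂ) := by
            push_cast at hb ⊢
            rw [hCdef]
            linear_combination -h1 + h2 - hb
          have h4 := (Int.cast_injective h3 : (C : ℤ) = 3 * b ^ 2)
          have hC' : (C : ℤ) ≤ 144 := by exact_mod_cast Nat.le_of_dvd (by norm_num) hC144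
          have hb' : -6 ≤ b ∧ b ≤ 6 := by constructor <;> nlinarith
          obtain ⟨l, r⟩ := hb'
          have hb2 : (C : ℤ) ∣ 144 := by exact_mod_cast hC144
          rw [h4] at hb2
          have h9 : (9 : ℤ) ∣ 3 * b ^ 2 := by rw [← h4]; exact_mod_cast hC9
          interval_cases b <;> revert hb2 h9 <;> decide
    intro χ
    obtain ⟨i, rfl⟩ := hf.2 χ
    rw [IsCharacter.apply_inv (irr_isCharacter _)]
    symm
    fin_cases i
    · exact hreal 0 (by decide)
    · exact hreal 1 (by decide)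
    · exact key.1
    · exact key.2
    · exact hreal 4 (by decide)
    · exact h56.1
    · show conj ((f 6 : G → ℂ) v) = (f 6 : G → ℂ) v
      rw [h56.2, h56.1]
    · exact hreal 7 (by decide)
    · exact hreal 8 (by decide)
    · exact hreal 9 (by decide)
  have h3 : v ^ 3 = 1 := by rw [← hv, pow_orderOf_eq_one]
  have hint : ∀ i, ∃ a : ℤ, (f i : G → ℂ) v = a ∧ (3 : ℤ) ∣ a - degs i := fun i => by
    rw [← hd i]
    refine rational_value (irr_isCharacter _) h3 (fun k hk0 hk => ?_) (deg_eq _)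
    interval_cases k
    · rw [pow_one]
    · rw [show v ^ 2 = v⁻¹ from (inv_eq_of_mul_eq_one_right (by rw [← pow_succ', h3])).symm]
      exact (IsClassFunction.eq_of_isConj (irr_isClassFunction _) hconj).symm
  choose V hV hc using hint
  have hV0 : V 0 = 1 := by
    have h : (1 : ℂ) = (V 0 : ℂ) := by rw [← hV 0, f0]; rfl
    exact_mod_cast h.symm
  have hV6 : V 6 = V 5 := by
    have h := h56.2; rw [hV, hV] at h; exact_mod_cast h
  have ex : 1 - V 1 - V 2 - V 3 + V 4 - V 5 = 0 := by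
    have h := sum_irr_mul_conj x v
    rw [if_neg (not_isConj_of_orderOf_ne (by rw [hx, hv]; norm_num)), sum_table hf] at h
    simp only [hfx, hV, map_intCast] at h
    simp [xcol, hV0, hV6] at h
    have h' : ((1 - V 1 - V 2 - V 3 + V 4 - V 5 : ℤ) : ℂ) = 0 := by
      push_cast; linear_combination h
    exact_mod_cast h'
  have ey : 1 + 2 * V 5 + V 7 - V 8 = 0 := by
    have h := sum_irr_mul_conj y v
    rw [if_neg (not_isConj_of_orderOf_ne (by rw [hy, hv]; norm_num)), sum_table hf] at h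
    simp only [hfy, hV, map_intCast] at h
    simp [ycol, hV0, hV6] at h
    have h' : ((1 + 2 * V 5 + V 7 - V 8 : ℤ) : ℂ) = 0 := by push_cast; linear_combination h
    exact_mod_cast h'
  have ez : 1 + 2 * V 1 - 2 * V 2 - 2 * V 3 - 3 * V 4 + 3 * V 7 + 4 * V 8 - V 9 = 0 := by
    have h := sum_irr_mul_conj z v
    rw [if_neg (not_isConj_of_orderOf_ne (by rw [hz, hv]; norm_num)), sum_table hf] at h
    simp only [hfz, hV, map_intCast] at h
    simp [zcol, hV0, hV6] at h
    have h' : ((1 + 2 * V 1 - 2 * V 2 - 2 * V 3 - 3 * V 4 + 3 * V 7 + 4 * V 8 - V 9 : ℤ) : ℂ) = 0 := by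
      push_cast; linear_combination h
    exact_mod_cast h'
  have er : 1 + 10 * (V 1 + V 2 + V 3) + 45 * V 4 + 32 * V 5 + 11 * V 7 + 44 * V 8 + 55 * V 9
      = 0 := by
    have h := sum_degree_mul (G := G) v
    rw [if_neg (fun h => by rw [h, orderOf_one] at hv; norm_num at hv), sum_table hf] at h
    simp only [deg_eq, hd, hV] at h
    simp [degs, hV0, hV6] at h
    have h' : ((1 + 10 * (V 1 + V 2 + V 3) + 45 * V 4 + 32 * V 5 + 11 * V 7 + 44 * V 8 +
        55 * V 9 : ℤ) : ℂ) = 0 := by push_cast; linear_combination h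
    exact_mod_cast h'
  have eC : (C : ℤ) = 1 + V 1 * V 1 + V 2 * V 2 + V 3 * V 3 + V 4 * V 4 + 2 * (V 5 * V 5) +
      V 7 * V 7 + V 8 * V 8 + V 9 * V 9 := by
    have h := sum_irr_mul_conj v v
    rw [if_pos (IsConj.refl v), sum_table hf] at h
    simp only [hV, map_intCast, hV0, hV6] at h
    have h' : ((C : ℤ) : ℂ) = ((1 + V 1 * V 1 + V 2 * V 2 + V 3 * V 3 + V 4 * V 4 +
        2 * (V 5 * V 5) + V 7 * V 7 + V 8 * V 8 + V 9 * V 9 : ℤ) : ℂ) := by
      push_cast at h ⊢; rw [hCdef]; linear_combination -h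
    exact Int.cast_injective h'
  have hC' : (C : ℤ) ≤ 144 := by exact_mod_cast Nat.le_of_dvd (by norm_num) hC144
  have q1 := mul_self_nonneg (V 1)
  have q2 := mul_self_nonneg (V 2)
  have q3 := mul_self_nonneg (V 3)
  have q4 := mul_self_nonneg (V 4)
  have q5 := mul_self_nonneg (V 5)
  have q7 := mul_self_nonneg (V 7)
  have q8 := mul_self_nonneg (V 8)
  have q9 := mul_self_nonneg (V 9)
  have small : ∀ n : ℤ, n * n ≤ 143 → -11 ≤ n ∧ n ≤ 11 := fun n h => by constructor <;> nlinarith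
  have c1 := hc 1
  have c2 := hc 2
  have c3 := hc 3
  have c4 := hc 4
  have c7 := hc 7
  simp [degs] at c1 c2 c3 c4 c7
  have b1 := small (V 1) (by linarith)
  have b2 := small (V 2) (by linarith)
  have b3 := small (V 3) (by linarith)
  have b4 := small (V 4) (by linarith)
  have b7 := small (V 7) (by linarith)
  have key := vcheckAll_eq
  simp only [vcheckAll, List.all_eq_true] at key
  have k1 := key (V 1) (by simp; omega) (V 2) (by simp; omega) (V 3) (by simp; omega) (V 4)
    (by simp; omega)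
  have e5' : 1 - V 1 - V 2 - V 3 + V 4 = V 5 := by linarith
  rw [e5'] at k1
  simp only [Bool.or_eq_true, decide_eq_true_eq, List.all_eq_true] at k1
  rcases k1 with k1 | k1
  · exfalso; linarith
  have k2 := k1 (V 7) (by simp; omega)
  simp only [vcheck] at k2
  rw [e5', show 1 + 2 * V 5 + V 7 = V 8 by linarith,
    show 1 + 2 * V 1 - 2 * V 2 - 2 * V 3 - 3 * V 4 + 3 * V 7 + 4 * V 8 = V 9 by linarith, ← eC] at k2
  simp only [er, bne_self_eq_false, Bool.false_or] at k2
  have hmem : [9, 18, 36, 72, 144].contains (C : ℤ) = true := by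
    have hCle : C ≤ 144 := Nat.le_of_dvd (by norm_num) hC144
    obtain ⟨q, hq⟩ := hC9
    have hq16 : q ∣ 16 := by
      rw [hq] at hC144
      exact (Nat.mul_dvd_mul_iff_left (by norm_num)).1 (show 9 * q ∣ 9 * 16 from hC144)
    have hqle : q ≤ 16 := Nat.le_of_dvd (by norm_num) hq16
    rw [hq]
    interval_cases q <;> revert hq16 <;> decide
  simp only [hmem, Bool.not_true, Bool.false_or, Bool.or_eq_true, Bool.and_eq_true,
    bne_iff_ne, ne_eq, beq_iff_eq] at k2
  have hK : (Nat.card {g : G // IsConj v g} : ℤ) = 7920 / (C : ℤ) := by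
    have h := card_conj_mul_card_centralizer v
    rw [hG, ← hCdef] at h
    have h' : (Nat.card {g : G // IsConj v g} : ℤ) * C = 7920 := by exact_mod_cast h
    rw [← h', Int.mul_ediv_cancel]
    have : 0 < C := Nat.card_pos
    omega
  have hdiv : ∀ i, ((degs i : ℕ) : ℤ) ∣ 7920 / (C : ℤ) * V i := fun i => by
    rw [← hK]
    exact class_dvd (f i).2 (by rw [deg_eq, hd]) (by fin_cases i <;> simp [degs]) rfl (hV i)
  have d1 : (10 : ℤ) ∣ 7920 / (C : ℤ) * V 1 := by simpa [degs] using hdiv 1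
  have d2 : (10 : ℤ) ∣ 7920 / (C : ℤ) * V 2 := by simpa [degs] using hdiv 2
  have d3 : (10 : ℤ) ∣ 7920 / (C : ℤ) * V 3 := by simpa [degs] using hdiv 3
  have d4 : (45 : ℤ) ∣ 7920 / (C : ℤ) * V 4 := by simpa [degs] using hdiv 4
  have d5 : (16 : ℤ) ∣ 7920 / (C : ℤ) * V 5 := by simpa [degs] using hdiv 5
  have d7 : (11 : ℤ) ∣ 7920 / (C : ℤ) * V 7 := by simpa [degs] using hdiv 7
  have d8 : (44 : ℤ) ∣ 7920 / (C : ℤ) * V 8 := by simpa [degs] using hdiv 8
  have d9 : (55 : ℤ) ∣ 7920 / (C : ℤ) * V 9 := by simpa [degs] using hdiv 9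
  simp only [Int.emod_eq_zero_of_dvd d1, Int.emod_eq_zero_of_dvd d2, Int.emod_eq_zero_of_dvd d3,
    Int.emod_eq_zero_of_dvd d4, Int.emod_eq_zero_of_dvd d5, Int.emod_eq_zero_of_dvd d7,
    Int.emod_eq_zero_of_dvd d8, Int.emod_eq_zero_of_dvd d9, not_true, false_or] at k2
  obtain ⟨⟨⟨⟨u1, u2⟩, u3⟩, u4⟩, u7⟩ := k2
  have u5 : V 5 = -2 := by linarith
  have u8 : V 8 = -1 := by linarith
  have u9 : V 9 = 1 := by linarith
  refine ⟨fun i => ?_, ?_⟩
  · rw [hV]
    fin_cases i <;> simp [vcol, hV0, hV6, u1, u2, u3, u4, u5, u7, u8, u9]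
  · rw [u1, u2, u3, u4, u5, u7, u8, u9] at eC
    norm_num at eC
    exact_mod_cast eC

/-- Centralisers of elements of order three, and their conjugacy. -/
theorem order_three [IsSimpleGroup G] (hG : Nat.card G = 7920) {v : G} (hv : orderOf v = 3) :
    Nat.card (Subgroup.centralizer ({v} : Set G)) = 18 ∧
      ∀ w : G, orderOf w = 3 → IsConj v w := by
  haveI : Fact (Nat.Prime 11) := ⟨by norm_num⟩
  haveI : Fact (Nat.Prime 5) := ⟨by norm_num⟩
  haveI : Fact (Nat.Prime 2) := ⟨by norm_num⟩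
  obtain ⟨x, hx⟩ := exists_prime_orderOf_dvd_card' 11 (G := G) (by rw [hG]; norm_num)
  obtain ⟨y, hy⟩ := exists_prime_orderOf_dvd_card' 5 (G := G) (by rw [hG]; norm_num)
  obtain ⟨z, hz⟩ := exists_prime_orderOf_dvd_card' 2 (G := G) (by rw [hG]; norm_num)
  obtain ⟨f, hf, f0, hd, hfx, hfy, hfz, -⟩ := exists_table_involution hG hx hy hz
  obtain ⟨hv1, hv2⟩ := three_column hG hx hy hz hv hf f0 hd hfx hfy hfz
  refine ⟨hv2, fun w hw => ?_⟩
  obtain ⟨hw1, -⟩ := three_column hG hx hy hz hw hf f0 hd hfx hfy hfz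
  rw [isConj_iff_forall_irr]
  intro χ
  obtain ⟨i, rfl⟩ := hf.2 χ
  rw [hv1, hw1]

theorem card_sylow_three [IsSimpleGroup G] (hG : Nat.card G = 7920) :
    Nat.card (Sylow 3 G) = 55 := by
  classical
  haveI : Fact (Nat.Prime 3) := ⟨by norm_num⟩
  haveI : Fact (Nat.Prime 2) := ⟨by norm_num⟩
  have hP9 : ∀ P : Sylow 3 G, Nat.card (P : Subgroup G) = 3 ^ 2 := fun P =>
    sylow_card (k := 2) (m := 880) (by rw [hG]; norm_num) (by norm_num) P
  have hcomm : ∀ (P : Sylow 3 G), ∀ a ∈ (P : Subgroup G), ∀ b ∈ (P : Subgroup G), a * b = b * a :=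
    fun P a ha b hb => congrArg Subtype.val
      ((IsPGroup.commutative_of_card_eq_prime_sq (hP9 P)) ⟨a, ha⟩ ⟨b, hb⟩)
  have hle : ∀ (P : Sylow 3 G) (g : G), g ∈ (P : Subgroup G) →
      (P : Subgroup G) ≤ Subgroup.centralizer ({g} : Set G) := fun P g hg a ha =>
    Subgroup.mem_centralizer_singleton_iff.2 (hcomm P a ha g hg)
  have hidx : ∀ (P : Sylow 3 G) (g : G), orderOf g = 3 → g ∈ (P : Subgroup G) →
      ((P : Subgroup G).subgroupOf (Subgroup.centralizer ({g} : Set G))).index = 2 := by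
    intro P g hg hgP
    have h := ((P : Subgroup G).subgroupOf (Subgroup.centralizer ({g} : Set G))).index_mul_card
    rw [Nat.card_congr (Subgroup.subgroupOfEquivOfLe (hle P g hgP)).toEquiv, hP9 P,
      (order_three hG hg).1] at h
    omega
  have hpow9 : ∀ (P : Sylow 3 G) (a : G), a ∈ (P : Subgroup G) → a ^ 9 = 1 := fun P a ha => by
    have h := (P : Subgroup G).orderOf_dvd_natCard ha
    rw [hP9 P] at h
    exact orderOf_dvd_iff_pow_eq_one.1 h
  have huniq : ∀ (P Q : Sylow 3 G) (g : G), orderOf g = 3 → g ∈ (P : Subgroup G) →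
      g ∈ (Q : Subgroup G) → Q = P := by
    intro P Q g hg hgP hgQ
    apply Sylow.ext
    refine Subgroup.eq_of_le_of_card_ge ?_ (by rw [hP9 P, hP9 Q])
    intro a ha
    have h := Subgroup.mul_self_mem_of_index_two (hidx P g hg hgP) ⟨a, hle Q g hgQ ha⟩
    rw [Subgroup.mem_subgroupOf] at h
    have h' := (P : Subgroup G).pow_mem h 5
    have h9 := hpow9 Q a ha
    have : (a * a) ^ 5 = a := by
      rw [← sq, ← pow_mul, show 2 * 5 = 9 + 1 from rfl, pow_succ, h9, one_mul]
    rwa [show (((⟨a, hle Q g hgQ ha⟩ * ⟨a, hle Q g hgQ ha⟩ :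
      Subgroup.centralizer ({g} : Set G)) : G)) = a * a from rfl, this] at h'
  -- every Sylow subgroup is elementary
  have hexp : ∀ (P : Sylow 3 G) (g : G), g ∈ (P : Subgroup G) → g ≠ 1 → orderOf g = 3 := by
    intro P g hg hg1
    have hd : orderOf g ∣ 3 ^ 2 := hP9 P ▸ (P : Subgroup G).orderOf_dvd_natCard hg
    obtain ⟨k, hk, hgk⟩ := (Nat.dvd_prime_pow (by norm_num)).1 hd
    interval_cases k
    · exact absurd (orderOf_eq_one_iff.1 (by simpa using hgk)) hg1
    · simpa using hgk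
    exfalso
    norm_num at hgk
    set v := g ^ 3 with hvdef
    have hv : orderOf v = 3 := by rw [hvdef, orderOf_pow' g (by norm_num), hgk]; rfl
    have hC := (order_three hG hv).1
    obtain ⟨z, hz⟩ := exists_prime_orderOf_dvd_card' 2
      (G := Subgroup.centralizer ({v} : Set G)) (by rw [hC]; norm_num)
    have hz' : orderOf (z : G) = 2 := by rw [Subgroup.orderOf_coe, hz]
    have hgz : (P : Subgroup G) = Subgroup.zpowers g :=
      (Subgroup.eq_of_le_of_card_ge (Subgroup.zpowers_le.2 hg)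
        (by rw [Nat.card_zpowers, hgk, hP9 P]; norm_num)).symm
    have hvP : v ∈ (P : Subgroup G) := (P : Subgroup G).pow_mem hg 3
    haveI hn := Subgroup.normal_of_index_eq_two (hidx P v hv hvP)
    have hconjP : (z : G) * g * (z : G)⁻¹ ∈ (P : Subgroup G) := by
      have h := hn.conj_mem ⟨g, hle P v hvP hg⟩ (Subgroup.mem_subgroupOf.2 hg) z
      rw [Subgroup.mem_subgroupOf] at h
      exact h
    rw [hgz, ← mem_powers_iff_mem_zpowers, Submonoid.mem_powers_iff] at hconjP
    obtain ⟨m, hm⟩ := hconjP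
    have hzv : (z : G) * v * (z : G)⁻¹ = v := by
      rw [mul_inv_eq_iff_eq_mul]; exact Subgroup.mem_centralizer_singleton_iff.1 z.2
    have h3m : 3 * m ≡ 3 [MOD 9] := by
      rw [← hgk, ← pow_eq_pow_iff_modEq, mul_comm, pow_mul, hm, conj_pow, ← hvdef, hzv]
    have h2m : m * m ≡ 1 [MOD 9] := by
      rw [← hgk, ← pow_eq_pow_iff_modEq, pow_one, pow_mul, hm, conj_pow, hm]
      have h2 : (z : G) * (z : G) = 1 := by rw [← sq, ← hz', pow_orderOf_eq_one]
      have hi : (z : G)⁻¹ = z := inv_eq_of_mul_eq_one_right h2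
      rw [hi, show (z : G) * ((z : G) * g * z) * z = ((z : G) * z) * g * (z * z) by group, h2,
        one_mul, mul_one]
    have hm9 : g ^ m = g := by
      conv_rhs => rw [← pow_one g]
      rw [pow_eq_pow_iff_modEq, hgk]
      unfold Nat.ModEq at h3m h2m ⊢
      have := Nat.mod_lt m (by norm_num : 0 < 9)
      rw [Nat.mul_mod] at h2m h3m
      interval_cases hr : m % 9 <;> revert h2m h3m <;> decide
    rw [hm, mul_inv_eq_iff_eq_mul] at hm9
    have hgC : g ∈ Subgroup.centralizer ({(z : G)} : Set G) :=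
      Subgroup.mem_centralizer_singleton_iff.2 hm9.symm
    haveI : Fact (Nat.Prime 11) := ⟨by norm_num⟩
    haveI : Fact (Nat.Prime 5) := ⟨by norm_num⟩
    obtain ⟨x, hx⟩ := exists_prime_orderOf_dvd_card' 11 (G := G) (by rw [hG]; norm_num)
    obtain ⟨y, hy⟩ := exists_prime_orderOf_dvd_card' 5 (G := G) (by rw [hG]; norm_num)
    obtain ⟨f, -, -, -, -, -, -, h48⟩ := exists_table_involution hG hx hy hz'
    have := (Subgroup.centralizer ({(z : G)} : Set G)).orderOf_dvd_natCard hgC
    rw [hgk, h48] at this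
    norm_num at this
  obtain ⟨v, hv⟩ := exists_prime_orderOf_dvd_card' 3 (G := G) (by rw [hG]; norm_num)
  have hK : Nat.card {g : G // orderOf g = 3} = 440 := by
    obtain ⟨hC, hconj⟩ := order_three hG hv
    have h := card_conj_mul_card_centralizer v
    rw [hC, hG] at h
    rw [Nat.card_congr (Equiv.subtypeEquivRight fun g =>
      (⟨hconj g, fun hc => ?_⟩ : orderOf g = 3 ↔ IsConj v g))]
    · omega
    · by_contra hne
      exact not_isConj_of_orderOf_ne (by rw [hv]; exact fun h => hne h.symm) hc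
  have hall : ∀ g : G, orderOf g = 3 → ∃ P : Sylow 3 G, g ∈ (P : Subgroup G) := fun g hg => by
    obtain ⟨P, hP⟩ := (IsPGroup.of_card (n := 1) (by rw [Nat.card_zpowers, hg, pow_one]) :
      IsPGroup 3 (Subgroup.zpowers g)).exists_le_sylow
    exact ⟨P, hP (Subgroup.mem_zpowers g)⟩
  let φ : (Σ P : Sylow 3 G, {g : (P : Subgroup G) // g ≠ 1}) → {g : G // orderOf g = 3} := fun s =>
    ⟨((s.2 : (s.1 : Subgroup G)) : G), hexp s.1 _ (s.2 : (s.1 : Subgroup G)).2
      fun h => s.2.2 (Subtype.ext h)⟩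
  have hφ : Function.Bijective φ := by
    refine ⟨?_, fun g => ?_⟩
    · rintro ⟨P, a, ha⟩ ⟨Q, b, hb⟩ h
      have h' : (a : G) = (b : G) := congrArg Subtype.val h
      have hord : orderOf (a : G) = 3 := hexp P _ a.2 fun e => ha (Subtype.ext e)
      obtain rfl := huniq P Q (a : G) hord a.2 (h' ▸ b.2)
      obtain rfl : a = b := Subtype.ext h'
      rfl
    · obtain ⟨P, hP⟩ := hall g g.2
      refine ⟨⟨P, ⟨(g : G), hP⟩, fun h => ?_⟩, rfl⟩
      have h1 : (g : G) = 1 := congrArg Subtype.val h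
      have := g.2
      rw [h1, orderOf_one] at this
      norm_num at this
  haveI : Fintype (Sylow 3 G) := Fintype.ofFinite _
  have h := Nat.card_congr (Equiv.ofBijective φ hφ)
  rw [hK, Nat.card_sigma, Finset.sum_congr rfl (fun P _ => (?_ : _ = 8)), Finset.sum_const,
    Finset.card_univ, ← Nat.card_eq_fintype_card, smul_eq_mul] at h
  · omega
  · haveI : Fintype (P : Subgroup G) := Fintype.ofFinite _
    rw [Nat.card_eq_fintype_card, Fintype.card_subtype_compl, Fintype.card_subtype_eq,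
      ← Nat.card_eq_fintype_card, hP9 P]
    norm_num

end Cfsg.Agent.Lib.Characters.Order7920
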