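import Cfsg.Agent.Lib.Characters.Order7920.Rank
import Mathlib.LinearAlgebra.Trace
import Mathlib.LinearAlgebra.Matrix.ToLin
import Mathlib.LinearAlgebra.Projection
import Mathlib.Combinatorics.Enumerative.DoubleCounting

/-!
# The 55 Sylow 3-subgroups form a triangular graph
-/

namespace Cfsg.Agent.Lib.Characters.Order7920

open Cfsg

universe u

/-- Idempotent real matrices have natural trace, at most the size. -/
theorem exists_trace_nat {n : Type*} [Fintype n] [DecidableEq n] {E : Matrix n n ℝ}
    (hE : E * E = E) : ∃ m : ℕ, m ≤ Fintype.card n ∧ E.trace = (m : ℝ) := by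
  have hp : IsIdempotentElem (Matrix.toLin' E) := by
    rw [IsIdempotentElem, Module.End.mul_eq_comp, ← Matrix.toLin'_mul, hE]
  refine ⟨Module.finrank ℝ (LinearMap.range (Matrix.toLin' E)), ?_, ?_⟩
  · rw [← Module.finrank_fintype_fun_eq_card ℝ (η := n)]
    exact Submodule.finrank_le _
  · rw [← Matrix.trace_toLin'_eq]
    exact (LinearMap.IsIdempotentElem.isProj_range _ hp).trace

theorem parameter_check : ∀ mu : Fin 9, ∀ m : Fin 56,
    ((m : ℤ) - 27) ^ 2 * ((17 - 3 * (mu : ℤ)) ^ 2 + 4 * (18 - (mu : ℤ))) =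
      (27 * (17 - 3 * (mu : ℤ)) + 18) ^ 2 → mu = 4 := by
  decide +kernel

/-- The parameters of the graph from the trace of a spectral projection. -/
theorem parameters {n : Type*} [Fintype n] [DecidableEq n] (hn : Fintype.card n = 55)
    (A : Matrix n n ℝ) (lam mu : ℕ) (hlm : lam + 2 * mu = 17)
    (hdiag : ∀ a, A a a = 0) (hrow : ∀ a, ∑ b, A a b = 18) (hcol : ∀ b, ∑ a, A a b = 18)
    (hsq : ∀ a b, (A * A) a b = (18 - (mu : ℝ)) * (if a = b then 1 else 0) +
      ((lam : ℝ) - mu) * A a b + mu) :
    mu = 4 := by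
  have hmu : mu ≤ 8 := by omega
  set c : ℝ := (lam : ℝ) - mu with hc
  set D : ℝ := c ^ 2 + 4 * (18 - (mu : ℝ)) with hD
  have hlm' : (lam : ℝ) = 17 - 2 * mu := by
    have h : ((lam + 2 * mu : ℕ) : ℝ) = 17 := by rw [hlm]; norm_num
    push_cast at h; linarith
  have hD0 : 0 < D := by
    have : (mu : ℝ) ≤ 8 := by exact_mod_cast hmu
    nlinarith
  set q := Real.sqrt D with hq
  have hq0 : q ≠ 0 := (Real.sqrt_pos.2 hD0).ne'
  have hqq : q * q = D := Real.mul_self_sqrt hD0.le
  set s : ℝ := (c - q) / 2 with hs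
  set k : ℝ := (18 - s) / 55 with hk
  let E : Matrix n n ℝ := Matrix.of fun a b =>
    q⁻¹ * (A a b - s * (if a = b then 1 else 0) - k)
  have hEE : E * E = E := by
    ext a b
    rw [Matrix.mul_apply]
    simp only [E, Matrix.of_apply]
    have e : ∀ j, q⁻¹ * (A a j - s * (if a = j then 1 else 0) - k) *
        (q⁻¹ * (A j b - s * (if j = b then 1 else 0) - k)) = q⁻¹ * q⁻¹ *
        (A a j * A j b - s * (if j = b then A a j else 0) - s * (if a = j then A j b else 0) +
          s * s * (if a = j then (if j = b then (1 : ℝ) else 0) else 0) - k * A a j - k * A j b +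
          k * s * (if a = j then (1 : ℝ) else 0) + k * s * (if j = b then (1 : ℝ) else 0) + k * k) := by
      intro j; split_ifs <;> ring
    rw [Finset.sum_congr rfl fun j _ => e j, ← Finset.mul_sum]
    simp only [Finset.sum_add_distrib, Finset.sum_sub_distrib, ← Finset.mul_sum, Finset.sum_ite_eq,
      Finset.sum_ite_eq', Finset.mem_univ, if_true, hrow, hcol, Finset.sum_const,
      Finset.card_univ, hn, nsmul_eq_mul]
    rw [← Matrix.mul_apply, hsq]
    have hqs : q = c - 2 * s := by rw [hs]; ring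
    have key : (mu : ℝ) - 36 * k + 2 * k * s + 55 * (k * k) + q * k = 0 := by
      rw [hk, hs]
      field_simp
      linear_combination hqq + (72 : ℝ) * hlm'
    field_simp
    split_ifs with h
    · push_cast
      linear_combination key - (A a b) * hqs + hqq * (-1 / 4 : ℝ)
    · push_cast
      linear_combination key - (A a b) * hqs
  obtain ⟨m, hm, htr⟩ := exists_trace_nat hEE
  rw [hn] at hm
  have htr' : (m : ℝ) * q = 55 * (-s - k) := by
    rw [← htr, Matrix.trace]
    simp only [Matrix.diag_apply, E, Matrix.of_apply, hdiag, if_true, Finset.sum_const,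
      Finset.card_univ, hn, nsmul_eq_mul]
    push_cast
    field_simp
    ring
  have h27 : ((m : ℝ) - 27) * q = -(27 * c + 18) := by
    rw [hk, hs] at htr'
    linear_combination htr'
  have hfin : ((m : ℤ) - 27) ^ 2 * ((17 - 3 * (mu : ℤ)) ^ 2 + 4 * (18 - (mu : ℤ))) =
      (27 * (17 - 3 * (mu : ℤ)) + 18) ^ 2 := by
    have hc' : c = 17 - 3 * (mu : ℝ) := by rw [hc, hlm']; ring
    have h2 : ((m : ℝ) - 27) ^ 2 * D = (27 * c + 18) ^ 2 := by
      rw [← hqq]
      linear_combination (((m : ℝ) - 27) * q - (27 * c + 18)) * h27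
    rw [hD, hc'] at h2
    exact_mod_cast h2
  have h := parameter_check ⟨mu, by omega⟩ ⟨m, by omega⟩ hfin
  exact congrArg Fin.val h

/-- A mask of a Boolean function on nine points. -/
def mask (f : Fin 9 → Bool) : ℕ :=
  (List.finRange 9).foldl (fun acc i => if f i then acc + 2 ^ (i : ℕ) else acc) 0

theorem mask_spec : ∀ f : Fin 9 → Bool, mask f < 512 ∧ ∀ i : Fin 9, (mask f).testBit i = f i := by
  decide +kernel

/-- The difference of two points of the affine plane of order three, coded in `Fin 9`. -/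
def sub9 (a b : Fin 9) : Fin 9 :=
  ⟨3 * ((a.val / 3 + 3 - b.val / 3) % 3) + (a.val % 3 + 3 - b.val % 3) % 3, by omega⟩

/-- The number of common points of a mask and its translate. -/
def overlap (s : ℕ) (d : Fin 9) : ℕ :=
  (List.finRange 9).countP fun e : Fin 9 => s.testBit e.val && s.testBit (sub9 e d).val

/-- The number of points of a mask. -/
def size9 (s : ℕ) : ℕ := (List.finRange 9).countP fun e : Fin 9 => s.testBit e.val

/-- Symmetric connection sets without the origin. -/
def sym9 (s : ℕ) : Bool :=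
  !s.testBit 0 && (List.finRange 9).all fun d : Fin 9 => s.testBit d.val == s.testBit (sub9 0 d).val

/-- Every pair of connection sets allowed by the parameters is the complete one. -/
def cayleyCheck : Bool :=
  (List.range 512).all fun s => !sym9 s || (List.range 512).all fun t =>
    size9 s + size9 t != 9 || s == 510 ||
      (List.finRange 9).any fun d : Fin 9 =>
        d != 0 && !s.testBit d.val && decide (3 < overlap s d + overlap t d)

theorem cayleyCheck_eq : cayleyCheck = true := by decide +kernel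

theorem cayley {S T : Fin 9 → Bool} (h0 : S 0 = false) (hsym : ∀ d, S d = S (sub9 0 d))
    (hsize : (Finset.univ.filter fun e => S e = true).card +
      (Finset.univ.filter fun e => T e = true).card = 9)
    (hov : ∀ d, d ≠ 0 → S d = false →
      (Finset.univ.filter fun e => S e = true ∧ S (sub9 e d) = true).card +
        (Finset.univ.filter fun e => T e = true ∧ T (sub9 e d) = true).card ≤ 3) :
    ∀ d, d ≠ 0 → S d = true := by
  obtain ⟨hs, hS⟩ := mask_spec S
  obtain ⟨ht, hT⟩ := mask_spec T
  have hcount : ∀ p : Fin 9 → Bool, (List.finRange 9).countP p =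
      (Finset.univ.filter fun e => p e = true).card := fun p => by
    rw [List.countP_eq_length_filter,
      ← List.toFinset_card_of_nodup ((List.nodup_finRange 9).filter _)]
    congr 1
    ext e
    simp
  have h := cayleyCheck_eq
  simp only [cayleyCheck, List.all_eq_true] at h
  have h' := h (mask S) (List.mem_range.2 hs)
  have hsy : sym9 (mask S) = true := by
    have e0 : (mask S).testBit 0 = false := by rw [← h0]; exact hS 0
    simp only [sym9, e0, Bool.not_false, Bool.true_and, List.all_eq_true, beq_iff_eq]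
    intro d _
    rw [hS, hS]
    exact hsym d
  simp only [hsy, Bool.not_true, Bool.false_or, List.all_eq_true] at h'
  have h'' := h' (mask T) (List.mem_range.2 ht)
  have hsz : size9 (mask S) + size9 (mask T) = 9 := by
    simp only [size9, hS, hT, hcount]
    exact hsize
  simp only [hsz, bne_self_eq_false, Bool.false_or, Bool.or_eq_true, beq_iff_eq,
    List.any_eq_true, Bool.and_eq_true, decide_eq_true_eq, bne_iff_ne, ne_eq,
    Bool.not_eq_true'] at h''
  rcases h'' with h'' | ⟨d, -, ⟨hd0, hdS⟩, hd⟩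
  · intro d hd
    rw [← hS, h'']
    revert d
    decide +kernel
  · exfalso
    rw [hS] at hdS
    have := hov d hd0 hdS
    simp only [overlap, hS, hT, hcount, Bool.and_eq_true] at hd
    omega

variable {G : Type u} [Group G] [Finite G]

open scoped Classical in
/-- The neighbours of a Sylow 3-subgroup. -/
noncomputable def nbrs (P : Sylow 3 G) : Finset (Sylow 3 G) :=
  haveI := Fintype.ofFinite (Sylow 3 G)
  Finset.univ.filter fun Q => Adj P Q

theorem mem_nbrs {P Q : Sylow 3 G} : Q ∈ nbrs P ↔ Adj P Q := by simp [nbrs]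

theorem card_nbrs [IsSimpleGroup G] (hG : Nat.card G = 7920) (P : Sylow 3 G) :
    (nbrs P).card = 18 := by
  classical
  haveI := Fintype.ofFinite (Sylow 3 G)
  rw [← (pair_orbits hG).2.2 P, Nat.card_eq_fintype_card, Fintype.card_subtype]
  congr 1
  ext Q; simp [mem_nbrs]

theorem common_smul [DecidableEq (Sylow 3 G)] (g : G) (P Q : Sylow 3 G) :
    (nbrs (g • P) ∩ nbrs (g • Q)).card = (nbrs P ∩ nbrs Q).card := by
  symm
  refine Finset.card_bij (fun R _ => g • R) (fun R hR => ?_) (fun a _ b _ h => smul_left_cancel g h)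
    fun R hR => ⟨g⁻¹ • R, ?_, smul_inv_smul _ _⟩
  · simp only [Finset.mem_inter, mem_nbrs] at hR ⊢
    exact ⟨(adj_smul g).2 hR.1, (adj_smul g).2 hR.2⟩
  · simp only [Finset.mem_inter, mem_nbrs] at hR ⊢
    refine ⟨(adj_smul g).1 ?_, (adj_smul g).1 ?_⟩
    · rw [smul_inv_smul]; exact hR.1
    · rw [smul_inv_smul]; exact hR.2

set_option maxHeartbeats 1000000 in
-- one long proof
theorem common_counts [IsSimpleGroup G] (hG : Nat.card G = 7920) [DecidableEq (Sylow 3 G)]
    {P Q : Sylow 3 G} (hPQ : P ≠ Q) :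
    (Adj P Q → (nbrs P ∩ nbrs Q).card = 9) ∧ (¬ Adj P Q → (nbrs P ∩ nbrs Q).card = 4) := by
  classical
  haveI := Fintype.ofFinite (Sylow 3 G)
  obtain ⟨hor, hconj, -⟩ := pair_orbits hG
  have h55 : Fintype.card (Sylow 3 G) = 55 := by
    rw [← Nat.card_eq_fintype_card, card_sylow_three hG]
  let P₀ : Sylow 3 G := P
  obtain ⟨Q₁, hQ₁⟩ := Finset.card_pos.1 (by rw [card_nbrs hG P₀]; norm_num : 0 < (nbrs P₀).card)
  obtain ⟨Q₂, hQ₂, hQ₂'⟩ : ∃ Q₂, Q₂ ≠ P₀ ∧ ¬ Adj P₀ Q₂ := by
    by_contra hc
    push Not at hc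
    have : Finset.univ.erase P₀ ⊆ nbrs P₀ := fun R hR =>
      mem_nbrs.2 (hc R (Finset.mem_erase.1 hR).1)
    have := Finset.card_le_card this
    rw [Finset.card_erase_of_mem (Finset.mem_univ _), Finset.card_univ, h55, card_nbrs hG] at this
    omega
  rw [mem_nbrs] at hQ₁
  set lam := (nbrs P₀ ∩ nbrs Q₁).card with hlam
  set mu := (nbrs P₀ ∩ nbrs Q₂).card with hmu
  have hlamAll : ∀ A B : Sylow 3 G, Adj A B → (nbrs A ∩ nbrs B).card = lam := fun A B h => by
    obtain ⟨g, h1, h2⟩ := hconj P₀ Q₁ A B hQ₁.1 h.1 (hQ₁.2.trans h.2.symm)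
    rw [← h1, ← h2, common_smul]
  have h4 : ∀ A B : Sylow 3 G, A ≠ B → ¬ Adj A B →
      Nat.card (MulAction.stabilizer G (A, B)) = 4 := fun A B h h' =>
    (hor A B h).resolve_left fun h8 => h' ⟨h, h8⟩
  have hmuAll : ∀ A B : Sylow 3 G, A ≠ B → ¬ Adj A B → (nbrs A ∩ nbrs B).card = mu :=
    fun A B h h' => by
      obtain ⟨g, h1, h2⟩ := hconj P₀ Q₂ A B hQ₂.symm h
        ((h4 _ _ hQ₂.symm hQ₂').trans (h4 _ _ h h').symm)
      rw [← h1, ← h2, common_smul]
  -- counting the pairs between the neighbours and the others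
  have hlm : lam + 2 * mu = 17 := by
    have h := Finset.sum_card_bipartiteAbove_eq_sum_card_bipartiteBelow
      (fun A B : Sylow 3 G => Adj A B) (s := nbrs P₀)
      (t := (Finset.univ : Finset (Sylow 3 G)))
    have hl : ∀ A ∈ nbrs P₀, (Finset.univ.bipartiteAbove (fun A B : Sylow 3 G => Adj A B) A).card =
        18 := fun A _ => by
      rw [show Finset.univ.bipartiteAbove (fun A B : Sylow 3 G => Adj A B) A = nbrs A by
        ext; simp [Finset.bipartiteAbove, mem_nbrs]]
      exact card_nbrs hG A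
    have hr : ∀ B, ((nbrs P₀).bipartiteBelow (fun A B : Sylow 3 G => Adj A B) B) =
        nbrs P₀ ∩ nbrs B := fun B => by
      ext; simp [Finset.bipartiteBelow, mem_nbrs]
      exact fun _ => ⟨Adj.symm, Adj.symm⟩
    rw [Finset.sum_congr rfl hl, Finset.sum_const, card_nbrs hG, smul_eq_mul,
      Finset.sum_congr rfl (fun B _ => congrArg Finset.card (hr B)),
      ← Finset.add_sum_erase _ _ (Finset.mem_univ P₀), Finset.inter_self, card_nbrs hG,
      ← Finset.sum_filter_add_sum_filter_not (Finset.univ.erase P₀) (fun B => Adj P₀ B)] at h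
    have e1 : (Finset.univ.erase P₀).filter (fun B => Adj P₀ B) = nbrs P₀ := by
      ext B; simp only [Finset.mem_filter, Finset.mem_erase, Finset.mem_univ, and_true, mem_nbrs]
      exact ⟨fun h => h.2, fun h => ⟨h.1.symm, h⟩⟩
    have e2 : ((Finset.univ.erase P₀).filter (fun B => ¬ Adj P₀ B)).card = 36 := by
      have h := Finset.card_filter_add_card_filter_not (s := Finset.univ.erase P₀)
        (p := fun B => Adj P₀ B)
      rw [e1, card_nbrs hG, Finset.card_erase_of_mem (Finset.mem_univ _), Finset.card_univ, h55] at h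
      omega
    rw [e1, Finset.sum_congr rfl (fun B hB => hlamAll P₀ B (mem_nbrs.1 hB)),
      Finset.sum_congr (rfl : (Finset.univ.erase P₀).filter (fun B => ¬ Adj P₀ B) = _)
        (fun B hB => hmuAll P₀ B (Finset.mem_erase.1 (Finset.mem_filter.1 hB).1).1.symm
          (Finset.mem_filter.1 hB).2),
      Finset.sum_const, Finset.sum_const, card_nbrs hG, e2, smul_eq_mul, smul_eq_mul] at h
    omega
  have hmu4 : mu = 4 := by
    refine parameters h55 (Matrix.of fun A B : Sylow 3 G => if Adj A B then (1 : ℝ) else 0) lam mu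
      hlm (fun a => ?_) (fun a => ?_) (fun b => ?_) fun a b => ?_
    · simp [Adj]
    · simp only [Matrix.of_apply, Finset.sum_boole]
      rw [show (Finset.univ.filter fun B => Adj a B) = nbrs a by ext; simp [mem_nbrs], card_nbrs hG]
      norm_num
    · simp only [Matrix.of_apply, Finset.sum_boole]
      rw [show (Finset.univ.filter fun A => Adj A b) = nbrs b by
        ext; simp [mem_nbrs]; exact ⟨Adj.symm, Adj.symm⟩, card_nbrs hG]
      norm_num
    · have e : ∀ j, (if Adj a j then (1 : ℝ) else 0) * (if Adj j b then (1 : ℝ) else 0) =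
          if j ∈ nbrs a ∩ nbrs b then 1 else 0 := fun j => by
        by_cases h1 : Adj a j <;> by_cases h2 : Adj b j <;>
          simp [mem_nbrs, h1, h2, show Adj j b ↔ Adj b j from ⟨Adj.symm, Adj.symm⟩]
      rw [Matrix.mul_apply]
      simp only [Matrix.of_apply]
      rw [Finset.sum_congr rfl fun j _ => e j, Finset.sum_boole, Finset.filter_univ_mem]
      by_cases hab : a = b
      · subst hab
        rw [Finset.inter_self, card_nbrs hG, if_pos rfl, if_neg (fun h => h.1 rfl)]
        norm_num
      · rw [if_neg hab]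
        by_cases h : Adj a b
        · rw [hlamAll a b h, if_pos h]; ring
        · rw [hmuAll a b hab h, if_neg h]; ring
  have hlam9 : lam = 9 := by omega
  exact ⟨fun h => (hlamAll P Q h).trans hlam9, fun h => (hmuAll P Q hPQ h).trans hmu4⟩

/-- An isomorphism of the affine plane of order three with a Sylow 3-subgroup. -/
theorem exists_param [IsSimpleGroup G] (hG : Nat.card G = 7920) (P : Sylow 3 G) :
    ∃ φ : Fin 9 → (P : Subgroup G), Function.Bijective φ ∧ φ 0 = 1 ∧
      ∀ a b, φ (sub9 a b) = φ a * (φ b)⁻¹ := by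
  classical
  haveI : Fact (Nat.Prime 3) := ⟨by norm_num⟩
  have hc := sylow_three_card hG P
  have hcube : ∀ a : (P : Subgroup G), a ^ 3 = 1 := by
    intro a
    obtain ⟨k, hk, hak⟩ := (Nat.dvd_prime_pow (by norm_num : Nat.Prime 3)).1
      (hc ▸ orderOf_dvd_natCard a : orderOf a ∣ 3 ^ 2)
    interval_cases k
    · have h1 : a = 1 := orderOf_eq_one_iff.1 (by simpa using hak)
      rw [h1, one_pow]
    · have h1 : orderOf a = 3 := by simpa using hak
      have h2 := pow_orderOf_eq_one a
      rwa [h1] at h2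
    · exfalso
      -- a cyclic Sylow subgroup has at most two elements of order three
      have htop : Subgroup.zpowers a = ⊤ :=
        Subgroup.eq_top_of_card_eq _ (by rw [Nat.card_zpowers, hak, hc])
      set v : G := ((a ^ 3 : (P : Subgroup G)) : G) with hv
      have hvo : orderOf v = 3 := by
        rw [hv, Subgroup.orderOf_coe, orderOf_pow' a (by norm_num), hak]; rfl
      obtain ⟨z, hz⟩ := exists_prime_orderOf_dvd_card' 2 (hp := ⟨by norm_num⟩)
        (G := Subgroup.centralizer ({v} : Set G)) (by rw [(order_three hG hvo).1]; norm_num)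
      have hzP : (z : G) • P = P := by
        have hfix : v • P = P := by
          have h : v ∈ MulAction.stabilizer G P := by
            rw [Sylow.stabilizer_eq_normalizer]
            exact Subgroup.le_normalizer (a ^ 3).2
          exact h
        refine fixed_three_unique hG hvo hfix ?_
        rw [← mul_smul, ← Subgroup.mem_centralizer_singleton_iff.1 z.2, mul_smul, hfix]
      have hzN : (z : G) ∈ MulAction.stabilizer G P := hzP
      rw [Sylow.stabilizer_eq_normalizer] at hzN
      have hga : (z : G) * (a : G) * (z : G)⁻¹ ∈ (P : Subgroup G) :=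
        (Subgroup.mem_normalizer_iff.1 hzN _).1 a.2
      have hmem : (⟨_, hga⟩ : (P : Subgroup G)) ∈ Subgroup.zpowers a := htop ▸ Subgroup.mem_top _
      rw [← mem_powers_iff_mem_zpowers, Submonoid.mem_powers_iff] at hmem
      obtain ⟨m, hm⟩ := hmem
      have hm' : (a : G) ^ m = (z : G) * (a : G) * (z : G)⁻¹ := by
        simpa using congrArg Subtype.val hm
      have hga9 : orderOf (a : G) = 9 := by rw [Subgroup.orderOf_coe, hak]; norm_num
      have hva : v = (a : G) ^ 3 := by rw [hv]; simp
      have hzv : (z : G) * v * (z : G)⁻¹ = v := by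
        rw [mul_inv_eq_iff_eq_mul]; exact Subgroup.mem_centralizer_singleton_iff.1 z.2
      have h2 : (z : G) * (z : G) = 1 := by
        rw [← sq, ← hz, ← Subgroup.orderOf_coe, pow_orderOf_eq_one]
      have h3m : 3 * m ≡ 3 [MOD 9] := by
        rw [← hga9, ← pow_eq_pow_iff_modEq, mul_comm, pow_mul, hm', conj_pow, ← hva, hzv]
      have h2m : m * m ≡ 1 [MOD 9] := by
        rw [← hga9, ← pow_eq_pow_iff_modEq, pow_one, pow_mul, hm', conj_pow, hm',
          show (z : G)⁻¹ = z from inv_eq_of_mul_eq_one_right h2,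
          show (z : G) * ((z : G) * a * z) * z = ((z : G) * z) * a * (z * z) by group, h2,
          one_mul, mul_one]
      have hm9 : (a : G) ^ m = (a : G) := by
        conv_rhs => rw [← pow_one (a : G)]
        rw [pow_eq_pow_iff_modEq, hga9]
        unfold Nat.ModEq at h3m h2m ⊢
        have := Nat.mod_lt m (by norm_num : 0 < 9)
        rw [Nat.mul_mod] at h2m h3m
        interval_cases hr : m % 9 <;> revert h2m h3m <;> decide
      rw [hm', mul_inv_eq_iff_eq_mul] at hm9
      have hgC : (a : G) ∈ Subgroup.centralizer ({(z : G)} : Set G) :=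
        Subgroup.mem_centralizer_singleton_iff.2 hm9.symm
      haveI : Fact (Nat.Prime 11) := ⟨by norm_num⟩
      haveI : Fact (Nat.Prime 5) := ⟨by norm_num⟩
      obtain ⟨x, hx⟩ := exists_prime_orderOf_dvd_card' 11 (G := G) (by rw [hG]; norm_num)
      obtain ⟨y, hy⟩ := exists_prime_orderOf_dvd_card' 5 (G := G) (by rw [hG]; norm_num)
      obtain ⟨f, -, -, -, -, -, -, h48⟩ :=
        exists_table_involution hG hx hy (z := (z : G)) (by rw [Subgroup.orderOf_coe, hz])
      have := (Subgroup.centralizer ({(z : G)} : Set G)).orderOf_dvd_natCard hgC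
      rw [hga9, h48] at this
      norm_num at this
  obtain ⟨a, ha⟩ := exists_prime_orderOf_dvd_card' 3 (G := (P : Subgroup G))
    (by rw [hc]; norm_num)
  obtain ⟨b, hb⟩ : ∃ b : (P : Subgroup G), b ∉ Subgroup.zpowers a := by
    by_contra h
    push Not at h
    have : Subgroup.zpowers a = ⊤ := (Subgroup.eq_top_iff' _).2 h
    have h' := congrArg (fun H : Subgroup (P : Subgroup G) => Nat.card H) this
    simp only [Nat.card_zpowers, ha, Subgroup.card_top] at h'
    rw [hc] at h'
    norm_num at h'
  have hcomm : Commute a b := Subtype.ext (sylow_three_comm hG P a.2 b.2)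
  let φ : Fin 9 → (P : Subgroup G) := fun i => a ^ (i.val / 3) * b ^ (i.val % 3)
  have hinj : Function.Injective φ := by
    intro i j h
    simp only [φ] at h
    have e1 : ∀ k : ℕ, a ^ k ∈ Subgroup.zpowers a := fun k =>
      Subgroup.pow_mem _ (Subgroup.mem_zpowers a) k
    have key : b ^ (i.val % 3 + (3 - j.val % 3)) ∈ Subgroup.zpowers a := by
      have h3 : b ^ (i.val % 3 + (3 - j.val % 3)) =
          (a ^ (i.val / 3))⁻¹ * a ^ (j.val / 3) := by
        have h4 : b ^ (i.val % 3) = (a ^ (i.val / 3))⁻¹ * (a ^ (j.val / 3) * b ^ (j.val % 3)) := by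
          rw [← h, inv_mul_cancel_left]
        rw [pow_add, h4, mul_assoc, mul_assoc, ← pow_add,
          show j.val % 3 + (3 - j.val % 3) = 3 by omega, hcube, mul_one]
      rw [h3]
      exact Subgroup.mul_mem _ (Subgroup.inv_mem _ (e1 _)) (e1 _)
    have hmod : i.val % 3 = j.val % 3 := by
      by_contra hne
      apply hb
      have hb3 := hcube b
      obtain ⟨r, hr⟩ : ∃ r, r = (i.val % 3 + (3 - j.val % 3)) % 3 := ⟨_, rfl⟩
      rw [pow_eq_pow_mod _ hb3, ← hr] at key
      rcases (by omega : r = 1 ∨ r = 2) with rfl | rfl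
      · simpa using key
      · have h5 := Subgroup.pow_mem _ key 2
        rwa [← pow_mul, pow_eq_pow_mod _ hb3, show 2 * 2 % 3 = 1 from rfl, pow_one] at h5
    rw [hmod] at h
    have h4 := mul_right_cancel h
    rw [pow_inj_mod, ha] at h4
    apply Fin.ext
    omega
  refine ⟨φ, ⟨hinj, (hinj.bijective_of_nat_card_le (by rw [hc, Nat.card_fin]; norm_num)).2⟩,
    by simp [φ], fun i j => ?_⟩
  simp only [φ, sub9]
  have hd : ∀ p q : ℕ, p < 3 → q < 3 → (3 * p + q) / 3 = p ∧ (3 * p + q) % 3 = q := by
    intro p q hp hq; omega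
  obtain ⟨d1, d2⟩ := hd ((i.val / 3 + 3 - j.val / 3) % 3) ((i.val % 3 + 3 - j.val % 3) % 3)
    (Nat.mod_lt _ (by norm_num)) (Nat.mod_lt _ (by norm_num))
  rw [d1, d2, ← pow_eq_pow_mod _ (hcube a), ← pow_eq_pow_mod _ (hcube b), mul_inv_rev,
    eq_comm, mul_assoc, ← mul_assoc (b ^ (i.val % 3))]
  have hb' : ∀ u w : ℕ, w ≤ 3 → ∀ c : (P : Subgroup G), c ^ u * (c ^ w)⁻¹ = c ^ (u + 3 - w) := by
    intro u w hw c
    rw [mul_inv_eq_iff_eq_mul, ← pow_add, show u + 3 - w + w = u + 3 by omega, pow_add, hcube,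
      mul_one]
  rw [hb' _ _ (by omega) b, ((hcomm.pow_pow (j.val / 3) (i.val % 3 + 3 - j.val % 3)).symm.inv_right).eq,
    ← mul_assoc, hb' _ _ (by omega) a]

end Cfsg.Agent.Lib.Characters.Order7920
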